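import Mathlib
import Cfsg.Prelude.Def_LieExceptional
import Cfsg.Prelude.Def_LieRecognition
import Cfsg.Agent.Mrg.Omega.BTwo.Conj
import Cfsg.Agent.S0022

section


/-!
# Rank two: from a braid relation to a split BN-pair

`Frame G`: subgroups `B`, `H ≤ B`, `P i` (`i : Bool`) with `P i = B ∪ B (n i) B`, `n i` normalising
`H`, the group `H` having only the two fixed chambers `B`, `n i B` in `P i / B`.
`PathTo F k`: the alternating galleries of length `k + 1` extending the standard one of length `k`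
are conjugate under `B`.  With `PathTo F k` for all `k < m` and the braid relation of length `m`
modulo `H₁ = N_B(H)` the pair `(B, ⟨n₀, n₁⟩H₁)` is a BN-pair of rank two.
-/

set_option autoImplicit false

namespace Cfsg.Agent.RankTwoClose

/-- The alternating word of length `k` in `n` with first letter `n i`. -/
def alt {G : Type*} [Group G] (n : Bool → G) : Bool → ℕ → G
  | _, 0 => 1
  | i, k + 1 => n i * alt n (!i) k

section Alt

variable {G : Type*} [Group G] (n : Bool → G)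

@[simp] theorem alt_zero (i : Bool) : alt n i 0 = 1 := rfl

theorem alt_succ (i : Bool) (k : ℕ) : alt n i (k + 1) = n i * alt n (!i) k := rfl

@[simp] theorem alt_one (i : Bool) : alt n i 1 = n i := by simp [alt_succ]

/-- The letter in position `k` of an alternating word starting with `i`. -/
def nxt (i : Bool) (k : ℕ) : Bool := xor i k.bodd

@[simp] theorem nxt_zero (i : Bool) : nxt i 0 = i := by simp [nxt]

theorem nxt_succ (i : Bool) (k : ℕ) : nxt i (k + 1) = !(nxt i k) := by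
  simp [nxt, Nat.bodd_succ]

theorem nxt_not (i : Bool) (k : ℕ) : nxt (!i) k = !(nxt i k) := by
  cases i <;> simp [nxt]

theorem alt_succ' (i : Bool) (k : ℕ) : alt n i (k + 1) = alt n i k * n (nxt i k) := by
  induction k generalizing i with
  | zero => simp
  | succ k ih =>
    rw [alt_succ, ih (!i), alt_succ n i k, mul_assoc]
    congr 3
    rw [nxt_not, nxt_succ]

end Alt

/-- The data of a rank two amalgam of minimal parabolic subgroups in a group `G`. -/
structure Frame (G : Type*) [Group G] where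
  /-- the Borel subgroup -/
  B : Subgroup G
  /-- the torus -/
  H : Subgroup G
  /-- the two minimal parabolics -/
  P : Bool → Subgroup G
  /-- the reflections -/
  n : Bool → G
  memP : ∀ i x, x ∈ P i ↔ x ∈ B ∨ ∃ b ∈ B, ∃ c ∈ B, x = b * n i * c
  inter : P false ⊓ P true = B
  H_le : H ≤ B
  n_norm : ∀ i, n i ∈ Subgroup.normalizer (H : Set G)
  n_not : ∀ i, n i ∉ B
  /-- the torus fixes only the chambers `B` and `n i B` of the panel of type `i` -/
  two : ∀ i, ∀ g ∈ P i, (∀ h ∈ H, g⁻¹ * h * g ∈ B) → g ∈ B ∨ (n i)⁻¹ * g ∈ B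

namespace Frame

variable {G : Type*} [Group G] (F : Frame G)

/-- `N_B(H)`. -/
def H₁ : Subgroup G := F.B ⊓ Subgroup.normalizer (F.H : Set G)

theorem H₁_le : F.H₁ ≤ F.B := inf_le_left

theorem H₁_norm : F.H₁ ≤ Subgroup.normalizer (F.H : Set G) := inf_le_right

theorem B_le (i : Bool) : F.B ≤ F.P i := fun _ hx => (F.memP i _).2 (Or.inl hx)

theorem n_mem (i : Bool) : F.n i ∈ F.P i :=
  (F.memP i _).2 (Or.inr ⟨1, one_mem _, 1, one_mem _, by simp⟩)

theorem two' {i : Bool} {g : G} (hg : g ∈ F.P i) (hN : g ∈ Subgroup.normalizer (F.H : Set G)) :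
    g ∈ F.H₁ ∨ (F.n i)⁻¹ * g ∈ F.H₁ := by
  have h1 : ∀ h ∈ F.H, g⁻¹ * h * g ∈ F.B := by
    intro h hh
    have := (Subgroup.mem_normalizer_iff.1 (inv_mem hN) h).1 hh
    rw [inv_inv] at this
    exact F.H_le this
  rcases F.two i g hg h1 with h | h
  · exact Or.inl (Subgroup.mem_inf.2 ⟨h, hN⟩)
  · exact Or.inr (Subgroup.mem_inf.2 ⟨h, mul_mem (inv_mem (F.n_norm i)) hN⟩)

theorem conj_mem (i : Bool) {h : G} (hh : h ∈ F.H₁) : F.n i * h * (F.n i)⁻¹ ∈ F.H₁ := by
  have h1 : F.n i * h * (F.n i)⁻¹ ∈ F.P i :=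
    mul_mem (mul_mem (F.n_mem i) (F.B_le i (F.H₁_le hh))) (inv_mem (F.n_mem i))
  have h2 : F.n i * h * (F.n i)⁻¹ ∈ Subgroup.normalizer (F.H : Set G) :=
    mul_mem (mul_mem (F.n_norm i) (F.H₁_norm hh)) (inv_mem (F.n_norm i))
  rcases F.two' h1 h2 with h3 | h3
  · exact h3
  · exfalso
    have h4 : (F.n i)⁻¹ * (F.n i * h * (F.n i)⁻¹) = h * (F.n i)⁻¹ := by group
    rw [h4] at h3
    have h5 : (F.n i)⁻¹ ∈ F.H₁ := (F.H₁.mul_mem_cancel_left hh).1 h3
    exact F.n_not i (F.H₁_le (inv_mem_iff.1 h5))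

theorem sq_mem (i : Bool) : F.n i * F.n i ∈ F.H₁ := by
  rcases F.two' (mul_mem (F.n_mem i) (F.n_mem i)) (mul_mem (F.n_norm i) (F.n_norm i)) with h | h
  · exact h
  · exfalso
    rw [inv_mul_cancel_left] at h
    exact F.n_not i (F.H₁_le h)

theorem conj_mem' (i : Bool) {h : G} (hh : h ∈ F.H₁) : (F.n i)⁻¹ * h * F.n i ∈ F.H₁ := by
  -- `n⁻¹ = n * n⁻²`
  have h1 := F.sq_mem i
  have h2 : (F.n i)⁻¹ * h * F.n i =
      F.n i * ((F.n i * F.n i)⁻¹ * h * (F.n i * F.n i)) * (F.n i)⁻¹ := by group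
  rw [h2]
  exact F.conj_mem i (mul_mem (mul_mem (inv_mem h1) hh) h1)

/-- Elements normalising `H₁`. -/
theorem n_mem_norm (i : Bool) : F.n i ∈ Subgroup.normalizer (F.H₁ : Set G) := by
  rw [Subgroup.mem_normalizer_iff]
  intro h
  refine ⟨F.conj_mem i, fun hh => ?_⟩
  have := F.conj_mem' i hh
  have e : (F.n i)⁻¹ * (F.n i * h * (F.n i)⁻¹) * F.n i = h := by group
  rwa [e] at this

theorem alt_mem_norm (i : Bool) (k : ℕ) : alt F.n i k ∈ Subgroup.normalizer (F.H₁ : Set G) := by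
  induction k generalizing i with
  | zero => exact one_mem _
  | succ k ih => exact mul_mem (F.n_mem_norm i) (ih _)

theorem alt_mem_norm' (i : Bool) (k : ℕ) : alt F.n i k ∈ Subgroup.normalizer (F.H : Set G) := by
  induction k generalizing i with
  | zero => exact one_mem _
  | succ k ih => exact mul_mem (F.n_norm i) (ih _)

/-- The galleries of length `k + 1` with the first `k` steps standard are conjugate. -/
def PathTo (k : ℕ) : Prop :=
  ∀ i, ∀ b ∈ F.B, ∃ c ∈ F.B, ∃ d ∈ F.B, alt F.n i k * b * F.n (nxt i k) = c * alt F.n i (k + 1) * d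

/-- `PathTo k` from root groups: `B = X (B ∩ nBn⁻¹)` and the word of length `k` conjugates `X` into
`B`. -/
theorem pathTo_of_root {k : ℕ} (X : Bool → Set G)
    (hX : ∀ i, ∀ b ∈ F.B, ∃ x ∈ X i, ∃ c ∈ F.B, b = x * c ∧ (F.n i)⁻¹ * c * F.n i ∈ F.B)
    (hw : ∀ i, ∀ x ∈ X (nxt i k), alt F.n i k * x * (alt F.n i k)⁻¹ ∈ F.B) : F.PathTo k := by
  intro i b hb
  obtain ⟨x, hx, c, -, rfl, hc⟩ := hX (nxt i k) b hb
  refine ⟨_, hw i x hx, _, hc, ?_⟩
  rw [alt_succ']
  group

/-- The set of all `alt i k * h` with `k ≤ m`. -/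
def Words (m : ℕ) : Set G := {g | ∃ i, ∃ k ≤ m, ∃ h ∈ F.H₁, g = alt F.n i k * h}

/-- The group generated by the reflections and `H₁`. -/
def N : Subgroup G := Subgroup.closure {F.n false, F.n true} ⊔ F.H₁

theorem n_mem_N (i : Bool) : F.n i ∈ F.N := by
  refine Subgroup.mem_sup_left (Subgroup.subset_closure ?_)
  cases i <;> simp

theorem H₁_le_N : F.H₁ ≤ F.N := le_sup_right

theorem N_le_norm : F.N ≤ Subgroup.normalizer (F.H₁ : Set G) := by
  refine sup_le ?_ Subgroup.le_normalizer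
  rw [Subgroup.closure_le]
  rintro x (rfl | rfl)
  · exact F.n_mem_norm false
  · exact F.n_mem_norm true

theorem N_le_norm' : F.N ≤ Subgroup.normalizer (F.H : Set G) := by
  refine sup_le ?_ F.H₁_norm
  rw [Subgroup.closure_le]
  rintro x (rfl | rfl)
  · exact F.n_norm false
  · exact F.n_norm true

theorem B_inf_N : F.B ⊓ F.N = F.H₁ :=
  le_antisymm (fun _ hx => ⟨hx.1, F.N_le_norm' hx.2⟩) (le_inf F.H₁_le F.H₁_le_N)

/-- The braid relation of length `m`. -/
def Braid (m : ℕ) : Prop := ∃ h ∈ F.H₁, alt F.n true m = alt F.n false m * h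

variable {F}

theorem Braid.all {m : ℕ} (hb : F.Braid m) (i : Bool) :
    ∃ h ∈ F.H₁, alt F.n (!i) m = alt F.n i m * h := by
  obtain ⟨h, hh, e⟩ := hb
  cases i
  · exact ⟨h, hh, e⟩
  · refine ⟨h⁻¹, inv_mem hh, ?_⟩
    show alt F.n false m = _
    rw [e, mul_assoc, mul_inv_cancel, mul_one]

theorem mul_words {m : ℕ} (hb : F.Braid m) (hm : 1 ≤ m) (j : Bool) {g : G} (hg : g ∈ F.Words m) :
    F.n j * g ∈ F.Words m := by
  obtain ⟨i, k, hk, h, hh, rfl⟩ := hg
  -- reduction to words starting with the other letter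
  have key : ∀ k ≤ m, ∀ h ∈ F.H₁, F.n j * (alt F.n j k * h) ∈ F.Words m := by
    intro k hk h hh
    cases k with
    | zero => exact ⟨j, 1, hm, h, hh, by simp⟩
    | succ k =>
      have h1 := F.alt_mem_norm (!j) k
      rw [Subgroup.mem_normalizer_iff''] at h1
      have h2 := (h1 _).1 (F.sq_mem j)
      refine ⟨!j, k, by omega, _, mul_mem h2 hh, ?_⟩
      rw [alt_succ]
      group
  by_cases hij : i = j
  · subst hij; exact key k hk h hh
  · have hij' : i = !j := by cases i <;> cases j <;> simp_all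
    subst hij'
    rcases Nat.lt_or_ge k m with h1 | h1
    · exact ⟨j, k + 1, h1, h, hh, by rw [alt_succ, mul_assoc]⟩
    · have hkm : k = m := le_antisymm hk h1
      subst hkm
      obtain ⟨h', hh', e⟩ := hb.all j
      rw [e, mul_assoc]
      exact key k le_rfl _ (mul_mem hh' hh)

theorem mem_words {m : ℕ} (hb : F.Braid m) (hm : 1 ≤ m) {g : G} (hg : g ∈ F.N) :
    g ∈ F.Words m := by
  have hinv : ∀ j, ∀ g ∈ F.Words m, (F.n j)⁻¹ * g ∈ F.Words m := by
    intro j g hg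
    -- `n⁻¹ = n * n⁻²`, and `n⁻² ∈ H₁` is absorbed on the right
    obtain ⟨i, k, hk, h, hh, rfl⟩ := hg
    have h1 := F.alt_mem_norm i k
    rw [Subgroup.mem_normalizer_iff''] at h1
    have h2 := (h1 _).1 (inv_mem (F.sq_mem j))
    have e : (F.n j)⁻¹ * (alt F.n i k * h) =
        F.n j * (alt F.n i k * (((alt F.n i k)⁻¹ * (F.n j * F.n j)⁻¹ * alt F.n i k) * h)) := by
      group
    rw [e]
    exact mul_words hb hm j ⟨i, k, hk, _, mul_mem h2 hh, rfl⟩
  have hH : ∀ t ∈ F.H₁, ∀ g ∈ F.Words m, t * g ∈ F.Words m := by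
    rintro t ht g ⟨i, k, hk, h, hh, rfl⟩
    have h1 := F.alt_mem_norm i k
    rw [Subgroup.mem_normalizer_iff''] at h1
    exact ⟨i, k, hk, _, mul_mem ((h1 _).1 ht) hh, by group⟩
  have hone : (1 : G) ∈ F.Words m := ⟨false, 0, Nat.zero_le _, 1, one_mem _, by simp⟩
  have hN : F.N = Subgroup.closure ({F.n false, F.n true} ∪ (F.H₁ : Set G)) := by
    rw [Subgroup.closure_union, Subgroup.closure_eq]
    rfl
  -- all products
  have hall : ∀ x ∈ F.N, ∀ g ∈ F.Words m, x * g ∈ F.Words m := by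
    intro x hx
    rw [hN] at hx
    induction hx using Subgroup.closure_induction'' with
    | one => intro g hg; rwa [one_mul]
    | mem x hx =>
      rintro g hg
      rcases hx with (rfl | rfl) | hx
      · exact mul_words hb hm false hg
      · exact mul_words hb hm true hg
      · exact hH x hx g hg
    | inv_mem x hx =>
      rintro g hg
      rcases hx with (rfl | rfl) | hx
      · exact hinv false g hg
      · exact hinv true g hg
      · exact hH _ (inv_mem (show x ∈ F.H₁ from hx)) g hg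
    | mul x y _ _ hx hy =>
      intro g hg
      rw [mul_assoc]
      exact hx _ (hy g hg)
  simpa using hall g hg 1 hone

/-- Double coset form of `P i = B ∪ B (n i) B`. -/
theorem n_mul_n (i : Bool) {b : G} (hb : b ∈ F.B) :
    F.n i * b * F.n i ∈ F.B ∨ ∃ c ∈ F.B, ∃ d ∈ F.B, F.n i * b * F.n i = c * F.n i * d := by
  have h1 : F.n i * b * F.n i ∈ F.P i := mul_mem (mul_mem (F.n_mem i) (F.B_le i hb)) (F.n_mem i)
  exact (F.memP i _).1 h1

/-- The double coset condition, on the right. -/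
theorem bn_right {m : ℕ} (hbr : F.Braid m) (hm : 1 ≤ m) (hp : ∀ k < m, F.PathTo k) {w : G}
    (hw : w ∈ F.N) {b : G} (hb : b ∈ F.B) (j : Bool) :
    (∃ c ∈ F.B, ∃ d ∈ F.B, w * b * F.n j = c * (w * F.n j) * d) ∨
      ∃ c ∈ F.B, ∃ d ∈ F.B, w * b * F.n j = c * w * d := by
  -- words without the part in `H₁`
  have key : ∀ i, ∀ k ≤ m, ∀ b ∈ F.B,
      (∃ c ∈ F.B, ∃ d ∈ F.B, alt F.n i k * b * F.n j = c * (alt F.n i k * F.n j) * d) ∨
      ∃ c ∈ F.B, ∃ d ∈ F.B, alt F.n i k * b * F.n j = c * alt F.n i k * d := by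
    -- `j` is the last letter
    have last : ∀ i, ∀ k < m, nxt i k = j → ∀ b ∈ F.B,
        (∃ c ∈ F.B, ∃ d ∈ F.B, alt F.n i (k + 1) * b * F.n j =
          c * (alt F.n i (k + 1) * F.n j) * d) ∨
        ∃ c ∈ F.B, ∃ d ∈ F.B, alt F.n i (k + 1) * b * F.n j = c * alt F.n i (k + 1) * d := by
      intro i k hk hj b hb
      subst hj
      rcases F.n_mul_n (nxt i k) hb with h1 | ⟨c, hc, d, hd, h1⟩
      · left
        refine ⟨1, one_mem _, (F.n (nxt i k) * F.n (nxt i k))⁻¹ * (F.n (nxt i k) * b * F.n (nxt i k)),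
          mul_mem (inv_mem (F.H₁_le (F.sq_mem _))) h1, ?_⟩
        rw [alt_succ']
        group
      · right
        obtain ⟨c', hc', d', hd', h2⟩ := hp k hk i c hc
        refine ⟨c', hc', d' * d, mul_mem hd' hd, ?_⟩
        calc alt F.n i (k + 1) * b * F.n (nxt i k)
            = alt F.n i k * (F.n (nxt i k) * b * F.n (nxt i k)) := by rw [alt_succ']; group
          _ = (alt F.n i k * c * F.n (nxt i k)) * d := by rw [h1]; group
          _ = _ := by rw [h2]; group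
    intro i k hk b hb
    cases k with
    | zero =>
      left
      obtain ⟨c, hc, d, hd, h⟩ := hp 0 (by omega) j b hb
      refine ⟨c, hc, d, hd, ?_⟩
      simpa using h
    | succ k =>
      by_cases hj : nxt i k = j
      · exact last i k (by omega) hj b hb
      · have hj' : nxt i (k + 1) = j := by
          rw [nxt_succ]
          revert hj
          cases nxt i k <;> cases j <;> simp
        rcases Nat.lt_or_ge (k + 1) m with h1 | h1
        · left
          obtain ⟨c, hc, d, hd, h⟩ := hp (k + 1) h1 i b hb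
          rw [hj'] at h
          refine ⟨c, hc, d, hd, ?_⟩
          rw [h, alt_succ', hj']
        · have hkm : k + 1 = m := le_antisymm hk h1
          obtain ⟨h', hh', e⟩ := hbr.all (!i)
          rw [Bool.not_not, ← hkm] at e
          have hj2 : nxt (!i) k = j := by rw [nxt_not, ← nxt_succ, hj']
          have hcj := F.conj_mem' j hh'
          rcases last (!i) k (by omega) hj2 (h' * b) (mul_mem (F.H₁_le hh') hb) with
            ⟨c, hc, d, hd, h⟩ | ⟨c, hc, d, hd, h⟩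
          · left
            refine ⟨c, hc, ((F.n j)⁻¹ * h' * F.n j)⁻¹ * d, mul_mem (inv_mem (F.H₁_le hcj)) hd, ?_⟩
            rw [e]
            calc alt F.n (!i) (k + 1) * h' * b * F.n j
                = alt F.n (!i) (k + 1) * (h' * b) * F.n j := by group
              _ = _ := by rw [h]; group
          · right
            refine ⟨c, hc, h'⁻¹ * d, mul_mem (inv_mem (F.H₁_le hh')) hd, ?_⟩
            rw [e]
            calc alt F.n (!i) (k + 1) * h' * b * F.n j
                = alt F.n (!i) (k + 1) * (h' * b) * F.n j := by group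
              _ = _ := by rw [h]; group
  obtain ⟨i, k, hk, h, hh, rfl⟩ := mem_words hbr hm hw
  have hcj := F.conj_mem' j hh
  rcases key i k hk (h * b) (mul_mem (F.H₁_le hh) hb) with ⟨c, hc, d, hd, e⟩ | ⟨c, hc, d, hd, e⟩
  · left
    refine ⟨c, hc, ((F.n j)⁻¹ * h * F.n j)⁻¹ * d, mul_mem (inv_mem (F.H₁_le hcj)) hd, ?_⟩
    calc alt F.n i k * h * b * F.n j = alt F.n i k * (h * b) * F.n j := by group
      _ = _ := by rw [e]; group
  · right
    refine ⟨c, hc, h⁻¹ * d, mul_mem (inv_mem (F.H₁_le hh)) hd, ?_⟩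
    calc alt F.n i k * h * b * F.n j = alt F.n i k * (h * b) * F.n j := by group
      _ = _ := by rw [e]; group

/-- The double coset condition, on the left. -/
theorem bn_left {m : ℕ} (hbr : F.Braid m) (hm : 1 ≤ m) (hp : ∀ k < m, F.PathTo k) {w : G}
    (hw : w ∈ F.N) {b : G} (hb : b ∈ F.B) (j : Bool) :
    (∃ c ∈ F.B, ∃ d ∈ F.B, F.n j * b * w = c * (F.n j * w) * d) ∨
      ∃ c ∈ F.B, ∃ d ∈ F.B, F.n j * b * w = c * w * d := by
  have hsq := F.sq_mem j
  -- `n b w = (w⁻¹ ((n²)b)⁻¹ n)⁻¹`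
  rcases bn_right hbr hm hp (inv_mem hw) (inv_mem (mul_mem (F.H₁_le hsq) hb)) j with
    ⟨c, hc, d, hd, e⟩ | ⟨c, hc, d, hd, e⟩
  · left
    refine ⟨d⁻¹ * (F.n j * F.n j)⁻¹, mul_mem (inv_mem hd) (inv_mem (F.H₁_le hsq)), c⁻¹,
      inv_mem hc, ?_⟩
    have e2 : F.n j * b * w = (w⁻¹ * (F.n j * F.n j * b)⁻¹ * F.n j)⁻¹ := by group
    rw [e2, e]
    group
  · right
    refine ⟨d⁻¹, inv_mem hd, c⁻¹, inv_mem hc, ?_⟩
    have e2 : F.n j * b * w = (w⁻¹ * (F.n j * F.n j * b)⁻¹ * F.n j)⁻¹ := by group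
    rw [e2, e]
    group

variable (F)

theorem n_notMem_of_ne {i j : Bool} (hij : i ≠ j) : F.n i ∉ F.P j := by
  intro h
  have h1 : F.n i ∈ F.P false ⊓ F.P true := by
    rw [Subgroup.mem_inf]
    cases i <;> cases j
    · exact absurd rfl hij
    · exact ⟨F.n_mem _, h⟩
    · exact ⟨h, F.n_mem _⟩
    · exact absurd rfl hij
  rw [F.inter] at h1
  exact F.n_not i h1

theorem n_ne : F.n false ≠ F.n true := by
  intro h
  refine F.n_notMem_of_ne (i := false) (j := true) (by simp) ?_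
  rw [h]
  exact F.n_mem true

/-- The BN-pair of rank two. -/
def toBNPair {m : ℕ} (hbr : F.Braid m) (hm : 1 ≤ m) (hp : ∀ k < m, F.PathTo k)
    (hgen : F.P false ⊔ F.P true = ⊤) (thick : ∀ i, ∃ b ∈ F.B, F.n i * b * (F.n i)⁻¹ ∉ F.B) :
    Cfsg.BNPair G where
  B := F.B
  N := F.N
  S := {F.n false, F.n true}
  sup_eq_top := by
    rw [eq_top_iff, ← hgen]
    have : ∀ i, F.P i ≤ F.B ⊔ F.N := by
      intro i x hx
      rcases (F.memP i x).1 hx with h | ⟨b, hb, c, hc, rfl⟩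
      · exact Subgroup.mem_sup_left h
      · exact mul_mem (mul_mem (Subgroup.mem_sup_left hb) (Subgroup.mem_sup_right (F.n_mem_N i)))
          (Subgroup.mem_sup_left hc)
    exact sup_le (this false) (this true)
  conj_mem := by
    intro n hn t ht
    rw [F.B_inf_N] at ht
    exact F.H₁_le ((Subgroup.mem_normalizer_iff.1 (F.N_le_norm hn) t).1 ht)
  subset := by
    rintro x (rfl | rfl)
    · exact F.n_mem_N false
    · exact F.n_mem_N true
  sq_mem := by
    rintro x (rfl | rfl)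
    · exact F.H₁_le (F.sq_mem false)
    · exact F.H₁_le (F.sq_mem true)
  inj := by
    have h : ∀ i j, (F.n i)⁻¹ * F.n j ∈ F.B → F.n i = F.n j := by
      intro i j hij
      by_cases e : i = j
      · rw [e]
      · exfalso
        refine F.n_notMem_of_ne (fun h => e h.symm) (?_ : F.n j ∈ F.P i)
        have h1 := mul_mem (F.n_mem i) (F.B_le i hij)
        rwa [mul_inv_cancel_left] at h1
    rintro x (rfl | rfl) y (rfl | rfl) hxy
    · rfl
    · exact h _ _ hxy
    · exact h _ _ hxy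
    · rfl
  closure_sup := by rw [F.B_inf_N]; rfl
  mul_mem_union := by
    intro s hs n hn b hb
    obtain ⟨j, rfl⟩ : ∃ j, s = F.n j := by
      rcases hs with rfl | rfl
      · exact ⟨false, rfl⟩
      · exact ⟨true, rfl⟩
    rcases bn_left hbr hm hp hn hb j with ⟨c, hc, d, hd, e⟩ | ⟨c, hc, d, hd, e⟩
    · left
      rw [DoubleCoset.mem_doubleCoset]
      exact ⟨c, hc, d, hd, e⟩
    · right
      rw [DoubleCoset.mem_doubleCoset]
      exact ⟨c, hc, d, hd, e⟩
  conj_ne := by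
    have h : ∀ i, (fun b : G => F.n i * b * F.n i) '' (F.B : Set G) ≠ (F.B : Set G) := by
      intro i hi
      obtain ⟨b, hb, hnb⟩ := thick i
      apply hnb
      have h1 : F.n i * b * F.n i ∈ (F.B : Set G) := by
        rw [← hi]
        exact ⟨b, hb, rfl⟩
      have h2 : F.n i * b * (F.n i)⁻¹ = (F.n i * b * F.n i) * (F.n i * F.n i)⁻¹ := by group
      rw [h2]
      exact mul_mem h1 (inv_mem (F.H₁_le (F.sq_mem i)))
    rintro x (rfl | rfl)
    · exact h false
    · exact h true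

theorem rank_toBNPair {m : ℕ} (hbr : F.Braid m) (hm : 1 ≤ m) (hp : ∀ k < m, F.PathTo k)
    (hgen : F.P false ⊔ F.P true = ⊤) (thick : ∀ i, ∃ b ∈ F.B, F.n i * b * (F.n i)⁻¹ ∉ F.B) :
    (F.toBNPair hbr hm hp hgen thick).rank = 2 := by
  show Nat.card ({F.n false, F.n true} : Set G) = 2
  rw [Nat.card_coe_set_eq]
  exact Set.ncard_pair F.n_ne

/-- **The closing theorem, combinatorial part**: a split BN-pair of rank two. -/
theorem exists_split {m : ℕ} (hbr : F.Braid m) (hm : 1 ≤ m) (hp : ∀ k < m, F.PathTo k)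
    (hgen : F.P false ⊔ F.P true = ⊤) (thick : ∀ i, ∃ b ∈ F.B, F.n i * b * (F.n i)⁻¹ ∉ F.B)
    (U : Subgroup G) (hU : U ≤ F.B) (hn : ∀ b ∈ F.B, ∀ u ∈ U, b * u * b⁻¹ ∈ U)
    (hnil : Group.IsNilpotent U) (hUH : ∀ b ∈ F.B, ∃ u ∈ U, u⁻¹ * b ∈ Subgroup.normalizer (F.H : Set G)) :
    ∃ Q : Cfsg.BNPair G, Q.rank = 2 ∧ Q.IsSplit ∧ Q.B = F.B ∧ Q.N = F.N ∧
      Q.S = {F.n false, F.n true} := by
  refine ⟨F.toBNPair hbr hm hp hgen thick, F.rank_toBNPair hbr hm hp hgen thick, ?_, rfl, rfl, rfl⟩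
  refine ⟨U, hU, hn, hnil, ?_⟩
  show U ⊔ (F.B ⊓ F.N) = F.B
  rw [F.B_inf_N]
  refine le_antisymm (sup_le hU F.H₁_le) fun b hb => ?_
  obtain ⟨u, hu, hub⟩ := hUH b hb
  have e : b = u * (u⁻¹ * b) := by group
  rw [e]
  exact mul_mem (Subgroup.mem_sup_left hu) (Subgroup.mem_sup_right
    (Subgroup.mem_inf.2 ⟨mul_mem (inv_mem (hU hu)) hb, hub⟩))

end Frame

end Cfsg.Agent.RankTwoClose

end

section


/-!
# THEOREM 2F4 (OMEGA #12906, helper279; referee helper304 #13516): the interface of the second half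

`P false = P₀ = C = G_x` (point stabiliser), `P true = P₁ = M = G_l` (line stabiliser), `B = P₀ ∩ P₁`,
`S` the normal Sylow 2-subgroup of `B`, `Q false = Q_x`, `Q true = Q_l`, `n false = n₀ ∈ P₀`,
`n true = n₁ ∈ P₁` the reflections, `H` the group of the `F_q`-linear elements of the Hall subgroup `H₁`
(order `(q - 1)²`).  `t = n₁ n₀` moves the vertex `u_j` of the apartment to `u_(j+2)`; `u₀ = x`, `u₁ = l`;
`Z = Z_x`, `W = W_x`, so `Z_2k = cj (t ^ k) Z`, `W_2k = cj (t ^ k) W`.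

The weights `χ₀, χ₂ : H → F_q*` are written additively: `F_q* ≅ ZMod N`, `N = q - 1`, `x = χ₀`, `y = χ₂`,
`θ = 2 ^ (m + 1)`.
-/

set_option autoImplicit false

namespace Cfsg.Agent.Omega.TwoFFour

open Subgroup Cfsg.Agent.Omega.BTwo

/-- The weight of `H` on `S / Q i`: `χ₄ = θ χ₂ - χ₀` for the point, `χ₀ - χ₂` for the line. -/
def fr {G : Type*} {N : ℕ} (θ : ZMod N) (x y : G → ZMod N) : Bool → G → ZMod N
  | false, h => θ * y h - x h
  | true, h => x h - y h

/-- **Output of the first half of THEOREM 2F4.** `t = n true * n false`. -/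
structure Oct {G : Type*} [Group G] (P Q : Bool → Subgroup G) (n : Bool → G) (B S H Z W O : Subgroup G)
    {N : ℕ} (θ : ZMod N) (x y : G → ZMod N) : Prop where
  -- the amalgam
  inter : P false ⊓ P true = B
  /-- `S` is transitive on the chambers `≠ B` of the panel -/
  memP : ∀ i g, g ∈ P i ↔ g ∈ B ∨ ∃ s ∈ S, ∃ c ∈ B, g = s * n i * c
  twoS : IsPGroup 2 S
  S_le : S ≤ B
  S_nrm : ∀ b ∈ B, ∀ s ∈ S, b * s * b⁻¹ ∈ S
  /-- `|B : S|` is odd -/
  oddB : ∀ b ∈ B, ∃ k, Odd k ∧ b ^ k ∈ S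
  H_le : H ≤ B
  oddH : Odd (Nat.card H)
  /-- `B = S N_B(H)` -/
  split : ∀ b ∈ B, ∃ s ∈ S, s⁻¹ * b ∈ normalizer (H : Set G)
  n_norm : ∀ i, n i ∈ normalizer (H : Set G)
  n_not : ∀ i, n i ∉ B
  Q_le : ∀ i, Q i ≤ S
  Q_nrm : ∀ i, ∀ p ∈ P i, ∀ a ∈ Q i, p * a * p⁻¹ ∈ Q i
  /-- `S` acts regularly modulo `Q i` on the vertices opposite in the panel -/
  Q_max : ∀ i, ∀ s ∈ S, (n i)⁻¹ * s * n i ∈ B → s ∈ Q i
  Q_ne : ∀ i, ∃ s ∈ S, s ∉ Q i
  /-- (F1) -/
  cover : ∀ s ∈ S, ∃ a ∈ Q false, ∃ b ∈ Q true, s = a * b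
  -- the weights
  oddN : Odd N
  one_lt : 1 < N
  sq : θ * θ = 2
  x_mul : ∀ h ∈ H, ∀ k ∈ H, x (h * k) = x h + x k
  y_mul : ∀ h ∈ H, ∀ k ∈ H, y (h * k) = y h + y k
  surj : ∀ a b : ZMod N, ∃ h ∈ H, x h = a ∧ y h = b
  inj : ∀ h ∈ H, ∀ k ∈ H, x h = x k → y h = y k → h = k
  /-- `n₀` fixes `χ₀` and `χ₂ + χ₋₂ = θ χ₀` -/
  x₀ : ∀ h ∈ H, x ((n false)⁻¹ * h * n false) = x h
  y₀ : ∀ h ∈ H, y ((n false)⁻¹ * h * n false) = θ * x h - y h
  /-- `n₁` swaps `χ₀` and `χ₂` -/
  x₁ : ∀ h ∈ H, x ((n true)⁻¹ * h * n true) = y h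
  y₁ : ∀ h ∈ H, y ((n true)⁻¹ * h * n true) = x h
  triv : ∀ i, ∀ h ∈ H, fr θ x y i h = 0 → ∀ s ∈ S, h * s * h⁻¹ * s⁻¹ ∈ Q i
  free : ∀ i, ∀ h ∈ H, fr θ x y i h ≠ 0 → ∀ s ∈ S, h * s * h⁻¹ * s⁻¹ ∈ Q i → s ∈ Q i
  -- `Z = Z₀`
  Z_le : Z ≤ S
  Z_cen : ∀ z ∈ Z, ∀ s ∈ S, z * s = s * z
  Z_sq : ∀ z ∈ Z, z * z = 1
  Z_pair : ∃ a ∈ Z, ∃ b ∈ Z, a ≠ 1 ∧ b ≠ 1 ∧ a ≠ b
  /-- `P₀ = N_G(Z)` -/
  Z_nrm : ∀ p ∈ P false, ∀ z ∈ Z, p * z * p⁻¹ ∈ Z
  Z_norm : ∀ g : G, (∀ z ∈ Z, g * z * g⁻¹ ∈ Z) → g ∈ P false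
  Z_x : ∀ h ∈ H, x h = 0 → ∀ z ∈ Z, h * z = z * h
  /-- characteristic 2 for `C_G(v)`, with `R = O₂(C_G(v))` -/
  Z_two : ∀ v ∈ Z, v ≠ 1 → ∃ R : Subgroup G, R ≤ S ∧ Z ≤ R ∧ ∀ c : G, c * v = v * c → ∀ r ∈ R, c * r * c⁻¹ ∈ R
  -- `W = W₀`
  W_nrm : ∀ p ∈ P false, ∀ w ∈ W, p * w * p⁻¹ ∈ W
  /-- `F₀ = C_G(W₀) ≤ Q₀ ∩ Q₁` -/
  W_cen : ∀ i, centralizer (W : Set G) ≤ Q i
  /-- `W₀ = Z₀ Z₂ Z₋₂ O₁ O₋₁` -/
  W_gen : W ≤ Z ⊔ cj (n true) Z ⊔ cj (n false * n true) Z ⊔ O ⊔ cj (n false) O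
  O_le : O ≤ cj (n true) W
  /-- `[Z₂, s] ≤ Z₀` and the weights are different -/
  fixZ : ∀ h ∈ H, ∀ s ∈ Q false, h * s = s * h → y h ≠ x h → ∀ z ∈ cj (n true) Z, s * z = z * s
  /-- `O₁` has weight `(θ - 1)(χ₀ + χ₂)` -/
  fixO : ∀ h ∈ H, ∀ s ∈ Q false, h * s = s * h → (θ - 1) * (x h + y h) ≠ x h → ∀ z ∈ O, s * z = z * s
  /-- the involutions of `S / Q₀` are those of `Z₄ Q₀ / Q₀` -/
  omega : ∀ s ∈ S, s * s ∈ Q false → ∃ z ∈ cj (n true * n false * n true) Z, z⁻¹ * s ∈ Q false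
  /-- `W₂`, `W₋₂` generate a group which is transitive on the lines on `u₀` -/
  gen₀ : ∀ p ∈ P false, ∃ c ∈ cj (n true * n false) W ⊔ cj (n true * n false)⁻¹ W, c⁻¹ * p ∈ B
  /-- `W₋₂ ∩ Q₀` is transitive on the points `≠ u₀` of `u₁` -/
  gen₁ : ∀ s ∈ S, ∃ r ∈ cj (n true * n false)⁻¹ W ⊓ Q false, r⁻¹ * s ∈ Q true
  /-- the kernel of `⟨P₀, P₁⟩` on the coset graph -/
  core : ∀ K : Subgroup G, K ≤ B → (∀ i, ∀ p ∈ P i, ∀ k ∈ K, p * k * p⁻¹ ∈ K) → K = ⊥

end Cfsg.Agent.Omega.TwoFFour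

end

section


/-!
# THEOREM 2F4, (PATH): torus weights and windows

From `Oct`: the `Frame`, the lemma of covering windows (`Oct.step`), `Oct.pathTo : ∀ k < 8, PathTo k`.
-/

set_option autoImplicit false
set_option linter.unusedSectionVars false
set_option linter.unusedSimpArgs false

namespace Cfsg.Agent.Omega.TwoFFour

open Subgroup Cfsg.Agent.Omega.BTwo Cfsg.Agent.RankTwoClose

theorem nxt_add (i : Bool) (a b : ℕ) : nxt i (a + b) = nxt (nxt i a) b := by
  simp [nxt, Nat.bodd_add]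

theorem alt_add {G : Type*} [Group G] (n : Bool → G) (i : Bool) (a b : ℕ) :
    alt n i (a + b) = alt n i a * alt n (nxt i a) b := by
  induction b with
  | zero => simp
  | succ b ih => rw [← Nat.add_assoc, alt_succ', ih, alt_succ', nxt_add, mul_assoc]

section Arith

variable {N : ℕ} {θ : ZMod N}

theorem one_ne (h1 : 1 < N) : (1 : ZMod N) ≠ 0 := by
  intro h
  have h2 : ((1 : ℕ) : ZMod N) = 0 := by rw [Nat.cast_one]; exact h
  rw [ZMod.natCast_eq_zero_iff] at h2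
  exact absurd (Nat.le_of_dvd one_pos h2) (by omega)

theorem two_ne (hN : Odd N) (h1 : 1 < N) : (2 : ZMod N) ≠ 0 := by
  intro h
  have h2 : ((2 : ℕ) : ZMod N) = 0 := by rw [Nat.cast_ofNat]; exact h
  rw [ZMod.natCast_eq_zero_iff] at h2
  have h3 := Nat.le_of_dvd two_pos h2
  obtain ⟨k, hk⟩ := hN
  omega

end Arith

namespace Oct

variable {G : Type*} [Group G] {P Q : Bool → Subgroup G} {n : Bool → G} {B S H Z W O : Subgroup G}
  {N : ℕ} {θ : ZMod N} {x y : G → ZMod N}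

section basic

variable (h : Oct P Q n B S H Z W O θ x y)
include h

theorem one_ne : (1 : ZMod N) ≠ 0 := TwoFFour.one_ne h.one_lt

theorem two_ne : (2 : ZMod N) ≠ 0 := TwoFFour.two_ne h.oddN h.one_lt

theorem th_ne : θ ≠ 0 := by
  intro h0
  apply h.two_ne
  rw [← h.sq, h0, mul_zero]

theorem th1_ne : θ + 1 ≠ 0 := by
  intro h0
  apply h.one_ne
  linear_combination (θ - 1) * h0 - h.sq

theorem th1_ne' : θ - 1 ≠ 0 := by
  intro h0
  apply h.one_ne
  linear_combination (θ + 1) * h0 - h.sq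

theorem th2_ne : θ - 2 ≠ 0 := by
  intro h0
  apply h.two_ne
  linear_combination (-θ - 2) * h0 + h.sq

/-- `θ - 1` is a unit. -/
theorem th_unit {a : ZMod N} (ha : (θ - 1) * a = 0) : a = 0 := by
  linear_combination (θ + 1) * ha - a * h.sq

theorem B_le (i : Bool) : B ≤ P i := fun _ hx => (h.memP i _).2 (Or.inl hx)

theorem n_mem (i : Bool) : n i ∈ P i :=
  (h.memP i _).2 (Or.inr ⟨1, one_mem _, 1, one_mem _, by simp⟩)

theorem memB (i : Bool) (g : G) : g ∈ P i ↔ g ∈ B ∨ ∃ b ∈ B, ∃ c ∈ B, g = b * n i * c := by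
  constructor
  · intro hg
    rcases (h.memP i g).1 hg with hg | ⟨s, hs, c, hc, e⟩
    · exact Or.inl hg
    · exact Or.inr ⟨s, h.S_le hs, c, hc, e⟩
  · rintro (hg | ⟨b, hb, c, hc, rfl⟩)
    · exact h.B_le i hg
    · exact mul_mem (mul_mem (h.B_le i hb) (h.n_mem i)) (h.B_le i hc)

theorem n_conj (i : Bool) {t : G} (ht : t ∈ H) : n i * t * (n i)⁻¹ ∈ H :=
  conj_mem_of_normalizer (h.n_norm i) ht

theorem n_conj' (i : Bool) {t : G} (ht : t ∈ H) : (n i)⁻¹ * t * n i ∈ H :=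
  conj_inv_mem_of_normalizer (h.n_norm i) ht

theorem exists_free (i : Bool) : ∃ t ∈ H, fr θ x y i t ≠ 0 := by
  cases i
  · obtain ⟨t, ht, h1, h2⟩ := h.surj 0 1
    refine ⟨t, ht, ?_⟩
    show θ * y t - x t ≠ 0
    rw [h1, h2, mul_one, sub_zero]
    exact h.th_ne
  · obtain ⟨t, ht, h1, h2⟩ := h.surj 1 0
    refine ⟨t, ht, ?_⟩
    show x t - y t ≠ 0
    rw [h1, h2, sub_zero]
    exact h.one_ne

/-- The chambers of the panel fixed by a torus element without fixed points on `S / Q i`. -/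
theorem two_one (i : Bool) (g : G) (hg : g ∈ P i) {t : G} (ht : t ∈ H) (hf : fr θ x y i t ≠ 0)
    (hH : g⁻¹ * t * g ∈ B) : g ∈ B ∨ (n i)⁻¹ * g ∈ B := by
  rcases (h.memP i g).1 hg with hg | ⟨s, hs, c, hc, rfl⟩
  · exact Or.inl hg
  · right
    have h1 : (n i)⁻¹ * (s⁻¹ * t * s) * n i ∈ B := by
      have h2 := mul_mem (mul_mem hc hH) (inv_mem hc)
      have e : c * ((s * n i * c)⁻¹ * t * (s * n i * c)) * c⁻¹ = (n i)⁻¹ * (s⁻¹ * t * s) * n i := by
        group
      rwa [e] at h2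
    have h3 : (n i)⁻¹ * (s⁻¹ * t * s * t⁻¹) * n i ∈ B := by
      have h4 : (n i)⁻¹ * t⁻¹ * n i ∈ B := h.H_le (h.n_conj' i (inv_mem ht))
      have e : (n i)⁻¹ * (s⁻¹ * t * s * t⁻¹) * n i =
          ((n i)⁻¹ * (s⁻¹ * t * s) * n i) * ((n i)⁻¹ * t⁻¹ * n i) := by group
      rw [e]
      exact mul_mem h1 h4
    have h5 : s⁻¹ * t * s * t⁻¹ ∈ S := by
      have e : s⁻¹ * t * s * t⁻¹ = s⁻¹ * (t * s * t⁻¹) := by group
      rw [e]
      exact mul_mem (inv_mem hs) (h.S_nrm t (h.H_le ht) s hs)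
    have h6 := h.Q_max i _ h5 h3
    have h7 : t * s⁻¹ * t⁻¹ * (s⁻¹)⁻¹ ∈ Q i := by
      have e : t * s⁻¹ * t⁻¹ * (s⁻¹)⁻¹ = (s⁻¹ * t * s * t⁻¹)⁻¹ := by group
      rw [e]
      exact inv_mem h6
    have h8 : s ∈ Q i := inv_mem_iff.1 (h.free i t ht hf _ (inv_mem hs) h7)
    have h9 : (n i)⁻¹ * s * n i ∈ Q i := by
      have := h.Q_nrm i _ (inv_mem (h.n_mem i)) s h8
      rwa [inv_inv] at this
    have e : (n i)⁻¹ * (s * n i * c) = ((n i)⁻¹ * s * n i) * c := by group
    rw [e]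
    exact mul_mem (h.S_le (h.Q_le i h9)) hc

theorem two (i : Bool) (g : G) (hg : g ∈ P i) (hH : ∀ t ∈ H, g⁻¹ * t * g ∈ B) :
    g ∈ B ∨ (n i)⁻¹ * g ∈ B := by
  obtain ⟨t, ht, hf⟩ := h.exists_free i
  exact h.two_one i g hg ht hf (hH t ht)

/-- The frame of helper139's closing theorem. -/
def frame : Frame G where
  B := B
  H := H
  P := P
  n := n
  memP := h.memB
  inter := h.inter
  H_le := h.H_le
  n_norm := h.n_norm
  n_not := h.n_not
  two := h.two

theorem cj_Q (i : Bool) {p : G} (hp : p ∈ P i) : cj p (Q i) = Q i := by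
  apply le_antisymm
  · rw [cj_le_iff]; exact h.Q_nrm i p hp
  · intro a ha
    rw [mem_cj]
    have := h.Q_nrm i _ (inv_mem hp) a ha
    rwa [inv_inv] at this

theorem cj_S {b : G} (hb : b ∈ B) : cj b S = S := by
  apply le_antisymm
  · rw [cj_le_iff]; exact h.S_nrm b hb
  · intro a ha
    rw [mem_cj]
    have := h.S_nrm _ (inv_mem hb) a ha
    rwa [inv_inv] at this

theorem cj_W {p : G} (hp : p ∈ P false) : cj p W = W := by
  apply le_antisymm
  · rw [cj_le_iff]; exact h.W_nrm p hp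
  · intro a ha
    rw [mem_cj]
    have := h.W_nrm _ (inv_mem hp) a ha
    rwa [inv_inv] at this

theorem alt_norm (i : Bool) (k : ℕ) : alt n i k ∈ normalizer (H : Set G) :=
  h.frame.alt_mem_norm' i k

theorem H_conj {g t : G} (hg : g ∈ normalizer (H : Set G)) (ht : t ∈ H) : g⁻¹ * t * g ∈ H :=
  conj_inv_mem_of_normalizer hg ht

/-- the characters of `n h n⁻¹` -/
theorem x₀' {t : G} (ht : t ∈ H) : x (n false * t * (n false)⁻¹) = x t := by
  have h1 := h.x₀ _ (h.n_conj false ht)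
  have e : (n false)⁻¹ * (n false * t * (n false)⁻¹) * n false = t := by group
  rw [e] at h1
  exact h1.symm

theorem y₀' {t : G} (ht : t ∈ H) : y (n false * t * (n false)⁻¹) = θ * x t - y t := by
  have h1 := h.y₀ _ (h.n_conj false ht)
  have e : (n false)⁻¹ * (n false * t * (n false)⁻¹) * n false = t := by group
  rw [e, h.x₀' ht] at h1
  linear_combination h1

theorem x₁' {t : G} (ht : t ∈ H) : x (n true * t * (n true)⁻¹) = y t := by
  have h1 := h.y₁ _ (h.n_conj true ht)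
  have e : (n true)⁻¹ * (n true * t * (n true)⁻¹) * n true = t := by group
  rw [e] at h1
  exact h1.symm

theorem y₁' {t : G} (ht : t ∈ H) : y (n true * t * (n true)⁻¹) = x t := by
  have h1 := h.x₁ _ (h.n_conj true ht)
  have e : (n true)⁻¹ * (n true * t * (n true)⁻¹) * n true = t := by group
  rw [e] at h1
  exact h1.symm

end basic

/-- `R` covers `cj g S / cj g (Q i)`. -/
def Cov (Q : Bool → Subgroup G) (S : Subgroup G) (i : Bool) (g : G) (R : Subgroup G) : Prop :=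
  ∀ s ∈ cj g S, ∃ r ∈ R, r⁻¹ * s ∈ cj g (Q i)

section window

variable [Finite G] (h : Oct P Q n B S H Z W O θ x y)
include h

/-- `h` without fixed points on `S / Q i`: every element of `S / Q i` is a commutator with `h`. -/
theorem exists_comm (i : Bool) {t : G} (ht : t ∈ H) (hf : fr θ x y i t ≠ 0) {s : G} (hs : s ∈ S) :
    ∃ z ∈ S, (t * z * t⁻¹ * z⁻¹)⁻¹ * s ∈ Q i := by
  have hQS : ∀ z ∈ S, ∀ a ∈ Q i, z * a * z⁻¹ ∈ Q i := fun z hz a ha =>
    h.Q_nrm i z (h.B_le i (h.S_le hz)) a ha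
  have htP : t ∈ P i := h.B_le i (h.H_le ht)
  -- the relation modulo `Q i`
  let Q' : Subgroup S := (Q i).subgroupOf S
  have hN : Q'.Normal := ⟨fun a ha g => mem_subgroupOf.2 (hQS g g.2 a (mem_subgroupOf.1 ha))⟩
  let f : S → S := fun z => ⟨t * z * t⁻¹ * (z : G)⁻¹,
    mul_mem (h.S_nrm t (h.H_le ht) z z.2) (inv_mem z.2)⟩
  have hwd : ∀ z w : S, (z : S ⧸ Q') = w → ((f z : S) : S ⧸ Q') = f w := by
    intro z w hzw
    rw [QuotientGroup.eq] at hzw ⊢
    rw [mem_subgroupOf] at hzw ⊢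
    set a : G := (z : G)⁻¹ * w with ha
    have haQ : a ∈ Q i := hzw
    have hw : (w : G) = z * a := by rw [ha]; group
    show (t * z * t⁻¹ * (z : G)⁻¹)⁻¹ * (t * w * t⁻¹ * (w : G)⁻¹) ∈ Q i
    rw [hw]
    have e : (t * z * t⁻¹ * (z : G)⁻¹)⁻¹ * (t * (z * a) * t⁻¹ * ((z : G) * a)⁻¹) =
        (z : G) * ((t * a * t⁻¹) * a⁻¹) * (z : G)⁻¹ := by group
    rw [e]
    exact hQS z z.2 _ (mul_mem (h.Q_nrm i t htP a haQ) (inv_mem haQ))
  let F : S ⧸ Q' → S ⧸ Q' := Quotient.lift (fun z : S => ((f z : S) : S ⧸ Q'))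
    (fun z w hzw => hwd z w (Quotient.sound hzw))
  have hF : ∀ z : S, F (z : S ⧸ Q') = (f z : S ⧸ Q') := fun z => rfl
  have hinj : Function.Injective F := by
    intro a b hab
    obtain ⟨z, rfl⟩ := QuotientGroup.mk_surjective a
    obtain ⟨w, rfl⟩ := QuotientGroup.mk_surjective b
    rw [hF, hF, QuotientGroup.eq, mem_subgroupOf] at hab
    rw [QuotientGroup.eq, mem_subgroupOf]
    have hab' : (t * z * t⁻¹ * (z : G)⁻¹)⁻¹ * (t * w * t⁻¹ * (w : G)⁻¹) ∈ Q i := hab
    -- `z⁻¹ (..) z`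
    have h1 := hQS _ (inv_mem z.2) _ hab'
    set a : G := (z : G)⁻¹ * w with ha
    have hw : (w : G) = z * a := by rw [ha]; group
    have e : (z : G)⁻¹ * ((t * z * t⁻¹ * (z : G)⁻¹)⁻¹ * (t * w * t⁻¹ * (w : G)⁻¹)) * ((z : G)⁻¹)⁻¹ =
        t * a * t⁻¹ * a⁻¹ := by rw [hw]; group
    rw [e] at h1
    exact h.free i t ht hf a (mul_mem (inv_mem z.2) w.2) h1
  obtain ⟨a, ha⟩ := (Finite.injective_iff_surjective.1 hinj) ((⟨s, hs⟩ : S) : S ⧸ Q')
  obtain ⟨z, rfl⟩ := QuotientGroup.mk_surjective a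
  rw [hF, QuotientGroup.eq, mem_subgroupOf] at ha
  exact ⟨z, z.2, ha⟩

/-- The lemma of (5): one more vertex of the window. -/
theorem step {i j : Bool} {g g' k : G} {R : Subgroup G} (hc : Cov Q S i g R)
    (hg : g ∈ normalizer (H : Set G)) (hg' : g' ∈ normalizer (H : Set G)) (hk : k ∈ H)
    (hR : ∀ r ∈ R, k * r * k⁻¹ ∈ R) (hR' : R ≤ cj g' S) (hf : fr θ x y i (g⁻¹ * k * g) ≠ 0)
    (ht : fr θ x y j (g'⁻¹ * k * g') = 0) : Cov Q S i g (R ⊓ cj g' (Q j)) := by
  intro s hs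
  have hs' := mem_cj.1 hs
  have hk' := h.H_conj hg hk
  have hk2 := h.H_conj hg' hk
  obtain ⟨z, hz, hz'⟩ := h.exists_comm i hk' hf hs'
  obtain ⟨r, hr, hr'⟩ := hc _ (conj_mem_cj (g := g) hz)
  -- `a = r⁻¹ (g z g⁻¹)`
  set z' := g * z * g⁻¹ with hz'def
  have hz'S : z' ∈ cj g S := conj_mem_cj hz
  refine ⟨k * r * k⁻¹ * r⁻¹, mem_inf.2 ⟨mul_mem (hR r hr) (inv_mem hr), ?_⟩, ?_⟩
  · rw [mem_cj]
    have h1 := h.triv j _ hk2 ht _ (mem_cj.1 (hR' hr))
    have e : g'⁻¹ * (k * r * k⁻¹ * r⁻¹) * g' = g'⁻¹ * k * g' * (g'⁻¹ * r * g') * (g'⁻¹ * k * g')⁻¹ *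
        (g'⁻¹ * r * g')⁻¹ := by group
    rw [e]
    exact h1
  · rw [mem_cj]
    -- everything in `S`, modulo `Q i`
    set k₁ := g⁻¹ * k * g with hk₁
    set a := g⁻¹ * (r⁻¹ * z') * g with ha
    have haQ : a ∈ Q i := mem_cj.1 hr'
    set r₁ := g⁻¹ * r * g with hr₁
    have hzr : z = r₁ * a := by rw [ha, hr₁, hz'def]; group
    have hr₁S : r₁ ∈ S := by
      have : r₁ = z * a⁻¹ := by rw [hzr]; group
      rw [this]
      exact mul_mem hz (inv_mem (h.Q_le i haQ))
    have hkP : k₁ ∈ P i := h.B_le i (h.H_le hk')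
    have e : g⁻¹ * ((k * r * k⁻¹ * r⁻¹)⁻¹ * s) * g = (k₁ * r₁ * k₁⁻¹ * r₁⁻¹)⁻¹ * (g⁻¹ * s * g) := by
      rw [hk₁, hr₁]; group
    rw [e]
    have e2 : (k₁ * r₁ * k₁⁻¹ * r₁⁻¹)⁻¹ * (g⁻¹ * s * g) =
        ((k₁ * r₁ * k₁⁻¹ * r₁⁻¹)⁻¹ * (k₁ * z * k₁⁻¹ * z⁻¹)) *
          ((k₁ * z * k₁⁻¹ * z⁻¹)⁻¹ * (g⁻¹ * s * g)) := by group
    rw [e2]
    refine mul_mem ?_ hz'
    rw [hzr]
    have e3 : (k₁ * r₁ * k₁⁻¹ * r₁⁻¹)⁻¹ * (k₁ * (r₁ * a) * k₁⁻¹ * (r₁ * a)⁻¹) =
        r₁ * ((k₁ * a * k₁⁻¹) * a⁻¹) * r₁⁻¹ := by group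
    rw [e3]
    exact h.Q_nrm i r₁ (h.B_le i (h.S_le hr₁S)) _
      (mul_mem (h.Q_nrm i _ hkP a haQ) (inv_mem haQ))

end window

/-- The group `Q_v` of the `m`-th vertex of the gallery with first letter `i`. -/
def Qs (Q : Bool → Subgroup G) (n : Bool → G) (i : Bool) (m : ℕ) : Subgroup G :=
  cj (alt n i m) (Q (nxt i m))

/-- The window `Q_m ∩ .. ∩ Q_(m + r)`. -/
def Win (Q : Bool → Subgroup G) (n : Bool → G) (i : Bool) : ℕ → ℕ → Subgroup G
  | m, 0 => Qs Q n i m
  | m, r + 1 => Win Q n i (m + 1) r ⊓ Qs Q n i m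

section windows

variable (h : Oct P Q n B S H Z W O θ x y)
include h

theorem Qs_eq (i : Bool) (m : ℕ) : Qs Q n i m = cj (alt n i (m + 1)) (Q (nxt i m)) := by
  rw [alt_succ', cj_mul, h.cj_Q _ (h.n_mem _)]
  rfl

theorem Qs_le (i : Bool) (m : ℕ) : Qs Q n i m ≤ cj (alt n i m) S := cj_mono (h.Q_le _)

theorem Qs_le' (i : Bool) (m : ℕ) : Qs Q n i m ≤ cj (alt n i (m + 1)) S := by
  rw [h.Qs_eq]
  exact cj_mono (h.Q_le _)

omit h in
theorem Win_le (i : Bool) (m r : ℕ) : Win Q n i m r ≤ Qs Q n i m := by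
  cases r
  · exact le_rfl
  · exact inf_le_right

omit h in
theorem Win_le' (i : Bool) (r : ℕ) : ∀ m j, j ≤ r → Win Q n i m r ≤ Qs Q n i (m + j) := by
  induction r with
  | zero =>
    intro m j hj
    obtain rfl : j = 0 := by omega
    exact le_rfl
  | succ r ih =>
    intro m j hj
    rcases Nat.eq_zero_or_pos j with rfl | hj0
    · exact inf_le_right
    · refine inf_le_left.trans ((ih (m + 1) (j - 1) (by omega)).trans (le_of_eq ?_))
      congr 1
      omega

theorem Qs_H (i : Bool) (m : ℕ) {k r : G} (hk : k ∈ H) (hr : r ∈ Qs Q n i m) :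
    k * r * k⁻¹ ∈ Qs Q n i m := by
  unfold Qs at hr ⊢
  rw [mem_cj] at hr ⊢
  have h1 := h.H_conj (h.alt_norm i m) hk
  have h2 := h.Q_nrm _ _ (h.B_le (nxt i m) (h.H_le h1)) _ hr
  have e : (alt n i m)⁻¹ * (k * r * k⁻¹) * alt n i m = (alt n i m)⁻¹ * k * alt n i m *
      ((alt n i m)⁻¹ * r * alt n i m) * ((alt n i m)⁻¹ * k * alt n i m)⁻¹ := by group
  rwa [e]

theorem Win_H (i : Bool) (r : ℕ) : ∀ m {k s : G}, k ∈ H → s ∈ Win Q n i m r →
    k * s * k⁻¹ ∈ Win Q n i m r := by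
  induction r with
  | zero => exact fun m _ _ hk hs => h.Qs_H i m hk hs
  | succ r ih => exact fun m _ _ hk hs => ⟨ih _ hk hs.1, h.Qs_H i m hk hs.2⟩

/-- The characters on `w h w⁻¹`, `w` alternating: the weights of the window. -/
theorem exists_weight (j : Bool) (r : ℕ) (hr : r ≤ 5) :
    ∃ t ∈ H, fr θ x y (nxt j (r + 1)) t ≠ 0 ∧
      fr θ x y (!j) (alt n j (r + 1) * t * (alt n j (r + 1))⁻¹) = 0 := by
  have e : ∀ (i : Bool) (k : ℕ) (t : G), alt n i (k + 1) * t * (alt n i (k + 1))⁻¹ =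
      n i * (alt n (!i) k * t * (alt n (!i) k)⁻¹) * (n i)⁻¹ := by
    intro i k t
    rw [alt_succ]; group
  have mem : ∀ (i : Bool) (k : ℕ) {t : G}, t ∈ H → alt n i k * t * (alt n i k)⁻¹ ∈ H :=
    fun i k t ht => conj_mem_of_normalizer (h.alt_norm i k) ht
  have z : ∀ (i : Bool) (t : G), alt n i 0 * t * (alt n i 0)⁻¹ = t := by intro i t; simp
  have X0 : ∀ (k : ℕ) (t : G), t ∈ H → x (alt n false (k + 1) * t * (alt n false (k + 1))⁻¹) =
      x (alt n true k * t * (alt n true k)⁻¹) := by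
    intro k t ht
    rw [e]
    exact h.x₀' (mem true k ht)
  have Y0 : ∀ (k : ℕ) (t : G), t ∈ H → y (alt n false (k + 1) * t * (alt n false (k + 1))⁻¹) =
      θ * x (alt n true k * t * (alt n true k)⁻¹) - y (alt n true k * t * (alt n true k)⁻¹) := by
    intro k t ht
    rw [e]
    exact h.y₀' (mem true k ht)
  have X1 : ∀ (k : ℕ) (t : G), t ∈ H → x (alt n true (k + 1) * t * (alt n true (k + 1))⁻¹) =
      y (alt n false k * t * (alt n false k)⁻¹) := by
    intro k t ht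
    rw [e]
    exact h.x₁' (mem false k ht)
  have Y1 : ∀ (k : ℕ) (t : G), t ∈ H → y (alt n true (k + 1) * t * (alt n true (k + 1))⁻¹) =
      x (alt n false k * t * (alt n false k)⁻¹) := by
    intro k t ht
    rw [e]
    exact h.y₁' (mem false k ht)
  have hs := h.sq
  have n1 := h.one_ne
  have n2 := h.two_ne
  have n3 := h.th_ne
  have n4 := h.th1_ne
  have n5 := h.th1_ne'
  have n6 := h.th2_ne
  -- the explicit weight vectors
  have key : ∀ (j : Bool) (r : ℕ), r ≤ 5 → ∃ a b : ZMod N, ∀ t ∈ H, x t = a → y t = b →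
      fr θ x y (nxt j (r + 1)) t ≠ 0 ∧
        fr θ x y (!j) (alt n j (r + 1) * t * (alt n j (r + 1))⁻¹) = 0 := by
    clear hr r j
    intro j r hr
    cases j <;> interval_cases r
    · refine ⟨1, θ - 1, fun t ht ha hb => ?_⟩
      show x t - y t ≠ 0 ∧ x _ - y _ = 0
      simp only [X0, Y0, X1, Y1, z, ht, ha, hb]
      constructor
      · intro h0; exact n6 (by linear_combination -h0)
      · ring
    · refine ⟨θ - 1, 1, fun t ht ha hb => ?_⟩
      show θ * y t - x t ≠ 0 ∧ x _ - y _ = 0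
      simp only [X0, Y0, X1, Y1, z, ht, ha, hb]
      constructor
      · intro h0; exact n1 (by linear_combination h0)
      · ring
    · refine ⟨1, -1, fun t ht ha hb => ?_⟩
      show x t - y t ≠ 0 ∧ x _ - y _ = 0
      simp only [X0, Y0, X1, Y1, z, ht, ha, hb]
      constructor
      · intro h0; exact n2 (by linear_combination h0)
      · linear_combination -hs
    · refine ⟨1, -1, fun t ht ha hb => ?_⟩
      show θ * y t - x t ≠ 0 ∧ x _ - y _ = 0
      simp only [X0, Y0, X1, Y1, z, ht, ha, hb]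
      constructor
      · intro h0; exact n4 (by linear_combination -h0)
      · linear_combination hs
    · refine ⟨θ - 1, 1, fun t ht ha hb => ?_⟩
      show x t - y t ≠ 0 ∧ x _ - y _ = 0
      simp only [X0, Y0, X1, Y1, z, ht, ha, hb]
      constructor
      · intro h0; exact n6 (by linear_combination h0)
      · linear_combination (2 * θ - θ ^ 2) * hs
    · refine ⟨1, θ - 1, fun t ht ha hb => ?_⟩
      show θ * y t - x t ≠ 0 ∧ x _ - y _ = 0
      simp only [X0, Y0, X1, Y1, z, ht, ha, hb]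
      constructor
      · intro h0; exact n5 (by linear_combination -h0 + hs)
      · linear_combination (2 * θ - θ ^ 2) * hs
    · refine ⟨1, θ, fun t ht ha hb => ?_⟩
      show θ * y t - x t ≠ 0 ∧ θ * y _ - x _ = 0
      simp only [X0, Y0, X1, Y1, z, ht, ha, hb]
      constructor
      · intro h0; exact n1 (by linear_combination h0 - hs)
      · ring
    · refine ⟨1, 0, fun t ht ha hb => ?_⟩
      show x t - y t ≠ 0 ∧ θ * y _ - x _ = 0
      simp only [X0, Y0, X1, Y1, z, ht, ha, hb]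
      constructor
      · intro h0; exact n1 (by linear_combination h0)
      · ring
    · refine ⟨0, 1, fun t ht ha hb => ?_⟩
      show θ * y t - x t ≠ 0 ∧ θ * y _ - x _ = 0
      simp only [X0, Y0, X1, Y1, z, ht, ha, hb]
      constructor
      · intro h0; exact n3 (by linear_combination h0)
      · ring
    · refine ⟨0, 1, fun t ht ha hb => ?_⟩
      show x t - y t ≠ 0 ∧ θ * y _ - x _ = 0
      simp only [X0, Y0, X1, Y1, z, ht, ha, hb]
      constructor
      · intro h0; exact n1 (by linear_combination -h0)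
      · ring
    · refine ⟨1, 0, fun t ht ha hb => ?_⟩
      show θ * y t - x t ≠ 0 ∧ θ * y _ - x _ = 0
      simp only [X0, Y0, X1, Y1, z, ht, ha, hb]
      constructor
      · intro h0; exact n1 (by linear_combination -h0)
      · ring
    · refine ⟨1, θ, fun t ht ha hb => ?_⟩
      show x t - y t ≠ 0 ∧ θ * y _ - x _ = 0
      simp only [X0, Y0, X1, Y1, z, ht, ha, hb]
      constructor
      · intro h0; exact n5 (by linear_combination -h0)
      · ring
  obtain ⟨a, b, hab⟩ := key j r hr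
  obtain ⟨t, ht, ha, hb⟩ := h.surj a b
  exact ⟨t, ht, hab t ht ha hb⟩

end windows

section path

variable [Finite G] (h : Oct P Q n B S H Z W O θ x y)
include h

theorem cover' (j : Bool) {s : G} (hs : s ∈ S) : ∃ a ∈ Q (!j), a⁻¹ * s ∈ Q j := by
  obtain ⟨a, ha, b, hb, e⟩ := h.cover s hs
  cases j
  · refine ⟨b, hb, ?_⟩
    have h1 := h.Q_nrm false _ (inv_mem (h.B_le false (h.S_le (h.Q_le true hb)))) a ha
    rwa [inv_inv, mul_assoc, ← e] at h1
  · exact ⟨a, ha, by rw [e, inv_mul_cancel_left]; exact hb⟩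

/-- The windows cover. -/
theorem cov_win (r : ℕ) : ∀ (i : Bool) (m : ℕ), r ≤ 6 →
    Cov Q S (nxt i (m + r + 1)) (alt n i (m + r + 1)) (Win Q n i m r) := by
  induction r with
  | zero =>
    intro i m _ s hs
    have h1 := mem_cj.1 hs
    obtain ⟨a, ha, ha'⟩ := h.cover' (nxt i (m + 1)) h1
    refine ⟨alt n i (m + 1) * a * (alt n i (m + 1))⁻¹, ?_, ?_⟩
    · show _ ∈ Qs Q n i m
      rw [h.Qs_eq]
      rw [nxt_succ, Bool.not_not] at ha
      exact conj_mem_cj ha
    · rw [mem_cj]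
      have e : (alt n i (m + 0 + 1))⁻¹ * ((alt n i (m + 1) * a * (alt n i (m + 1))⁻¹)⁻¹ * s) *
          alt n i (m + 0 + 1) = a⁻¹ * ((alt n i (m + 1))⁻¹ * s * alt n i (m + 1)) := by
        rw [Nat.add_zero]; group
      rw [e]
      exact ha'
  | succ r ih =>
    intro i m hr
    have h1 := ih i (m + 1) (by omega)
    have e1 : m + 1 + r + 1 = m + (r + 1) + 1 := by omega
    rw [e1] at h1
    obtain ⟨t, ht, hf, hv⟩ := h.exists_weight (nxt i (m + 1)) r (by omega)
    have e2 : alt n i (m + (r + 1) + 1) = alt n i (m + 1) * alt n (nxt i (m + 1)) (r + 1) := by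
      rw [← alt_add]
      congr 1
      omega
    have e3 : nxt i (m + (r + 1) + 1) = nxt (nxt i (m + 1)) (r + 1) := by
      rw [← nxt_add]
      congr 1
      omega
    have e4 : (!(nxt i (m + 1))) = nxt i m := by rw [nxt_succ, Bool.not_not]
    set g := alt n i (m + (r + 1) + 1) with hg
    have hgN : g ∈ normalizer (H : Set G) := h.alt_norm _ _
    have hk : g * t * g⁻¹ ∈ H := conj_mem_of_normalizer hgN ht
    have h2 := h.step (j := nxt i m) (g' := alt n i (m + 1)) h1 hgN (h.alt_norm _ _) hk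
      (fun s hs => h.Win_H i r (m + 1) hk hs)
      ((Win_le i (m + 1) r).trans (h.Qs_le i (m + 1))) ?_ ?_
    · rw [← h.Qs_eq] at h2
      exact h2
    · have : g⁻¹ * (g * t * g⁻¹) * g = t := by group
      rw [this, e3]
      exact hf
    · have : (alt n i (m + 1))⁻¹ * (g * t * g⁻¹) * alt n i (m + 1) =
          alt n (nxt i (m + 1)) (r + 1) * t * (alt n (nxt i (m + 1)) (r + 1))⁻¹ := by
        rw [e2]; group
      rw [this, ← e4]
      exact hv

/-- **(PATH)** -/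
theorem pathTo : ∀ k < 8, h.frame.PathTo k := by
  intro k hk i b hb
  have hb' : b ∈ B := hb
  change ∃ c ∈ B, ∃ d ∈ B, alt n i k * b * n (nxt i k) = c * alt n i (k + 1) * d
  rcases Nat.eq_zero_or_pos k with rfl | hk0
  · exact ⟨b, hb', 1, one_mem _, by simp⟩
  · obtain ⟨r, rfl⟩ : ∃ r, k = 0 + r + 1 := ⟨k - 1, by omega⟩
    set j := nxt i (0 + r + 1) with hj
    set a := alt n i (0 + r + 1) with ha
    have h1 : b * n j ∈ P j := mul_mem (h.B_le j hb') (h.n_mem j)
    rcases (h.memP j _).1 h1 with h2 | ⟨s, hs, c, hc, e⟩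
    · exact absurd ((B.mul_mem_cancel_left hb').1 h2) (h.n_not j)
    · obtain ⟨r', hr', hq⟩ := h.cov_win r i 0 (by omega) _ (conj_mem_cj (g := a) hs)
      set q := a⁻¹ * (r'⁻¹ * (a * s * a⁻¹)) * a with hqdef
      have hq' : q ∈ Q j := mem_cj.1 hq
      have hr'B : r' ∈ B := by
        have := (Win_le i 0 r hr')
        rw [Qs, alt_zero, cj_one] at this
        exact h.S_le (h.Q_le _ this)
      have h3 : (n j)⁻¹ * q * n j ∈ Q j := by
        have := h.Q_nrm j _ (inv_mem (h.n_mem j)) q hq'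
        rwa [inv_inv] at this
      refine ⟨r', hr'B, (n j)⁻¹ * q * n j * c, mul_mem (h.S_le (h.Q_le j h3)) hc, ?_⟩
      rw [alt_succ', ← ha, ← hj]
      calc a * b * n j = a * (b * n j) := by group
        _ = a * (s * n j * c) := by rw [e]
        _ = r' * (a * n j) * ((n j)⁻¹ * q * n j * c) := by rw [hqdef]; group

end path

end Oct

end Cfsg.Agent.Omega.TwoFFour

end

section


/-!
# THEOREM 2F4, (GEN) and the centralisers of the weights

* `Oct.gen` : a subgroup of `B` which centralises `W₋₂`, `W₂`, `W₄` is trivial;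
* `Oct.mem_Q`, `Oct.mem_cen` : an element of a Sylow group of an edge, resp. of `Q_j`, which commutes with a
  torus element without fixed points on the section lies in `Q_j`, resp. centralises `W_j`.
-/

set_option autoImplicit false
set_option linter.unusedSectionVars false

namespace Cfsg.Agent.Omega.TwoFFour

open Subgroup Cfsg.Agent.Omega.BTwo Cfsg.Agent.RankTwoClose

namespace Oct

variable {G : Type*} [Group G] {P Q : Bool → Subgroup G} {n : Bool → G} {B S H Z W O : Subgroup G}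
  {N : ℕ} {θ : ZMod N} {x y : G → ZMod N}

section gen

variable (h : Oct P Q n B S H Z W O θ x y)
include h

theorem sq_mem (i : Bool) : n i * n i ∈ B := h.frame.H₁_le (h.frame.sq_mem i)

theorem sq_mem' (i : Bool) : (n i)⁻¹ * (n i)⁻¹ ∈ B := by
  have := inv_mem (h.sq_mem i)
  rwa [mul_inv_rev] at this

/-- conjugation by `n i` preserves `N_B(H)` -/
theorem conj_H₁ (i : Bool) {b : G} (hb : b ∈ B) (hb' : b ∈ normalizer (H : Set G)) :
    (n i)⁻¹ * b * n i ∈ B := h.frame.H₁_le (h.frame.conj_mem' i ⟨hb, hb'⟩)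

theorem sq_norm (i : Bool) : n i * n i ∈ normalizer (H : Set G) := mul_mem (h.n_norm i) (h.n_norm i)

/-- `n₁ W₋₂ n₁⁻¹ = W₄` -/
theorem cj_W₄ : cj (n true) (cj (n true * n false)⁻¹ W) =
    cj ((n true * n false) * (n true * n false)) W := by
  have h1 : cj (((n true * n false) * (n true * n false))⁻¹ * (n true * (n true * n false)⁻¹)) W = W := by
    apply h.cj_W
    -- the element is `n₀⁻¹ (n₁⁻¹ (n₀⁻¹ n₀⁻¹) n₁) (n₁⁻¹ n₁⁻¹)`
    have e : ((n true * n false) * (n true * n false))⁻¹ * (n true * (n true * n false)⁻¹) =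
        (n false)⁻¹ * (((n true)⁻¹ * ((n false)⁻¹ * (n false)⁻¹) * n true) *
          ((n true)⁻¹ * (n true)⁻¹)) := by group
    rw [e]
    refine mul_mem (inv_mem (h.n_mem false)) (h.B_le false (mul_mem ?_ (h.sq_mem' true)))
    exact h.conj_H₁ true (h.sq_mem' false)
      (mul_mem (inv_mem (h.n_norm false)) (inv_mem (h.n_norm false)))
  rw [← cj_mul]
  conv_rhs => rw [← h1]
  rw [← cj_mul]
  congr 1
  group

/-- **(GEN)** -/
theorem gen {D : Subgroup G} (hD : D ≤ B)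
    (h1 : ∀ d ∈ D, ∀ w ∈ cj (n true * n false)⁻¹ W, d * w = w * d)
    (h2 : ∀ d ∈ D, ∀ w ∈ cj (n true * n false) W, d * w = w * d)
    (h3 : ∀ d ∈ D, ∀ w ∈ cj ((n true * n false) * (n true * n false)) W, d * w = w * d) : D = ⊥ := by
  set C := centralizer (D : Set G) with hC
  have hmem : ∀ {g : G}, g ∈ C ↔ ∀ d ∈ D, d * g = g * d := fun {g} => mem_centralizer_iff
  have hW1 : cj (n true * n false)⁻¹ W ≤ C := fun w hw => hmem.2 fun d hd => h1 d hd w hw
  have hW2 : cj (n true * n false) W ≤ C := fun w hw => hmem.2 fun d hd => h2 d hd w hw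
  have hW3 : cj ((n true * n false) * (n true * n false)) W ≤ C :=
    fun w hw => hmem.2 fun d hd => h3 d hd w hw
  -- transitive on the panel of `P₀`
  have t0 : ∀ p ∈ P false, ∃ c ∈ C, c⁻¹ * p ∈ B := by
    intro p hp
    obtain ⟨c, hc, hcp⟩ := h.gen₀ p hp
    exact ⟨c, (sup_le hW2 hW1) hc, hcp⟩
  -- transitive on the panel of `P₁`
  have t1 : ∀ p ∈ P true, ∃ c ∈ C, c⁻¹ * p ∈ B := by
    have key : ∀ s ∈ S, ∀ c ∈ B, ∃ r ∈ C, ∃ c' ∈ B, s * n true * c = r * n true * c' := by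
      intro s hs c hc
      obtain ⟨r, hr, hrs⟩ := h.gen₁ s hs
      refine ⟨r, hW1 hr.1, (n true)⁻¹ * (r⁻¹ * s) * n true * c, ?_, by group⟩
      have h4 := h.Q_nrm true _ (inv_mem (h.n_mem true)) _ hrs
      rw [inv_inv] at h4
      exact mul_mem (h.S_le (h.Q_le true h4)) hc
    obtain ⟨s₀, hs₀, hs₀'⟩ := h.Q_ne true
    obtain ⟨f, hf, hfs⟩ := h.gen₁ s₀ hs₀
    have hfQ : f ∉ Q true := by
      intro hfQ
      apply hs₀'
      have : s₀ = f * (f⁻¹ * s₀) := by group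
      rw [this]
      exact mul_mem hfQ hfs
    have hfS : f ∈ S := h.Q_le false hf.2
    set e := n true * f * (n true)⁻¹ with he
    have heC : e ∈ C := by
      apply hW3
      rw [← h.cj_W₄]
      exact conj_mem_cj hf.1
    have heP : e ∈ P true := mul_mem (mul_mem (h.n_mem true) (h.B_le true (h.S_le hfS)))
      (inv_mem (h.n_mem true))
    have heB : e ∉ B := by
      intro heB
      apply hfQ
      apply h.Q_max true f hfS
      have e1 : (n true)⁻¹ * f * n true = (n true * n true)⁻¹ * e * (n true * n true) := by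
        rw [he]; group
      rw [e1]
      exact mul_mem (mul_mem (inv_mem (h.sq_mem true)) heB) (h.sq_mem true)
    have hn : ∃ c ∈ C, ∃ b ∈ B, n true = c * b := by
      rcases (h.memP true e).1 heP with h5 | ⟨s, hs, c, hc, e1⟩
      · exact absurd h5 heB
      · obtain ⟨r, hr, c', hc', h6⟩ := key s hs c hc
        refine ⟨r⁻¹ * e, mul_mem (inv_mem hr) heC, c'⁻¹, inv_mem hc', ?_⟩
        rw [e1, h6]
        group
    obtain ⟨c₀, hc₀, b₀, hb₀, e₀⟩ := hn
    intro p hp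
    rcases (h.memP true p).1 hp with h5 | ⟨s, hs, c, hc, rfl⟩
    · exact ⟨1, one_mem _, by rwa [inv_one, one_mul]⟩
    · obtain ⟨r, hr, c', hc', h6⟩ := key s hs c hc
      refine ⟨r * c₀, mul_mem hr hc₀, ?_⟩
      rw [h6, e₀]
      have : (r * c₀)⁻¹ * (r * (c₀ * b₀) * c') = b₀ * c' := by group
      rw [this]
      exact mul_mem hb₀ hc'
  -- `C B` is closed under right multiplication
  have tt : ∀ i, ∀ p ∈ P i, ∃ c ∈ C, c⁻¹ * p ∈ B := by
    rintro (_ | _)
    · exact t0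
    · exact t1
  let T : Set G := {g | ∃ c ∈ C, c⁻¹ * g ∈ B}
  have hT : ∀ i, ∀ p ∈ P i, ∀ g ∈ T, g * p ∈ T := by
    rintro i p hp g ⟨c, hc, hcg⟩
    obtain ⟨c', hc', h4⟩ := tt i (c⁻¹ * g * p) (mul_mem (h.B_le i hcg) hp)
    refine ⟨c * c', mul_mem hc hc', ?_⟩
    have : (c * c')⁻¹ * (g * p) = c'⁻¹ * (c⁻¹ * g * p) := by group
    rwa [this]
  let St : Subgroup G :=
    { carrier := {g | (∀ t ∈ T, t * g ∈ T) ∧ ∀ t ∈ T, t * g⁻¹ ∈ T}
      one_mem' := ⟨fun t ht => by rwa [mul_one], fun t ht => by rwa [inv_one, mul_one]⟩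
      mul_mem' := by
        rintro a b ⟨ha, ha'⟩ ⟨hb, hb'⟩
        refine ⟨fun t ht => ?_, fun t ht => ?_⟩
        · rw [← mul_assoc]; exact hb _ (ha _ ht)
        · rw [mul_inv_rev, ← mul_assoc]; exact ha' _ (hb' _ ht)
      inv_mem' := by
        rintro a ⟨ha, ha'⟩
        exact ⟨ha', fun t ht => by rw [inv_inv]; exact ha t ht⟩ }
  have hSt : ∀ i, P i ≤ St := fun i p hp =>
    ⟨fun t ht => hT i p hp t ht, fun t ht => hT i _ (inv_mem hp) t ht⟩
  have hX : ∀ g ∈ P false ⊔ P true, ∃ c ∈ C, c⁻¹ * g ∈ B := by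
    intro g hg
    have h4 : g ∈ St := (sup_le (hSt false) (hSt true)) hg
    have h5 := h4.1 1 ⟨1, one_mem _, by rw [inv_one, one_mul]; exact one_mem _⟩
    rwa [one_mul] at h5
  -- the kernel
  let X : Subgroup G := P false ⊔ P true
  let K : Subgroup G := ⨅ g : X, cj (g : G) B
  have hK : ∀ {k : G}, k ∈ K ↔ ∀ g ∈ X, g⁻¹ * k * g ∈ B := by
    intro k
    rw [mem_iInf]
    exact ⟨fun h4 g hg => mem_cj.1 (h4 ⟨g, hg⟩), fun h4 g => mem_cj.2 (h4 g g.2)⟩
  have hKB : K ≤ B := by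
    intro k hk
    have := hK.1 hk 1 (one_mem _)
    simpa using this
  have hPX : ∀ i, P i ≤ X := by
    rintro (_ | _)
    · exact le_sup_left
    · exact le_sup_right
  have hK1 := h.core K hKB (fun i p hp k hk => by
    rw [hK] at hk ⊢
    intro g hg
    have := hk (p⁻¹ * g) (mul_mem (inv_mem (hPX i hp)) hg)
    have e : (p⁻¹ * g)⁻¹ * k * (p⁻¹ * g) = g⁻¹ * (p * k * p⁻¹) * g := by group
    rwa [e] at this)
  rw [eq_bot_iff, ← hK1]
  intro d hd
  rw [hK]
  intro g hg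
  obtain ⟨c, hc, hcg⟩ := hX g hg
  set b := c⁻¹ * g with hb
  have e : g⁻¹ * d * g = b⁻¹ * d * b := by
    have e1 : g = c * b := by rw [hb]; group
    have e2 : c⁻¹ * d * c = d := by
      rw [mul_assoc, hmem.1 hc d hd, ← mul_assoc, inv_mul_cancel, one_mul]
    calc g⁻¹ * d * g = b⁻¹ * (c⁻¹ * d * c) * b := by rw [e1]; group
      _ = b⁻¹ * d * b := by rw [e2]
  rw [e]
  exact mul_mem (mul_mem (inv_mem hcg) (hD hd)) hcg

end gen

section mem

variable (h : Oct P Q n B S H Z W O θ x y)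
include h

/-- commuting with a torus element without fixed points on `S / Q i` -/
theorem mem_Q {i : Bool} {g a s : G} (hg : g ∈ normalizer (H : Set G)) (ha : a ∈ H)
    (hf : fr θ x y i (g⁻¹ * a * g) ≠ 0) (hs : s ∈ cj g S) (hc : a * s = s * a) :
    s ∈ cj g (Q i) := by
  rw [mem_cj] at hs ⊢
  refine h.free i _ (h.H_conj hg ha) hf _ hs ?_
  have e : g⁻¹ * a * g * (g⁻¹ * s * g) * (g⁻¹ * a * g)⁻¹ * (g⁻¹ * s * g)⁻¹ =
      g⁻¹ * (a * s * a⁻¹ * s⁻¹) * g := by group
  rw [e, hc]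
  have e2 : g⁻¹ * (s * a * a⁻¹ * s⁻¹) * g = 1 := by group
  rw [e2]
  exact one_mem _

/-- the element `s ∈ Q₀` centralises `W` -/
theorem mem_cen₀ {a s : G} (ha : a ∈ H) (hs : s ∈ Q false) (hc : a * s = s * a)
    (c1 : y a ≠ x a) (c2 : θ * x a - y a ≠ x a)
    (c3 : (θ - 1) * (x a + y a) ≠ x a ∨ ∀ z ∈ O, s * z = z * s)
    (c4 : (θ - 1) * (x a + (θ * x a - y a)) ≠ x a ∨ ∀ z ∈ cj (n false) O, s * z = z * s) :
    s ∈ centralizer (W : Set G) := by
  set a' := (n false)⁻¹ * a * n false with ha'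
  set s' := (n false)⁻¹ * s * n false with hs'
  have haH : a' ∈ H := h.n_conj' false ha
  have hsQ : s' ∈ Q false := by
    have := h.Q_nrm false _ (inv_mem (h.n_mem false)) s hs
    rwa [inv_inv] at this
  have hc' : a' * s' = s' * a' := by
    have e1 : a' * s' = (n false)⁻¹ * (a * s) * n false := by rw [ha', hs']; group
    have e2 : s' * a' = (n false)⁻¹ * (s * a) * n false := by rw [ha', hs']; group
    rw [e1, e2, hc]
  -- transport through `n₀`
  have tr : ∀ {K : Subgroup G}, (∀ z ∈ K, s' * z = z * s') → ∀ z ∈ cj (n false) K, s * z = z * s := by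
    intro K hK z hz
    have h1 := hK _ (mem_cj.1 hz)
    have e1 : s * z = n false * (s' * ((n false)⁻¹ * z * n false)) * (n false)⁻¹ := by
      rw [hs']; group
    have e2 : z * s = n false * (((n false)⁻¹ * z * n false) * s') * (n false)⁻¹ := by
      rw [hs']; group
    rw [e1, e2, h1]
  have hx' : x a' = x a := h.x₀ a ha
  have hy' : y a' = θ * x a - y a := h.y₀ a ha
  have k0 : ∀ z ∈ Z, s * z = z * s := fun z hz => (h.Z_cen z hz s (h.Q_le false hs)).symm
  have k1 : ∀ z ∈ cj (n true) Z, s * z = z * s := h.fixZ a ha s hs hc c1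
  have k2 : ∀ z ∈ cj (n false * n true) Z, s * z = z * s := by
    rw [cj_mul]
    exact tr (h.fixZ a' haH s' hsQ hc' (by rw [hx', hy']; exact c2))
  have k3 : ∀ z ∈ O, s * z = z * s := by
    rcases c3 with c3 | c3
    · exact h.fixO a ha s hs hc c3
    · exact c3
  have k4 : ∀ z ∈ cj (n false) O, s * z = z * s := by
    rcases c4 with c4 | c4
    · exact tr (h.fixO a' haH s' hsQ hc' (by rw [hx', hy']; exact c4))
    · exact c4
  have hle : W ≤ centralizer ({s} : Set G) := by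
    refine h.W_gen.trans ?_
    have aux : ∀ {K : Subgroup G}, (∀ z ∈ K, s * z = z * s) → K ≤ centralizer ({s} : Set G) :=
      fun hK z hz => mem_centralizer_singleton_iff.2 (hK z hz).symm
    exact sup_le (sup_le (sup_le (sup_le (aux k0) (aux k1)) (aux k2)) (aux k3)) (aux k4)
  rw [mem_centralizer_iff]
  intro w hw
  exact mem_centralizer_singleton_iff.1 (hle hw)

/-- `mem_cen₀` at the vertex `g u₀`. -/
theorem mem_cen {g a s : G} (hg : g ∈ normalizer (H : Set G)) (ha : a ∈ H)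
    (hs : s ∈ cj g (Q false)) (hc : a * s = s * a)
    (c1 : y (g⁻¹ * a * g) ≠ x (g⁻¹ * a * g))
    (c2 : θ * x (g⁻¹ * a * g) - y (g⁻¹ * a * g) ≠ x (g⁻¹ * a * g))
    (c3 : (θ - 1) * (x (g⁻¹ * a * g) + y (g⁻¹ * a * g)) ≠ x (g⁻¹ * a * g) ∨
      ∀ z ∈ cj g O, s * z = z * s)
    (c4 : (θ - 1) * (x (g⁻¹ * a * g) + (θ * x (g⁻¹ * a * g) - y (g⁻¹ * a * g))) ≠ x (g⁻¹ * a * g) ∨
      ∀ z ∈ cj g (cj (n false) O), s * z = z * s) :
    s ∈ cj g (centralizer (W : Set G)) := by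
  rw [mem_cj] at hs ⊢
  have tr : ∀ {K : Subgroup G}, (∀ z ∈ cj g K, s * z = z * s) →
      ∀ z ∈ K, g⁻¹ * s * g * z = z * (g⁻¹ * s * g) := by
    intro K hK z hz
    have h1 := hK _ (conj_mem_cj hz)
    have e1 : g⁻¹ * s * g * z = g⁻¹ * (s * (g * z * g⁻¹)) * g := by group
    have e2 : z * (g⁻¹ * s * g) = g⁻¹ * ((g * z * g⁻¹) * s) * g := by group
    rw [e1, e2, h1]
  refine h.mem_cen₀ (h.H_conj hg ha) hs ?_ c1 c2 (c3.imp id tr) (c4.imp id tr)
  have e1 : g⁻¹ * a * g * (g⁻¹ * s * g) = g⁻¹ * (a * s) * g := by group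
  have e2 : g⁻¹ * s * g * (g⁻¹ * a * g) = g⁻¹ * (s * a) * g := by group
  rw [e1, e2, hc]

end mem

end Oct

end Cfsg.Agent.Omega.TwoFFour

end

section


/-!
# THEOREM 2F4, (7a), (7b): the group `E = C_S(A)`, `A = ker χ₀`

`E` centralises `W₀`, `E ∩ Q₄ = 1` and `E` covers `S_{3,4} / Q₄`.
-/

set_option autoImplicit false
set_option linter.unusedSectionVars false

namespace Cfsg.Agent.Omega.TwoFFour

open Subgroup Cfsg.Agent.Omega.BTwo Cfsg.Agent.RankTwoClose

namespace Oct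

variable {G : Type*} [Group G] {P Q : Bool → Subgroup G} {n : Bool → G} {B S H Z W O : Subgroup G}
  {N : ℕ} {θ : ZMod N} {x y : G → ZMod N}

section ess

variable (h : Oct P Q n B S H Z W O θ x y)
include h

theorem x_one : x 1 = 0 := by
  have := h.x_mul 1 (one_mem _) 1 (one_mem _)
  rw [mul_one] at this
  linear_combination -this

theorem y_one : y 1 = 0 := by
  have := h.y_mul 1 (one_mem _) 1 (one_mem _)
  rw [mul_one] at this
  linear_combination -this

theorem x_inv {t : G} (ht : t ∈ H) : x t⁻¹ = -x t := by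
  have := h.x_mul t ht t⁻¹ (inv_mem ht)
  rw [mul_inv_cancel, h.x_one] at this
  linear_combination -this

theorem y_inv {t : G} (ht : t ∈ H) : y t⁻¹ = -y t := by
  have := h.y_mul t ht t⁻¹ (inv_mem ht)
  rw [mul_inv_cancel, h.y_one] at this
  linear_combination -this

/-- `A = ker χ₀`. -/
def A : Subgroup G where
  carrier := {t | t ∈ H ∧ x t = 0}
  one_mem' := ⟨one_mem _, h.x_one⟩
  mul_mem' := by
    rintro a b ⟨ha, ha'⟩ ⟨hb, hb'⟩
    exact ⟨mul_mem ha hb, by rw [h.x_mul a ha b hb, ha', hb', add_zero]⟩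
  inv_mem' := by
    rintro a ⟨ha, ha'⟩
    exact ⟨inv_mem ha, by rw [h.x_inv ha, ha', neg_zero]⟩

theorem mem_A {t : G} : t ∈ h.A ↔ t ∈ H ∧ x t = 0 := Iff.rfl

/-- `E = C_S(A)`. -/
def E : Subgroup G := S ⊓ centralizer (h.A : Set G)

theorem mem_E {s : G} : s ∈ h.E ↔ s ∈ S ∧ ∀ a ∈ h.A, a * s = s * a := by
  unfold E
  rw [mem_inf, mem_centralizer_iff]
  rfl

theorem tau_norm : n true * n false ∈ normalizer (H : Set G) := mul_mem (h.n_norm _) (h.n_norm _)

theorem x_tau {t : G} (ht : t ∈ H) : x ((n true * n false)⁻¹ * t * (n true * n false)) = y t := by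
  have e : (n true * n false)⁻¹ * t * (n true * n false) =
      (n false)⁻¹ * ((n true)⁻¹ * t * n true) * n false := by group
  rw [e, h.x₀ _ (h.n_conj' true ht), h.x₁ t ht]

theorem y_tau {t : G} (ht : t ∈ H) :
    y ((n true * n false)⁻¹ * t * (n true * n false)) = θ * y t - x t := by
  have e : (n true * n false)⁻¹ * t * (n true * n false) =
      (n false)⁻¹ * ((n true)⁻¹ * t * n true) * n false := by group
  rw [e, h.y₀ _ (h.n_conj' true ht), h.x₁ t ht, h.y₁ t ht]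

theorem x_mul_tau {g t : G} (hg : g ∈ normalizer (H : Set G)) (ht : t ∈ H) :
    x ((g * (n true * n false))⁻¹ * t * (g * (n true * n false))) = y (g⁻¹ * t * g) := by
  have e : (g * (n true * n false))⁻¹ * t * (g * (n true * n false)) =
      (n true * n false)⁻¹ * (g⁻¹ * t * g) * (n true * n false) := by group
  rw [e, h.x_tau (h.H_conj hg ht)]

theorem y_mul_tau {g t : G} (hg : g ∈ normalizer (H : Set G)) (ht : t ∈ H) :
    y ((g * (n true * n false))⁻¹ * t * (g * (n true * n false))) =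
      θ * y (g⁻¹ * t * g) - x (g⁻¹ * t * g) := by
  have e : (g * (n true * n false))⁻¹ * t * (g * (n true * n false)) =
      (n true * n false)⁻¹ * (g⁻¹ * t * g) * (n true * n false) := by group
  rw [e, h.y_tau (h.H_conj hg ht)]

theorem x_mul_n {g t : G} (hg : g ∈ normalizer (H : Set G)) (ht : t ∈ H) :
    x ((g * n true)⁻¹ * t * (g * n true)) = y (g⁻¹ * t * g) := by
  have e : (g * n true)⁻¹ * t * (g * n true) = (n true)⁻¹ * (g⁻¹ * t * g) * n true := by group
  rw [e, h.x₁ _ (h.H_conj hg ht)]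

theorem y_mul_n {g t : G} (hg : g ∈ normalizer (H : Set G)) (ht : t ∈ H) :
    y ((g * n true)⁻¹ * t * (g * n true)) = x (g⁻¹ * t * g) := by
  have e : (g * n true)⁻¹ * t * (g * n true) = (n true)⁻¹ * (g⁻¹ * t * g) * n true := by group
  rw [e, h.y₁ _ (h.H_conj hg ht)]

theorem cj_tau_Q (g : G) : cj (g * (n true * n false)) (Q false) = cj (g * n true) (Q false) := by
  rw [← mul_assoc, cj_mul (g * n true), h.cj_Q false (h.n_mem false)]

theorem cj_n_Q (g : G) : cj (g * n true) (Q true) = cj g (Q true) := by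
  rw [cj_mul, h.cj_Q true (h.n_mem true)]

theorem cj_tau_W (g : G) : cj (g * (n true * n false)) W = cj (g * n true) W := by
  rw [← mul_assoc, cj_mul (g * n true), h.cj_W (h.n_mem false)]

/-- the element `a` of `A` with weight vector `(0, 1)` -/
theorem exists_a : ∃ a ∈ h.A, a ∈ H ∧ x a = 0 ∧ y a = 1 := by
  obtain ⟨a, ha, h1, h2⟩ := h.surj 0 1
  exact ⟨a, ⟨ha, h1⟩, ha, h1, h2⟩

theorem E_le_Q₀ : h.E ≤ Q false := by
  intro s hs
  obtain ⟨a, haA, ha, ax, ay⟩ := h.exists_a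
  have h1 := h.mem_Q (i := false) (g := 1) (one_mem _) ha (by
    show θ * y _ - x _ ≠ 0
    rw [inv_one, one_mul, mul_one, ax, ay]
    simpa using h.th_ne) (by rw [cj_one]; exact (h.mem_E.1 hs).1) ((h.mem_E.1 hs).2 a haA)
  rwa [cj_one] at h1

theorem E_le_cen : h.E ≤ centralizer (W : Set G) := by
  intro s hs
  obtain ⟨a, haA, ha, ax, ay⟩ := h.exists_a
  have n1 := h.one_ne
  have n5 := h.th1_ne'
  refine h.mem_cen₀ ha (h.E_le_Q₀ hs) ((h.mem_E.1 hs).2 a haA) ?_ ?_ (Or.inl ?_) (Or.inl ?_) <;>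
    rw [ax, ay]
  · exact n1
  · intro h0; exact n1 (by linear_combination -h0)
  · intro h0; exact n5 (by linear_combination h0)
  · intro h0; exact n5 (by linear_combination -h0)

theorem E_le₂ : h.E ≤ cj (n true * n false) (Q false) := by
  intro s hs
  obtain ⟨a, haA, ha, ax, ay⟩ := h.exists_a
  have h1 : s ∈ cj (n true) S := by
    have h2 := h.W_cen true (h.E_le_cen hs)
    rw [← h.cj_Q true (h.n_mem true)] at h2
    exact cj_mono (h.Q_le true) h2
  have h3 := h.mem_Q (i := false) (g := n true) (h.n_norm true) ha (by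
    show θ * y _ - x _ ≠ 0
    rw [h.x₁ a ha, h.y₁ a ha, ax, ay]
    intro h0; exact h.one_ne (by linear_combination -h0)) h1 ((h.mem_E.1 hs).2 a haA)
  rw [cj_mul, h.cj_Q false (h.n_mem false)]
  exact h3

/-- `E ≤ S_{3,4}` -/
theorem E_le₃ : h.E ≤ cj (n true * n false * n true) S := by
  intro s hs
  obtain ⟨a, haA, ha, ax, ay⟩ := h.exists_a
  have h1 : s ∈ cj (n true * n false) S := cj_mono (h.Q_le false) (h.E_le₂ hs)
  have h3 := h.mem_Q (i := true) (g := n true * n false) h.tau_norm ha (by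
    show x _ - y _ ≠ 0
    rw [h.x_tau ha, h.y_tau ha, ax, ay]
    intro h0; exact h.th1_ne' (by linear_combination -h0)) h1 ((h.mem_E.1 hs).2 a haA)
  rw [← h.cj_n_Q] at h3
  exact cj_mono (h.Q_le true) h3

/-- **(7b)**: `E ∩ Q₄ = 1` -/
theorem E_inf : h.E ⊓ cj ((n true * n false) * (n true * n false)) (Q false) = ⊥ := by
  obtain ⟨a, haA, ha, ax, ay⟩ := h.exists_a
  have n1 := h.one_ne
  have n5 := h.th1_ne'
  have n6 := h.th2_ne
  have hs2 := h.sq
  set τ := n true * n false with hτ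
  have N1 : τ ∈ normalizer (H : Set G) := h.tau_norm
  have N2 : τ * τ ∈ normalizer (H : Set G) := mul_mem N1 N1
  have N3 : τ * τ * τ ∈ normalizer (H : Set G) := mul_mem N2 N1
  have N4 : τ * τ * τ * τ ∈ normalizer (H : Set G) := mul_mem N3 N1
  -- the weights
  have X1 : x (τ⁻¹ * a * τ) = 1 := by rw [h.x_tau ha, ay]
  have Y1 : y (τ⁻¹ * a * τ) = θ := by rw [h.y_tau ha, ax, ay]; ring
  have X2 : x ((τ * τ)⁻¹ * a * (τ * τ)) = θ := by rw [h.x_mul_tau N1 ha, Y1]
  have Y2 : y ((τ * τ)⁻¹ * a * (τ * τ)) = 1 := by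
    rw [h.y_mul_tau N1 ha, X1, Y1]; linear_combination hs2
  have X3 : x ((τ * τ * τ)⁻¹ * a * (τ * τ * τ)) = 1 := by rw [h.x_mul_tau N2 ha, Y2]
  have Y3 : y ((τ * τ * τ)⁻¹ * a * (τ * τ * τ)) = 0 := by
    rw [h.y_mul_tau N2 ha, X2, Y2]; ring
  have X4 : x ((τ * τ * τ * τ)⁻¹ * a * (τ * τ * τ * τ)) = 0 := by rw [h.x_mul_tau N3 ha, Y3]
  have Y4 : y ((τ * τ * τ * τ)⁻¹ * a * (τ * τ * τ * τ)) = -1 := by
    rw [h.y_mul_tau N3 ha, X3, Y3]; ring
  -- from `F_g` to `Q` of the next point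
  have next : ∀ {g s : G}, g ∈ normalizer (H : Set G) → s ∈ cj g (centralizer (W : Set G)) →
      a * s = s * a → θ * x (g⁻¹ * a * g) - y (g⁻¹ * a * g) ≠ 0 → s ∈ cj (g * τ) (Q false) := by
    intro g s hg hs hc hf
    have h1 : s ∈ cj (g * n true) S := by
      have h2 := cj_mono (g := g) (h.W_cen true) hs
      rw [← h.cj_n_Q] at h2
      exact cj_mono (h.Q_le true) h2
    rw [h.cj_tau_Q]
    refine h.mem_Q (mul_mem hg (h.n_norm true)) ha ?_ h1 hc
    show θ * y _ - x _ ≠ 0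
    rw [h.x_mul_n hg ha, h.y_mul_n hg ha]
    exact hf
  have cenW : ∀ {g s : G}, s ∈ cj g (centralizer (W : Set G)) → ∀ w ∈ cj g W, s * w = w * s := by
    intro g s hs w hw
    rw [← centralizer_cj] at hs
    exact (mem_centralizer_iff.1 hs w hw).symm
  have key : ∀ s ∈ h.E, s ∈ cj (τ * τ) (Q false) →
      s ∈ cj τ (centralizer (W : Set G)) ∧ s ∈ cj (τ * τ * τ) (centralizer (W : Set G)) ∧
        s ∈ cj (τ * τ * τ * τ) (centralizer (W : Set G)) := by
    intro s hs hsQ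
    have hc : a * s = s * a := (h.mem_E.1 hs).2 a haA
    -- `u₄`
    have f4 : s ∈ cj (τ * τ) (centralizer (W : Set G)) := by
      refine h.mem_cen N2 ha hsQ hc ?_ ?_ (Or.inl ?_) (Or.inl ?_) <;> rw [X2, Y2]
      · intro h0; exact n5 (by linear_combination -h0)
      · intro h0; exact n5 (by linear_combination -h0 + hs2)
      · intro h0; exact n5 (by linear_combination -h0 + hs2)
      · intro h0; exact n5 (by linear_combination -h0 + (θ + 1 - 1) * hs2 )
    have w4 := cenW f4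
    -- `u₆`
    have q6 : s ∈ cj (τ * τ * τ) (Q false) := next N2 f4 hc (by
      rw [X2, Y2]; intro h0; exact n1 (by linear_combination h0 - hs2))
    have f6 : s ∈ cj (τ * τ * τ) (centralizer (W : Set G)) := by
      refine h.mem_cen N3 ha q6 hc ?_ ?_ (Or.inl ?_) (Or.inr ?_)
      · rw [X3, Y3]; exact fun h0 => n1 h0.symm
      · rw [X3, Y3]; intro h0; exact n5 (by linear_combination h0)
      · rw [X3, Y3]; intro h0; exact n6 (by linear_combination h0)
      · intro z hz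
        apply w4
        have h1 : cj (n false) O ≤ cj (n false * n true) W := by
          rw [cj_mul]; exact cj_mono h.O_le
        have h2 := cj_mono (g := τ * τ * τ) h1 hz
        rw [← cj_mul] at h2
        have h3 : cj (τ * τ * τ * (n false * n true)) W = cj (τ * τ) W := by
          have e : τ * τ * τ * (n false * n true) = τ * τ *
              ((n true * (n false * n false) * (n true)⁻¹) * (n true * n true)) := by
            rw [hτ]; group
          rw [e, cj_mul]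
          congr 1
          apply h.cj_W
          refine h.B_le false (mul_mem ?_ (h.sq_mem true))
          have e2 : n true * (n false * n false) * (n true)⁻¹ = (n true * n true) *
              ((n true)⁻¹ * (n false * n false) * n true) * (n true * n true)⁻¹ := by group
          rw [e2]
          exact mul_mem (mul_mem (h.sq_mem true)
            (h.conj_H₁ true (h.sq_mem false) (h.sq_norm false))) (inv_mem (h.sq_mem true))
        rwa [h3] at h2
    -- `u₈`
    have q8 : s ∈ cj (τ * τ * τ * τ) (Q false) := next N3 f6 hc (by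
      rw [X3, Y3]; intro h0; exact h.th_ne (by linear_combination h0))
    have f8 : s ∈ cj (τ * τ * τ * τ) (centralizer (W : Set G)) := by
      refine h.mem_cen N4 ha q8 hc ?_ ?_ (Or.inl ?_) (Or.inl ?_) <;> rw [X4, Y4]
      · intro h0; exact n1 (by linear_combination -h0)
      · intro h0; exact n1 (by linear_combination h0)
      · intro h0; exact n5 (by linear_combination -h0)
      · intro h0; exact n5 (by linear_combination h0)
    -- `u₂`
    have f2 : s ∈ cj τ (centralizer (W : Set G)) := by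
      refine h.mem_cen N1 ha (h.E_le₂ hs) hc ?_ ?_ (Or.inr ?_) (Or.inl ?_)
      · rw [X1, Y1]; intro h0; exact n5 (by linear_combination h0)
      · rw [X1, Y1]; intro h0; exact n1 (by linear_combination -h0)
      · intro z hz
        apply w4
        have h2 := cj_mono (g := τ) h.O_le hz
        rw [← cj_mul, ← h.cj_tau_W] at h2
        exact h2
      · rw [X1, Y1]; intro h0; exact n6 (by linear_combination h0)
    exact ⟨f2, f6, f8⟩
  -- shift to the chamber `B`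
  have hD : cj (τ * τ)⁻¹ (h.E ⊓ cj (τ * τ) (Q false)) = ⊥ := by
    have tr : ∀ {g : G}, (∀ s ∈ h.E, s ∈ cj (τ * τ) (Q false) → s ∈ cj (τ * τ * g)
        (centralizer (W : Set G))) → ∀ d ∈ cj (τ * τ)⁻¹ (h.E ⊓ cj (τ * τ) (Q false)),
        ∀ w ∈ cj g W, d * w = w * d := by
      intro g hg d hd w hw
      rw [mem_cj, inv_inv] at hd
      have h1 := cenW (hg _ hd.1 hd.2) (τ * τ * w * (τ * τ)⁻¹) (by
        rw [cj_mul]; exact conj_mem_cj hw)
      have e1 : d * w = (τ * τ)⁻¹ * ((τ * τ) * d * (τ * τ)⁻¹ * (τ * τ * w * (τ * τ)⁻¹)) * (τ * τ) := by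
        group
      have e2 : w * d = (τ * τ)⁻¹ * ((τ * τ * w * (τ * τ)⁻¹) * ((τ * τ) * d * (τ * τ)⁻¹)) * (τ * τ) := by
        group
      rw [e1, e2, h1]
    refine h.gen ?_ (tr fun s hs hq => ?_) (tr fun s hs hq => ?_) (tr fun s hs hq => ?_)
    · intro d hd
      rw [mem_cj, inv_inv] at hd
      have h2 := mem_cj.1 hd.2
      have e : (τ * τ)⁻¹ * (τ * τ * d * (τ * τ)⁻¹) * (τ * τ) = d := by group
      rw [e] at h2
      exact h.S_le (h.Q_le false h2)
    · have e : τ * τ * τ⁻¹ = τ := by group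
      rw [e]
      exact (key s hs hq).1
    · exact (key s hs hq).2.1
    · rw [← mul_assoc]
      exact (key s hs hq).2.2
  have := congrArg (cj (τ * τ)) hD
  rwa [cj_cj_inv, cj_bot] at this

end ess

end Oct

end Cfsg.Agent.Omega.TwoFFour

end

section


/-!
# THEOREM 2F4, (7a), (7c): `E` covers `S_{3,4} / Q₄`, its involutions are those of `Z`, it is a Sylow
2-subgroup of `C_G(A)` and normal in `C_G(v) ∩ C_G(A)` for all `v ∈ Z^#`
-/

set_option autoImplicit false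
set_option linter.unusedSectionVars false

namespace Cfsg.Agent.Omega.TwoFFour

open Subgroup Cfsg.Agent.Omega.BTwo Cfsg.Agent.RankTwoClose

/-- powers with odd and with 2-power exponent -/
theorem mem_of_pows {G : Type*} [Group G] {K : Subgroup G} {g : G} {k m : ℕ} (hk : Odd k)
    (h1 : g ^ k ∈ K) (h2 : g ^ 2 ^ m ∈ K) : g ∈ K := by
  have hc : Nat.Coprime k (2 ^ m) := Nat.Coprime.pow_right m (Nat.coprime_two_right.2 hk)
  have e : g = (g ^ k) ^ (Nat.gcdA k (2 ^ m)) * (g ^ 2 ^ m) ^ (Nat.gcdB k (2 ^ m)) := by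
    have h3 := Nat.gcd_eq_gcd_ab k (2 ^ m)
    rw [hc.gcd_eq_one] at h3
    rw [← zpow_natCast, ← zpow_natCast g (2 ^ m), ← zpow_mul, ← zpow_mul, ← zpow_add, ← h3]
    simp
  rw [e]
  exact mul_mem (K.zpow_mem h1 _) (K.zpow_mem h2 _)

namespace Oct

variable {G : Type*} [Group G] {P Q : Bool → Subgroup G} {n : Bool → G} {B S H Z W O : Subgroup G}
  {N : ℕ} {θ : ZMod N} {x y : G → ZMod N}

section cover

variable [Finite G] (h : Oct P Q n B S H Z W O θ x y)
include h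

theorem H_inf_S : ∀ g ∈ H, g ∈ S → g = 1 := by
  intro g hg hgS
  obtain ⟨m, hm⟩ := h.twoS ⟨g, hgS⟩
  have hm' : g ^ 2 ^ m = 1 := congrArg Subtype.val hm
  have h1 : g ^ Nat.card H = 1 := by
    have : (⟨g, hg⟩ : H) ^ Nat.card H = 1 := pow_card_eq_one'
    exact congrArg Subtype.val this
  have := mem_of_pows (K := (⊥ : Subgroup G)) h.oddH (by rw [h1]; exact one_mem _)
    (by rw [hm']; exact one_mem _)
  exact mem_bot.1 this

theorem coprime_A {R : Subgroup G} (hR : IsPGroup 2 R) :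
    (Nat.card h.A).Coprime (Nat.card R) := by
  have hp : Fact (Nat.Prime 2) := ⟨Nat.prime_two⟩
  obtain ⟨m, hm⟩ := IsPGroup.iff_card.1 hR
  rw [hm]
  apply Nat.Coprime.pow_right
  rw [Nat.coprime_two_right]
  have h1 : h.A ≤ H := fun t ht => ht.1
  exact Odd.of_dvd_nat h.oddH (card_dvd_of_le h1)

/-- **(7a)**: `E` covers `S_{3,4} / Q₄`. -/
theorem E_cov : ∀ s ∈ cj (n true * n false * n true) S,
    ∃ e ∈ h.E, e⁻¹ * s ∈ cj (n true * n false * n true) (Q false) := by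
  intro s hs
  set τ := n true * n false with hτ
  have Nτ : τ ∈ normalizer (H : Set G) := h.tau_norm
  -- the alternating words
  have a7 : alt n true 7 = τ * τ * (τ * n true) := by
    show n true * (n false * (n true * (n false * (n true * (n false * (n true * 1)))))) = _
    rw [hτ]; group
  have a3 : alt n true 3 = τ * n true := by
    show n true * (n false * (n true * 1)) = _
    rw [hτ]; group
  have a6 : alt n true 6 = τ * τ * τ := by
    show n true * (n false * (n true * (n false * (n true * (n false * 1))))) = _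
    rw [hτ]; group
  have hcov : Cov Q S false (alt n true 7) (Win Q n true 0 6) := h.cov_win 6 true 0 le_rfl
  set R : Subgroup G := cj (τ * τ)⁻¹ (Win Q n true 0 6) with hRdef
  -- `R` lies in `Q₀` and in `S_{3,4}`
  have hRQ : R ≤ Q false := by
    have h1 : Win Q n true 0 6 ≤ Qs Q n true 3 := Win_le' true 6 0 3 (by norm_num)
    have h2 : Qs Q n true 3 = cj (τ * τ) (Q false) := by
      show cj (alt n true 3) (Q false) = _
      rw [a3, ← h.cj_tau_Q]
    rw [h2] at h1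
    have h3 := cj_mono (g := (τ * τ)⁻¹) h1
    rwa [cj_inv_cj] at h3
  have hRS : R ≤ cj (τ * n true) S := by
    have h1 : Win Q n true 0 6 ≤ Qs Q n true 6 := Win_le' true 6 0 6 (by norm_num)
    have h2 := h1.trans (h.Qs_le' true 6)
    rw [a7] at h2
    have h3 := cj_mono (g := (τ * τ)⁻¹) h2
    rwa [cj_mul, cj_inv_cj] at h3
  have hRH : ∀ k ∈ H, ∀ r ∈ R, k * r * k⁻¹ ∈ R := by
    intro k hk r hr
    rw [mem_cj, inv_inv] at hr ⊢
    have N2 : τ * τ ∈ normalizer (H : Set G) := mul_mem Nτ Nτ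
    have h1 := h.Win_H true 6 0 (conj_mem_of_normalizer N2 hk) hr
    have e : τ * τ * (k * r * k⁻¹) * (τ * τ)⁻¹ = τ * τ * k * (τ * τ)⁻¹ *
        (τ * τ * r * (τ * τ)⁻¹) * (τ * τ * k * (τ * τ)⁻¹)⁻¹ := by group
    rwa [e]
  have hR2 : IsPGroup 2 R := h.twoS.to_le (hRQ.trans (h.Q_le false))
  -- `R` covers `S_{3,4} / Q₄`
  obtain ⟨r, hr, hrs⟩ : ∃ r ∈ R, r⁻¹ * s ∈ cj (τ * n true) (Q false) := by
    have h1 : τ * τ * s * (τ * τ)⁻¹ ∈ cj (alt n true 7) S := by
      rw [a7, cj_mul]; exact conj_mem_cj hs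
    obtain ⟨r, hr, hr'⟩ := hcov _ h1
    refine ⟨(τ * τ)⁻¹ * r * (τ * τ), ?_, ?_⟩
    · rw [mem_cj]
      have e : (τ * τ)⁻¹⁻¹ * ((τ * τ)⁻¹ * r * (τ * τ)) * (τ * τ)⁻¹ = r := by group
      rwa [e]
    · rw [a7, cj_mul] at hr'
      have h2 := mem_cj.1 hr'
      have e : ∀ g : G, g⁻¹ * (r⁻¹ * (g * s * g⁻¹)) * g = (g⁻¹ * r * g)⁻¹ * s := by
        intro g; group
      rwa [e] at h2
  -- `A` is trivial on `S_{3,4} / Q₄`
  have hA : ∀ a ∈ h.A, ∀ u ∈ cj (τ * n true) S, a * u * a⁻¹ * u⁻¹ ∈ cj (τ * n true) (Q false) := by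
    intro a ha u hu
    rw [mem_cj] at hu ⊢
    have h1 := h.triv false ((τ * n true)⁻¹ * a * (τ * n true))
      (h.H_conj (mul_mem Nτ (h.n_norm true)) ha.1) (by
        show θ * y _ - x _ = 0
        rw [h.x_mul_n Nτ ha.1, h.y_mul_n Nτ ha.1, h.x_tau ha.1, h.y_tau ha.1, ha.2]
        ring) _ hu
    have e : (τ * n true)⁻¹ * (a * u * a⁻¹ * u⁻¹) * (τ * n true) =
        (τ * n true)⁻¹ * a * (τ * n true) * ((τ * n true)⁻¹ * u * (τ * n true)) *
          ((τ * n true)⁻¹ * a * (τ * n true))⁻¹ * ((τ * n true)⁻¹ * u * (τ * n true))⁻¹ := by group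
    rwa [e]
  have hQn : ∀ u ∈ cj (τ * n true) S, ∀ q ∈ cj (τ * n true) (Q false),
      u * q * u⁻¹ ∈ cj (τ * n true) (Q false) := by
    intro u hu q hq
    rw [mem_cj] at hu hq ⊢
    have h1 := h.Q_nrm false _ (h.B_le false (h.S_le hu)) _ hq
    have e : (τ * n true)⁻¹ * (u * q * u⁻¹) * (τ * n true) = (τ * n true)⁻¹ * u * (τ * n true) *
        ((τ * n true)⁻¹ * q * (τ * n true)) * ((τ * n true)⁻¹ * u * (τ * n true))⁻¹ := by group
    rwa [e]
  have hQa : ∀ k ∈ H, ∀ q ∈ cj (τ * n true) (Q false), k * q * k⁻¹ ∈ cj (τ * n true) (Q false) := by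
    intro k hk q hq
    rw [mem_cj] at hq ⊢
    have h1 := h.Q_nrm false _ (h.B_le false (h.H_le (h.H_conj (mul_mem Nτ (h.n_norm true)) hk))) _ hq
    have e : (τ * n true)⁻¹ * (k * q * k⁻¹) * (τ * n true) = (τ * n true)⁻¹ * k * (τ * n true) *
        ((τ * n true)⁻¹ * q * (τ * n true)) * ((τ * n true)⁻¹ * k * (τ * n true))⁻¹ := by group
    rwa [e]
  have hsolv : Group.IsSolvable h.A ∨ Group.IsSolvable R := by
    right
    have hp : Fact (Nat.Prime 2) := ⟨Nat.prime_two⟩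
    have := hR2.isNilpotent
    infer_instance
  obtain ⟨c, hc, hcr⟩ := Cfsg.Agent.S0022.result h.A R
    (fun a ha => mem_normalizer_of_conj fun r hr => hRH a ha.1 r hr) (h.coprime_A hR2) hsolv
    (R ⊓ cj (τ * n true) (Q false)) inf_le_left
    (fun u hu => mem_normalizer_of_conj fun q hq =>
      mem_inf.2 ⟨mul_mem (mul_mem hu hq.1) (inv_mem hu), hQn u (hRS hu) q hq.2⟩)
    (fun a ha => mem_normalizer_of_conj fun q hq =>
      mem_inf.2 ⟨hRH a ha.1 q hq.1, hQa a ha.1 q hq.2⟩)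
    r hr (fun a ha => mem_inf.2 ⟨mul_mem (hRH a ha.1 r hr) (inv_mem hr), hA a ha r (hRS hr)⟩)
  refine ⟨c, ⟨h.Q_le false (hRQ hc.1), hc.2⟩, ?_⟩
  have e : c⁻¹ * s = (r⁻¹ * c)⁻¹ * (r⁻¹ * s) := by group
  rw [e]
  exact mul_mem (inv_mem hcr.2) hrs

theorem Z_le_E : Z ≤ h.E := by
  intro z hz
  exact h.mem_E.2 ⟨h.Z_le hz, fun a ha => h.Z_x a ha.1 ha.2 z hz⟩

theorem w_sq : n true * n false * n true * (n true * n false * n true) ∈ B := by
  have e : n true * n false * n true * (n true * n false * n true) =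
      (n true * n true) * ((n true)⁻¹ * ((n false * n false) *
        ((n false)⁻¹ * (n true * n true) * n false)) * n true) := by group
  rw [e]
  refine mul_mem (h.sq_mem true) (h.conj_H₁ true ?_ ?_)
  · exact mul_mem (h.sq_mem false) (h.conj_H₁ false (h.sq_mem true) (h.sq_norm true))
  · exact mul_mem (h.sq_norm false) (mul_mem (mul_mem (inv_mem (h.n_norm false)) (h.sq_norm true))
      (h.n_norm false))

/-- the involutions of `E` are those of `Z` -/
theorem E_sq {e : G} (he : e ∈ h.E) (h2 : e * e = 1) : e ∈ Z := by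
  set w := n true * n false * n true with hw
  have h3 : e ∈ cj w S := h.E_le₃ he
  have h4 := mem_cj.1 h3
  obtain ⟨z', hz', hq⟩ := h.omega (w⁻¹ * e * w) h4 (by
    have e1 : w⁻¹ * e * w * (w⁻¹ * e * w) = w⁻¹ * (e * e) * w := by group
    rw [e1, h2]
    have e2 : w⁻¹ * 1 * w = 1 := by group
    rw [e2]
    exact one_mem _)
  set z := w * z' * w⁻¹ with hz
  have hzZ : z ∈ Z := by
    have h5 : z ∈ cj w (cj w Z) := conj_mem_cj hz'
    rw [← cj_mul, mem_cj] at h5
    have h6 := h.Z_nrm _ (h.B_le false h.w_sq) _ h5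
    have e1 : w * w * ((w * w)⁻¹ * z * (w * w)) * (w * w)⁻¹ = z := by group
    rwa [← hw, e1] at h6
  have h7 : z⁻¹ * e ∈ cj ((n true * n false) * (n true * n false)) (Q false) := by
    rw [h.cj_tau_Q]
    have h8 : w * (z'⁻¹ * (w⁻¹ * e * w)) * w⁻¹ ∈ cj w (Q false) := conj_mem_cj hq
    have e1 : w * (z'⁻¹ * (w⁻¹ * e * w)) * w⁻¹ = z⁻¹ * e := by rw [hz]; group
    rwa [e1] at h8
  have h9 : z⁻¹ * e ∈ h.E ⊓ cj ((n true * n false) * (n true * n false)) (Q false) :=
    mem_inf.2 ⟨mul_mem (inv_mem (h.Z_le_E hzZ)) he, h7⟩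
  rw [h.E_inf, mem_bot] at h9
  have : e = z := by
    have := inv_mul_eq_one.1 h9
    exact this.symm
  rw [this]
  exact hzZ

/-- an element of `B` which fixes `n₀ B` -/
theorem dec {g : G} (hg : g ∈ B) (hg' : n false * g * (n false)⁻¹ ∈ B) :
    ∃ s ∈ Q false, ∃ m ∈ B, m ∈ normalizer (H : Set G) ∧ g = s * m := by
  obtain ⟨s, hs, hm⟩ := h.split g hg
  have hmB : s⁻¹ * g ∈ B := mul_mem (inv_mem (h.S_le hs)) hg
  refine ⟨s, ?_, s⁻¹ * g, hmB, hm, by group⟩
  apply h.Q_max false s hs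
  have h1 := h.conj_H₁ false hmB hm
  have h2 : (n false)⁻¹ * g * n false ∈ B := by
    have e : (n false)⁻¹ * g * n false = (n false * n false)⁻¹ * (n false * g * (n false)⁻¹) *
        (n false * n false) := by group
    rw [e]
    exact mul_mem (mul_mem (inv_mem (h.sq_mem false)) hg') (h.sq_mem false)
  have e : (n false)⁻¹ * s * n false = ((n false)⁻¹ * g * n false) *
      ((n false)⁻¹ * (s⁻¹ * g) * n false)⁻¹ := by group
  rw [e]
  exact mul_mem h2 (inv_mem h1)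

/-- **(c1)**: the 2-elements of `C_{P₀}(A)` lie in `E`. -/
theorem mem_E_of_two {r : G} (hr : r ∈ P false) (hA : ∀ a ∈ h.A, a * r = r * a) {m : ℕ}
    (h2 : r ^ 2 ^ m = 1) : r ∈ h.E := by
  obtain ⟨a, haA, ha, ax, ay⟩ := h.exists_a
  have hf : fr θ x y false a ≠ 0 := by
    show θ * y a - x a ≠ 0
    rw [ax, ay, mul_one, sub_zero]
    exact h.th_ne
  have har : r⁻¹ * a * r = a := by
    rw [mul_assoc, hA a haA, ← mul_assoc, inv_mul_cancel, one_mul]
  rcases h.two_one false r hr ha hf (by rw [har]; exact h.H_le ha) with hB | hB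
  · obtain ⟨k, hk, hk'⟩ := h.oddB r hB
    exact h.mem_E.2 ⟨mem_of_pows hk hk' (by rw [h2]; exact one_mem _), hA⟩
  · exfalso
    set g := (n false)⁻¹ * r with hg
    have hrg : r = n false * g := by rw [hg]; group
    -- `r n₀ ∈ B`
    have h3 : r * n false ∈ B := by
      have h4 : (r * n false)⁻¹ * a * (r * n false) ∈ B := by
        have e : (r * n false)⁻¹ * a * (r * n false) = (n false)⁻¹ * (r⁻¹ * a * r) * n false := by
          group
        rw [e, har]
        exact h.H_le (h.n_conj' false ha)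
      rcases h.two_one false _ (mul_mem hr (h.n_mem false)) ha hf h4 with h5 | h5
      · exact h5
      · exfalso
        have h6 : g * n false ∈ B := by
          have e : (n false)⁻¹ * (r * n false) = g * n false := by rw [hg]; group
          rwa [e] at h5
        exact h.n_not false ((B.mul_mem_cancel_left hB).1 h6)
    have h4 : n false * g * (n false)⁻¹ ∈ B := by
      have e : n false * g * (n false)⁻¹ = (r * n false) * (n false * n false)⁻¹ := by
        rw [hrg]; group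
      rw [e]
      exact mul_mem h3 (inv_mem (h.sq_mem false))
    obtain ⟨s, hs, p, hpB, hpN, hgs⟩ := h.dec hB h4
    set s' := n false * s * (n false)⁻¹ with hs'
    have hs'Q : s' ∈ Q false := h.Q_nrm false _ (h.n_mem false) s hs
    -- `p` inverts `A`
    have hinv : ∀ a ∈ h.A, p * a * p⁻¹ = a⁻¹ := by
      intro a ha
      set b := n false * (p * a * p⁻¹) * (n false)⁻¹ with hb
      have hbH : b ∈ H := h.n_conj false (conj_mem_of_normalizer hpN ha.1)
      have e1 : b = s'⁻¹ * a * s' := by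
        have h5 : r * a * r⁻¹ = a := by rw [← hA a ha]; group
        have e2 : r = s' * (n false * p) := by rw [hrg, hgs, hs']; group
        have e3 : r * a * r⁻¹ = s' * b * s'⁻¹ := by rw [e2, hb]; group
        rw [e3] at h5
        rw [← h5]; group
      have hab : a⁻¹ * b = 1 := by
        apply h.H_inf_S _ (mul_mem (inv_mem ha.1) hbH)
        rw [e1]
        have e2 : a⁻¹ * (s'⁻¹ * a * s') = (a⁻¹ * s'⁻¹ * (a⁻¹)⁻¹) * s' := by group
        rw [e2]
        exact mul_mem (h.S_nrm _ (h.H_le (inv_mem ha.1)) _ (inv_mem (h.Q_le false hs'Q)))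
          (h.Q_le false hs'Q)
      have hba : b = a := (inv_mul_eq_one.1 hab).symm
      have e4 : p * a * p⁻¹ = (n false)⁻¹ * a * n false := by
        have e5 : p * a * p⁻¹ = (n false)⁻¹ * b * n false := by rw [hb]; group
        rwa [hba] at e5
      rw [e4]
      refine h.inj _ (h.n_conj' false ha.1) _ (inv_mem ha.1) ?_ ?_
      · rw [h.x₀ a ha.1, h.x_inv ha.1, ha.2, neg_zero]
      · rw [h.y₀ a ha.1, h.y_inv ha.1, ha.2]; ring
    obtain ⟨k, hk, hk'⟩ := h.oddB p hpB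
    have hpk : ∀ j, p ^ (2 * j) * a * (p ^ (2 * j))⁻¹ = a := by
      intro j
      induction j with
      | zero => simp
      | succ j ih =>
        have e5 : p ^ (2 * (j + 1)) * a * (p ^ (2 * (j + 1)))⁻¹ =
            p * (p * (p ^ (2 * j) * a * (p ^ (2 * j))⁻¹) * p⁻¹) * p⁻¹ := by
          rw [Nat.mul_add, mul_one, Nat.add_comm, pow_add, pow_two]; group
        rw [e5, ih, hinv a haA, hinv _ (inv_mem haA), inv_inv]
    obtain ⟨j, rfl⟩ := hk
    have h6 : p ^ (2 * j + 1) * a * (p ^ (2 * j + 1))⁻¹ = a⁻¹ := by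
      have e5 : p ^ (2 * j + 1) * a * (p ^ (2 * j + 1))⁻¹ =
          p * (p ^ (2 * j) * a * (p ^ (2 * j))⁻¹) * p⁻¹ := by
        rw [Nat.add_comm, pow_add, pow_one]; group
      rw [e5, hpk, hinv a haA]
    have h7 : a⁻¹ * a⁻¹ = 1 := by
      apply h.H_inf_S _ (mul_mem (inv_mem ha) (inv_mem ha))
      have e5 : a⁻¹ * a⁻¹ = p ^ (2 * j + 1) * (a * (p ^ (2 * j + 1))⁻¹ * a⁻¹) := by
        calc a⁻¹ * a⁻¹ = (p ^ (2 * j + 1) * a * (p ^ (2 * j + 1))⁻¹) * a⁻¹ := by rw [h6]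
          _ = _ := by group
      rw [e5]
      exact mul_mem hk' (h.S_nrm a (h.H_le ha) _ (inv_mem hk'))
    have h8 := h.y_mul a⁻¹ (inv_mem ha) a⁻¹ (inv_mem ha)
    rw [h7, h.y_one, h.y_inv ha, ay] at h8
    exact h.two_ne (by linear_combination h8)

/-- **(c2)**: `E` is a Sylow 2-subgroup of `C_G(A)`. -/
theorem E_syl {R : Subgroup G} (hR : IsPGroup 2 R) (hRA : ∀ r ∈ R, ∀ a ∈ h.A, r * a = a * r)
    (hER : h.E ≤ R) : R ≤ h.E := by
  have hp : Fact (Nat.Prime 2) := ⟨Nat.prime_two⟩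
  by_contra hne
  have hnil : Group.IsNilpotent R := hR.isNilpotent
  have h1 : h.E.subgroupOf R < ⊤ := by
    rw [lt_top_iff_ne_top]
    intro h2
    exact hne (subgroupOf_eq_top.1 h2)
  have h2 := Group.normalizerCondition_of_isNilpotent _ h1
  obtain ⟨r, hr, hr'⟩ := SetLike.exists_of_lt h2
  apply hr'
  rw [mem_subgroupOf]
  have hrn : ∀ e ∈ h.E, (r : G) * e * (r : G)⁻¹ ∈ h.E := by
    intro e he
    have := (mem_normalizer_iff.1 hr ⟨e, hER he⟩).1 (mem_subgroupOf.2 he)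
    exact mem_subgroupOf.1 this
  have hrP : (r : G) ∈ P false := by
    apply h.Z_norm
    intro z hz
    refine h.E_sq (hrn z (h.Z_le_E hz)) ?_
    have e : (r : G) * z * (r : G)⁻¹ * (r * z * (r : G)⁻¹) = r * (z * z) * (r : G)⁻¹ := by group
    rw [e, h.Z_sq z hz, mul_one, mul_inv_cancel]
  obtain ⟨m, hm⟩ := hR r
  exact h.mem_E_of_two hrP (fun a ha => (hRA r r.2 a ha).symm) (m := m) (congrArg Subtype.val hm)

/-- **(c3)** -/
theorem E_norm {v c : G} (hv : v ∈ h.E) (hvv : v * v = 1) (hv1 : v ≠ 1) (hc : c * v = v * c)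
    (hcA : ∀ a ∈ h.A, c * a = a * c) : ∀ e ∈ h.E, c * e * c⁻¹ ∈ h.E := by
  have hvZ := h.E_sq hv hvv
  obtain ⟨R, hRS, hZR, hR⟩ := h.Z_two v hvZ hv1
  have hAc : ∀ {u : G}, (∀ a ∈ h.A, a * u = u * a) → ∀ a ∈ h.A, a * (c * u * c⁻¹) = c * u * c⁻¹ * a := by
    intro u hu a ha
    have h1 := hcA a ha
    have h2 : c⁻¹ * a = a * c⁻¹ := by
      calc c⁻¹ * a = c⁻¹ * (a * c) * c⁻¹ := by group
        _ = c⁻¹ * (c * a) * c⁻¹ := by rw [h1]
        _ = a * c⁻¹ := by group
    calc a * (c * u * c⁻¹) = (a * c) * u * c⁻¹ := by group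
      _ = c * (a * u) * c⁻¹ := by rw [← h1]; group
      _ = c * u * (a * c⁻¹) := by rw [hu a ha]; group
      _ = c * u * c⁻¹ * a := by rw [← h2]; group
  have hcP : c ∈ P false := by
    apply h.Z_norm
    intro z hz
    refine h.E_sq (h.mem_E.2 ⟨hRS (hR c hc z (hZR hz)), ?_⟩) ?_
    · exact hAc (h.mem_E.1 (h.Z_le_E hz)).2
    · have e : c * z * c⁻¹ * (c * z * c⁻¹) = c * (z * z) * c⁻¹ := by group
      rw [e, h.Z_sq z hz, mul_one, mul_inv_cancel]
  intro e he
  exact h.mem_E.2 ⟨h.Q_le false (h.Q_nrm false c hcP e (h.E_le_Q₀ he)), hAc (h.mem_E.1 he).2⟩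

end cover

end Oct

end Cfsg.Agent.Omega.TwoFFour

end

section


/-!
# The `RankTwoClose.Frame` of the node `b = 2`

`false ↔ P₁` (normaliser of `V`), `true ↔ P₂` (normaliser of `R`).
-/

set_option autoImplicit false
set_option linter.dupNamespace false

universe u

namespace Cfsg.Agent.Omega.Hex

open Subgroup Cfsg.Agent.Omega.BTwo

namespace Hex

variable {G : Type u} [Group G] {P₁ P₂ B U H V R W Y D : Subgroup G} {n₁ n₂ : G} {q r : ℕ}

/-- the frame of the pair `(P₁, P₂)` -/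
def frame (h : Hex P₁ P₂ B U H V R W Y D n₁ n₂ q r) : RankTwoClose.Frame G where
  B := B
  H := H
  P i := bif i then P₂ else P₁
  n i := bif i then n₂ else n₁
  memP := by
    rintro (_ | _) x
    · simp only [cond_false]
      constructor
      · intro hx
        by_cases hxB : x ∈ B
        · exact Or.inl hxB
        · obtain ⟨w, hw, hwx⟩ := h.trans₁ x hx hxB
          exact Or.inr ⟨w, h.UB (h.WU hw), _, hwx, by group⟩
      · rintro (hx | ⟨b, hb, c, hc, rfl⟩)
        · exact h.B₁ hx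
        · exact mul_mem (mul_mem (h.B₁ hb) h.n₁P) (h.B₁ hc)
    · simp only [cond_true]
      constructor
      · intro hx
        by_cases hxB : x ∈ B
        · exact Or.inl hxB
        · obtain ⟨w, hw, hwx⟩ := h.trans₂ x hx hxB
          exact Or.inr ⟨w, h.UB (h.YU hw), _, hwx, by group⟩
      · rintro (hx | ⟨b, hb, c, hc, rfl⟩)
        · exact h.B₂ hx
        · exact mul_mem (mul_mem (h.B₂ hb) h.n₂P) (h.B₂ hc)
  inter := by
    simp only [cond_false, cond_true]
    exact le_antisymm (fun x hx => h.stab₁ ⟨hx.1, h.nR hx.2⟩) (le_inf h.B₁ h.B₂)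
  H_le := h.HB
  n_norm := by
    rintro (_ | _)
    · exact h.n₁H
    · exact h.n₂H
  n_not := by
    rintro (_ | _)
    · exact h.n₁B
    · exact h.n₂B
  two := by
    rintro (_ | _) g hg hH
    · exact h.two₁ g hg hH
    · exact h.two₂ g hg hH

variable (h : Hex P₁ P₂ B U H V R W Y D n₁ n₂ q r)

@[simp] theorem frame_B : h.frame.B = B := rfl
@[simp] theorem frame_H : h.frame.H = H := rfl
@[simp] theorem frame_P_false : h.frame.P false = P₁ := rfl
@[simp] theorem frame_P_true : h.frame.P true = P₂ := rfl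
@[simp] theorem frame_n_false : h.frame.n false = n₁ := rfl
@[simp] theorem frame_n_true : h.frame.n true = n₂ := rfl

theorem frame_H₁ : h.frame.H₁ = B ⊓ normalizer (H : Set G) := rfl

end Hex

end Cfsg.Agent.Omega.Hex

end
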