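import Mathlib
import Cfsg.Agent.Mrg.Omega.ExitsThree
import Cfsg.Agent.Mrg.RankTwoClose.BN
import Cfsg.Agent.S0022
import Cfsg.Agent.Mrg.RankTwoClose.UFour.Basic
import Cfsg.Agent.Solvable.Glauberman

section


/-!
# The braid relation from a torus with a strongly embedded subgroup in its centralizer

Given a `Frame` (see `RankTwoClose/BN`), a subgroup `A` and a root pair `E ≤ K` with respect to `A`
(`RootLemma.Root`), `K ≤ P i` containing a representative of the reflection `n i` modulo `H₁`.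
With `w = alt (!i) (m - 1)`: if `K` is also contained in `w (P j) w⁻¹`, `j` the type of the panel
opposite to the one of type `i`, then the braid relation of length `m` holds.  The inclusion is
automatic if `w` normalises `A` (`m` even), or if `w (P j) w⁻¹` contains a second root group.
-/

set_option autoImplicit false

universe u

namespace Cfsg.Agent.RankTwoClose

open Cfsg.Agent.Omega.RootLemma

/-- The rank one group of `A` is unique, also for different Sylow subgroups. -/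
theorem root_le {G : Type u} [Group G] [Finite G] {A U K V K' : Subgroup G} (hB : Bender.{u})
    (h : Root A U K) (h' : Root A V K') : K' ≤ K := by
  -- a conjugate of `V` in the centralizer lies in `U`
  obtain ⟨c, hcA, hc⟩ : ∃ c : G, (∀ a ∈ A, c * a = a * c) ∧ ∀ v ∈ V, c * v * c⁻¹ ∈ U := by
    obtain ⟨S, hS⟩ : ∃ S : Sylow 2 (Cn A), (S : Subgroup (Cn A)) = U.subgroupOf (Cn A) := by
      obtain ⟨S, hS⟩ := h.ti.two.exists_le_sylow
      exact ⟨S, le_antisymm (h.ti.syl _ S.isPGroup' hS) hS⟩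
    have hp : IsPGroup 2 (V.subgroupOf (Cn A)) := h'.two.comap_subtype
    obtain ⟨T, hT⟩ := hp.exists_le_sylow
    obtain ⟨g, hg⟩ := MulAction.exists_smul_eq (Cn A) T S
    refine ⟨g, mem_cen.1 g.2, fun v hv => ?_⟩
    have hle := h'.le_cen
    have h1 : (⟨v, hle hv⟩ : Cn A) ∈ T := hT (Subgroup.mem_subgroupOf.2 hv)
    have h2 : g * (⟨v, hle hv⟩ : Cn A) * g⁻¹ ∈ (S : Subgroup (Cn A)) := by
      rw [← hg]
      exact Subgroup.smul_mem_pointwise_smul _ (MulAut.conj g) _ h1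
    rw [hS] at h2
    exact Subgroup.mem_subgroupOf.1 h2
  refine h'.gen.trans ?_
  rw [Subgroup.closure_le]
  rintro _ ⟨k, hk, v, hv, rfl⟩
  have e : k * v * k⁻¹ = (k * c⁻¹) * (c * v * c⁻¹) * (k * c⁻¹)⁻¹ := by group
  rw [e]
  refine h.mem hB (fun a ha => ?_) (hc v hv)
  have h1 := h'.comm k hk a ha
  have h2 : c⁻¹ * a = a * c⁻¹ := by
    have := hcA a ha
    calc c⁻¹ * a = c⁻¹ * (a * c) * c⁻¹ := by group
      _ = c⁻¹ * (c * a) * c⁻¹ := by rw [this]
      _ = a * c⁻¹ := by group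
  rw [mul_assoc, h2, ← mul_assoc, h1, mul_assoc]

theorem root_eq {G : Type u} [Group G] [Finite G] {A U K V K' : Subgroup G} (hB : Bender.{u})
    (h : Root A U K) (h' : Root A V K') : K = K' :=
  le_antisymm (root_le hB h' h) (root_le hB h h')

namespace Frame

variable {G : Type u} [Group G] (F : Frame G)

/-- The braid relation from an element representing the reflection `n i` and lying in the opposite
panel stabiliser. -/
theorem braid_of_mem {m : ℕ} {i : Bool} {l : G} (hl : (F.n i)⁻¹ * l ∈ F.H₁)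
    (hm : (alt F.n (!i) m)⁻¹ * l * alt F.n (!i) m ∈ F.P (nxt (!i) m)) : F.Braid (m + 1) := by
  set w := alt F.n (!i) m with hw
  set j := nxt (!i) m with hj
  have hwN : w ∈ Subgroup.normalizer (F.H : Set G) := F.alt_mem_norm' _ _
  have hwN1 : w ∈ Subgroup.normalizer (F.H₁ : Set G) := F.alt_mem_norm _ _
  have hlN : l ∈ Subgroup.normalizer (F.H : Set G) := by
    have := mul_mem (F.n_norm i) (F.H₁_norm hl)
    rwa [mul_inv_cancel_left] at this
  have hg : w⁻¹ * l * w ∈ Subgroup.normalizer (F.H : Set G) :=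
    mul_mem (mul_mem (inv_mem hwN) hlN) hwN
  have key : ∃ h ∈ F.H₁, alt F.n i (m + 1) = alt F.n (!i) (m + 1) * h := by
    rcases F.two' hm hg with h | h
    · exfalso
      have h1 : l ∈ F.H₁ := by
        rw [Subgroup.mem_normalizer_iff''] at hwN1
        exact (hwN1 l).2 h
      have h2 : F.n i ∈ F.H₁ := by
        have h3 := mul_mem h1 (inv_mem hl)
        have e : l * ((F.n i)⁻¹ * l)⁻¹ = F.n i := by group
        rwa [e] at h3
      exact F.n_not i (F.H₁_le h2)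
    · -- `h : (n j)⁻¹ (w⁻¹ l w) ∈ H₁`
      refine ⟨((F.n j)⁻¹ * (w⁻¹ * l * w)) * (w⁻¹ * ((F.n i)⁻¹ * l)⁻¹ * w), ?_, ?_⟩
      · refine mul_mem h ?_
        rw [Subgroup.mem_normalizer_iff''] at hwN1
        exact (hwN1 _).1 (inv_mem hl)
      · rw [alt_succ, alt_succ', ← hw, ← hj]
        group
  obtain ⟨h, hh, e⟩ := key
  cases i
  · refine ⟨h⁻¹, inv_mem hh, ?_⟩
    have e' : alt F.n false (m + 1) = alt F.n true (m + 1) * h := e
    rw [e', mul_assoc, mul_inv_cancel, mul_one]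
  · exact ⟨h, hh, e⟩

variable [Finite G]

/-- **Braid relation, two root groups**: `K ≤ P i` and `K' ≤ w (P j) w⁻¹` rank one groups for the
same `A`. -/
theorem braid_of_roots {m : ℕ} {i : Bool} {A U K V K' : Subgroup G} (hB : Bender.{u})
    (h : Root A U K) (h' : Root A V K') {l : G} (hlK : l ∈ K) (hl : (F.n i)⁻¹ * l ∈ F.H₁)
    (hK' : ∀ k ∈ K', (alt F.n (!i) m)⁻¹ * k * alt F.n (!i) m ∈ F.P (nxt (!i) m)) :
    F.Braid (m + 1) :=
  F.braid_of_mem hl (hK' l ((root_eq hB h h') ▸ hlK))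

/-- **Braid relation, one root group** (`m + 1` even): `w` normalises `A` and the opposite panel has
the same type. -/
theorem braid_of_root {m : ℕ} {i : Bool} {A U K : Subgroup G} (hB : Bender.{u})
    (h : Root A U K) {l : G} (hlK : l ∈ K) (hl : (F.n i)⁻¹ * l ∈ F.H₁) (hK : K ≤ F.P i)
    (hodd : Odd m) (hA : ∀ a ∈ A, (alt F.n (!i) m)⁻¹ * a * alt F.n (!i) m ∈ A) :
    F.Braid (m + 1) := by
  refine F.braid_of_mem hl ?_
  have h1 : nxt (!i) m = i := by
    obtain ⟨r, rfl⟩ := hodd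
    rw [nxt_not, nxt_succ, Bool.not_not]
    simp [nxt, Nat.bodd_mul, show Nat.bodd 2 = false from rfl]
  rw [h1]
  have h2 := h.conj_mem hB (y := (alt F.n (!i) m)⁻¹) (fun a ha => by rw [inv_inv]; exact hA a ha) hlK
  rw [inv_inv] at h2
  exact hK h2

end Frame

end Cfsg.Agent.RankTwoClose

end

section


/-!
# The closing theorem in rank two

For a `Frame F` in a finite group `G` with `PathTo F k` for `k < m` and the braid relation of length
`m` (from `Frame.braid_of_roots`, `Frame.braid_of_root`) the group `X = ⟨P₀, P₁⟩` has a split BN-pair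
of rank two with Borel subgroup `B`.
-/

set_option autoImplicit false

universe u

namespace Cfsg.Agent.RankTwoClose

namespace Frame

variable {G : Type*} [Group G] (F : Frame G)

theorem mem_normalizer_subgroupOf {X H : Subgroup G} (hH : H ≤ X) {x : X} :
    x ∈ Subgroup.normalizer ((H.subgroupOf X : Subgroup X) : Set X) ↔
      (x : G) ∈ Subgroup.normalizer (H : Set G) := by
  rw [Subgroup.mem_normalizer_iff, Subgroup.mem_normalizer_iff]
  constructor
  · intro h y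
    constructor
    · intro hy
      have := (h ⟨y, hH hy⟩).1 (Subgroup.mem_subgroupOf.2 hy)
      exact Subgroup.mem_subgroupOf.1 this
    · intro hy
      have hyX : y ∈ X := by
        have h1 : (x : G)⁻¹ * ((x : G) * y * (x : G)⁻¹) * (x : G) ∈ X :=
          mul_mem (mul_mem (inv_mem x.2) (hH hy)) x.2
        have e : (x : G)⁻¹ * ((x : G) * y * (x : G)⁻¹) * (x : G) = y := by group
        rwa [e] at h1
      have := (h ⟨y, hyX⟩).2 (Subgroup.mem_subgroupOf.2 hy)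
      exact Subgroup.mem_subgroupOf.1 this
  · intro h y
    rw [Subgroup.mem_subgroupOf, Subgroup.mem_subgroupOf]
    exact h (y : G)

/-- The frame in a subgroup containing both parabolics. -/
def restrict (X : Subgroup G) (hX : ∀ i, F.P i ≤ X) : Frame X where
  B := F.B.subgroupOf X
  H := F.H.subgroupOf X
  P i := (F.P i).subgroupOf X
  n i := ⟨F.n i, hX i (F.n_mem i)⟩
  memP i x := by
    have hB : F.B ≤ X := (F.B_le i).trans (hX i)
    rw [Subgroup.mem_subgroupOf, F.memP]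
    constructor
    · rintro (h | ⟨b, hb, c, hc, e⟩)
      · exact Or.inl (Subgroup.mem_subgroupOf.2 h)
      · exact Or.inr ⟨⟨b, hB hb⟩, Subgroup.mem_subgroupOf.2 hb, ⟨c, hB hc⟩,
          Subgroup.mem_subgroupOf.2 hc, Subtype.ext e⟩
    · rintro (h | ⟨b, hb, c, hc, e⟩)
      · exact Or.inl (Subgroup.mem_subgroupOf.1 h)
      · exact Or.inr ⟨b, Subgroup.mem_subgroupOf.1 hb, c, Subgroup.mem_subgroupOf.1 hc,
          congrArg Subtype.val e⟩
  inter := by
    ext x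
    rw [Subgroup.mem_inf, Subgroup.mem_subgroupOf, Subgroup.mem_subgroupOf,
      Subgroup.mem_subgroupOf, ← F.inter, Subgroup.mem_inf]
  H_le x hx := Subgroup.mem_subgroupOf.2 (F.H_le (Subgroup.mem_subgroupOf.1 hx))
  n_norm i := by
    rw [mem_normalizer_subgroupOf ((F.H_le.trans (F.B_le i)).trans (hX i))]
    exact F.n_norm i
  n_not i h := F.n_not i (Subgroup.mem_subgroupOf.1 h)
  two i g hg h := by
    have hH : F.H ≤ X := (F.H_le.trans (F.B_le i)).trans (hX i)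
    rcases F.two i g (Subgroup.mem_subgroupOf.1 hg) (fun t ht =>
      Subgroup.mem_subgroupOf.1 (h ⟨t, hH ht⟩ (Subgroup.mem_subgroupOf.2 ht))) with h1 | h1
    · exact Or.inl (Subgroup.mem_subgroupOf.2 h1)
    · exact Or.inr (Subgroup.mem_subgroupOf.2 h1)

variable {F} {X : Subgroup G} {hX : ∀ i, F.P i ≤ X}

theorem coe_alt_restrict (i : Bool) (k : ℕ) :
    ((alt (F.restrict X hX).n i k : X) : G) = alt F.n i k := by
  induction k generalizing i with
  | zero => rfl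
  | succ k ih =>
    rw [alt_succ, alt_succ, ← ih (!i)]
    rfl

theorem mem_H₁_restrict {x : X} : x ∈ (F.restrict X hX).H₁ ↔ (x : G) ∈ F.H₁ := by
  have hH : F.H ≤ X := (F.H_le.trans (F.B_le false)).trans (hX false)
  constructor
  · rintro ⟨h1, h2⟩
    exact ⟨Subgroup.mem_subgroupOf.1 h1, (mem_normalizer_subgroupOf hH).1 h2⟩
  · rintro ⟨h1, h2⟩
    exact ⟨Subgroup.mem_subgroupOf.2 h1, (mem_normalizer_subgroupOf hH).2 h2⟩

theorem Braid.restrict {m : ℕ} (h : F.Braid m) : (F.restrict X hX).Braid m := by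
  obtain ⟨t, ht, e⟩ := h
  refine ⟨⟨t, hX false (F.B_le false (F.H₁_le ht))⟩, mem_H₁_restrict.2 ht, Subtype.ext ?_⟩
  show ((alt (F.restrict X hX).n true m : X) : G) = ((alt (F.restrict X hX).n false m : X) : G) * t
  rw [coe_alt_restrict, coe_alt_restrict, e]

theorem PathTo.restrict {k : ℕ} (h : F.PathTo k) : (F.restrict X hX).PathTo k := by
  have hB : F.B ≤ X := (F.B_le false).trans (hX false)
  intro i b hb
  obtain ⟨c, hc, d, hd, e⟩ := h i b (Subgroup.mem_subgroupOf.1 hb)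
  refine ⟨⟨c, hB hc⟩, Subgroup.mem_subgroupOf.2 hc, ⟨d, hB hd⟩, Subgroup.mem_subgroupOf.2 hd,
    Subtype.ext ?_⟩
  show ((alt (F.restrict X hX).n i k : X) : G) * (b : G) * F.n (nxt i k) =
    c * ((alt (F.restrict X hX).n i (k + 1) : X) : G) * d
  rw [coe_alt_restrict, coe_alt_restrict, e]

variable (F)

/-- **Closing theorem for the subgroup `X = ⟨P₀, P₁⟩`.** -/
theorem exists_split_sup {m : ℕ} (hbr : F.Braid m) (hm : 1 ≤ m) (hp : ∀ k < m, F.PathTo k)
    (thick : ∀ i, ∃ b ∈ F.B, F.n i * b * (F.n i)⁻¹ ∉ F.B)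
    (U : Subgroup G) (hU : U ≤ F.B) (hn : ∀ b ∈ F.B, ∀ u ∈ U, b * u * b⁻¹ ∈ U)
    (hnil : Group.IsNilpotent U)
    (hUH : ∀ b ∈ F.B, ∃ u ∈ U, u⁻¹ * b ∈ Subgroup.normalizer (F.H : Set G)) {X : Subgroup G}
    (hX : F.P false ⊔ F.P true = X) :
    ∃ Q : Cfsg.BNPair X, Q.rank = 2 ∧ Q.IsSplit ∧ Q.B = F.B.subgroupOf X ∧
      (∀ x : X, x ∈ Q.N ↔ (x : G) ∈ F.N) := by
  have hX' : ∀ i, F.P i ≤ X := by
    rintro (_ | _)
    · exact hX ▸ le_sup_left
    · exact hX ▸ le_sup_right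
  set R := F.restrict X hX' with hR
  have hBX : F.B ≤ X := (F.B_le false).trans (hX' false)
  have hHX : F.H ≤ X := F.H_le.trans hBX
  have g1 : R.P false ⊔ R.P true = ⊤ := by
    show (F.P false).subgroupOf X ⊔ (F.P true).subgroupOf X = ⊤
    rw [← Subgroup.subgroupOf_sup (hX' false) (hX' true), hX]
    exact Subgroup.subgroupOf_self X
  have g2 : ∀ i, ∃ b ∈ R.B, R.n i * b * (R.n i)⁻¹ ∉ R.B := by
    intro i
    obtain ⟨b, hb, hnb⟩ := thick i
    exact ⟨⟨b, hBX hb⟩, Subgroup.mem_subgroupOf.2 hb, fun h => hnb (Subgroup.mem_subgroupOf.1 h)⟩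
  have g3 : U.subgroupOf X ≤ R.B := fun x hx =>
    Subgroup.mem_subgroupOf.2 (hU (Subgroup.mem_subgroupOf.1 hx))
  have g4 : ∀ b ∈ R.B, ∀ u ∈ U.subgroupOf X, b * u * b⁻¹ ∈ U.subgroupOf X := by
    intro b hb u hu
    exact Subgroup.mem_subgroupOf.2 (hn b (Subgroup.mem_subgroupOf.1 hb) u
      (Subgroup.mem_subgroupOf.1 hu))
  have g5 : Group.IsNilpotent (U.subgroupOf X) :=
    Group.nilpotent_of_mulEquiv (Subgroup.subgroupOfEquivOfLe (hU.trans hBX)).symm
  have g6 : ∀ b ∈ R.B, ∃ u ∈ U.subgroupOf X, u⁻¹ * b ∈ Subgroup.normalizer (R.H : Set X) := by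
    intro b hb
    obtain ⟨u, hu, hub⟩ := hUH b (Subgroup.mem_subgroupOf.1 hb)
    exact ⟨⟨u, hBX (hU hu)⟩, Subgroup.mem_subgroupOf.2 hu, (mem_normalizer_subgroupOf hHX).2 hub⟩
  obtain ⟨Q, h1, h2, h3, h4, -⟩ := R.exists_split (m := m) hbr.restrict hm
    (fun k hk => (hp k hk).restrict) g1 g2 (U.subgroupOf X) g3 g4 g5 g6
  refine ⟨Q, h1, h2, h3, fun x => ?_⟩
  rw [h4]
  -- `R.N` maps onto `F.N`
  have key : R.N.map X.subtype = F.N := by
    show (Subgroup.closure {R.n false, R.n true} ⊔ R.H₁).map X.subtype = _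
    rw [Subgroup.map_sup, MonoidHom.map_closure, Set.image_pair]
    have e2 : R.H₁.map X.subtype = F.H₁ := by
      ext y
      constructor
      · rintro ⟨z, hz, rfl⟩
        exact mem_H₁_restrict.1 hz
      · intro hy
        exact ⟨⟨y, hBX (F.H₁_le hy)⟩, mem_H₁_restrict.2 hy, rfl⟩
    rw [e2]
    rfl
  rw [← key]
  constructor
  · intro hx
    exact ⟨x, hx, rfl⟩
  · rintro ⟨y, hy, hyx⟩
    rwa [← Subtype.ext hyx]

end Frame

end Cfsg.Agent.RankTwoClose

end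

section


/-!
# Cyclic modules in characteristic two for abelian groups of odd order

A `2`-element commuting with an abelian group `A` of odd order acts trivially on every cyclic
`𝔽₂A`-module: it acts as an element `p` of `𝔽₂A`, and `p ^ 2 ^ k = p` for suitable `k`.
-/

set_option autoImplicit false

namespace Cfsg.Agent.RankTwoClose.Cyc

theorem pow_two_pow_eq {A : Type*} [CommGroup A] {n k : ℕ} (hn : ∀ a : A, a ^ n = 1)
    (hk : 2 ^ k ≡ 1 [MOD n]) (p : MonoidAlgebra (ZMod 2) A) : p ^ 2 ^ k = p := by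
  haveI : CharP (MonoidAlgebra (ZMod 2) A) 2 := by
    refine (CharP.charP_iff_prime_eq_zero Nat.prime_two).2 ?_
    have : ((2 : ℕ) : ZMod 2) = 0 := by decide
    have h := congrArg (algebraMap (ZMod 2) (MonoidAlgebra (ZMod 2) A)) this
    rwa [map_natCast, map_zero] at h
  have hpow : ∀ a : A, a ^ 2 ^ k = a := by
    intro a
    have h1 : a ^ 2 ^ k = a ^ 1 := by
      rw [pow_eq_pow_iff_modEq]
      exact hk.of_dvd (orderOf_dvd_of_pow_eq_one (hn a))
    rwa [pow_one] at h1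
  have hc : ∀ c : ZMod 2, c ^ 2 ^ k = c := by
    intro c
    have h2 : (2 : ℕ) ^ k ≠ 0 := by positivity
    have : c = 0 ∨ c = 1 := by revert c; decide
    rcases this with rfl | rfl
    · exact zero_pow h2
    · exact one_pow _
  induction p using MonoidAlgebra.induction_linear with
  | zero => exact zero_pow (by positivity)
  | add f g hf hg => rw [add_pow_char_pow, hf, hg]
  | single a c => rw [MonoidAlgebra.single_pow, hpow, hc]

/-- **A `2`-element commuting with an abelian group of odd order is trivial on cyclic modules.** -/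
theorem end_eq_one {A : Type*} [CommGroup A] [Finite A] (hodd : Odd (Nat.card A)) {W : Type*}
    [AddCommGroup W] [Module (ZMod 2) W] (ρ : A →* Module.End (ZMod 2) W) (w : W)
    (hw : Submodule.span (ZMod 2) (Set.range fun a => ρ a w) = ⊤)
    (t : Module.End (ZMod 2) W) (ht : ∀ a, t * ρ a = ρ a * t) {m : ℕ} (htm : t ^ 2 ^ m = 1) :
    t = 1 := by
  set P : MonoidAlgebra (ZMod 2) A →ₐ[ZMod 2] Module.End (ZMod 2) W :=
    MonoidAlgebra.lift (ZMod 2) (Module.End (ZMod 2) W) A ρ with hP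
  have hPs : ∀ a : A, P (MonoidAlgebra.of (ZMod 2) A a) = ρ a := by
    intro a
    rw [hP, MonoidAlgebra.lift_of]
  -- every vector is `P p w`
  have hsurj : ∀ v : W, ∃ p, P p w = v := by
    intro v
    have hv : v ∈ Submodule.span (ZMod 2) (Set.range fun a => ρ a w) := hw ▸ Submodule.mem_top
    induction hv using Submodule.span_induction with
    | mem x hx =>
      obtain ⟨a, rfl⟩ := hx
      exact ⟨_, by rw [hPs]⟩
    | zero => exact ⟨0, by rw [map_zero, LinearMap.zero_apply]⟩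
    | add x y _ _ hx hy =>
      obtain ⟨p, rfl⟩ := hx
      obtain ⟨q, rfl⟩ := hy
      exact ⟨p + q, by rw [map_add, LinearMap.add_apply]⟩
    | smul c x _ hx =>
      obtain ⟨p, rfl⟩ := hx
      exact ⟨c • p, by rw [map_smul, LinearMap.smul_apply]⟩
  -- `t` commutes with `P p`
  have hcomm : ∀ p, t * P p = P p * t := by
    intro p
    induction p using MonoidAlgebra.induction_on with
    | of a => rw [hPs]; exact ht a
    | add f g hf hg => rw [map_add, mul_add, add_mul, hf, hg]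
    | smul r f hf => rw [map_smul, mul_smul_comm, smul_mul_assoc, hf]
  obtain ⟨p, hp⟩ := hsurj (t w)
  have htp : t = P p := by
    apply LinearMap.ext
    intro v
    obtain ⟨q, rfl⟩ := hsurj v
    have h1 : t (P q w) = P q (t w) := by
      have := congrArg (fun f => f w) (hcomm q)
      exact this
    rw [h1, ← hp]
    have h2 : P q (P p w) = (P q * P p) w := rfl
    have h3 : P p (P q w) = (P p * P q) w := rfl
    rw [h2, h3, ← map_mul, ← map_mul, mul_comm]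
  -- choose the exponent
  set n := Nat.card A with hn
  have hcop : Nat.Coprime 2 n := (Nat.coprime_two_left).2 hodd
  have hphi : 1 ≤ Nat.totient n := Nat.totient_pos.2 hodd.pos
  set k := Nat.totient n * m with hk
  have hk1 : 2 ^ k ≡ 1 [MOD n] := by
    rw [hk, pow_mul]
    have := (Nat.ModEq.pow_totient hcop).pow m
    rwa [one_pow] at this
  have hmk : m ≤ k := by
    rw [hk]
    exact Nat.le_mul_of_pos_left m hphi
  have e1 : t ^ 2 ^ k = t := by
    rw [htp, ← map_pow, pow_two_pow_eq (fun a => ?_) hk1]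
    rw [hn]
    exact pow_card_eq_one'
  have e2 : t ^ 2 ^ k = 1 := by
    obtain ⟨r, hr⟩ := Nat.exists_eq_add_of_le hmk
    rw [hr, pow_add, pow_mul, htm, one_pow]
  rw [← e1, e2]

/-- Group version: `V` elementary abelian and normal. -/
theorem commute_of_cyclic {X : Type*} [Group X] {V : Subgroup X} (hVn : V.Normal)
    (hab : ∀ x ∈ V, ∀ y ∈ V, x * y = y * x) (hsq : ∀ x ∈ V, x * x = 1)
    {A : Subgroup X} [Finite A] (hAab : ∀ a ∈ A, ∀ b ∈ A, a * b = b * a)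
    (hodd : Odd (Nat.card A)) {w : X} (hwV : w ∈ V)
    (hw : V ≤ Subgroup.closure {x | ∃ a ∈ A, x = a * w * a⁻¹})
    {t : X} (htA : ∀ a ∈ A, t * a = a * t) {m : ℕ} (htm : t ^ 2 ^ m = 1) :
    ∀ x ∈ V, t * x = x * t := by
  letI iV : CommGroup V := { (inferInstance : Group V) with
    mul_comm := fun x y => Subtype.ext (hab x x.2 y y.2) }
  letI iA : CommGroup A := { (inferInstance : Group A) with
    mul_comm := fun x y => Subtype.ext (hAab x x.2 y y.2) }
  letI iM : Module (ZMod 2) (Additive V) := AddCommGroup.zmodModule (n := 2) (by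
    intro v
    have h := hsq v.toMul v.toMul.2
    rw [two_nsmul]
    apply Additive.toMul.injective
    exact Subtype.ext h)
  let ρ : X →* Module.End (ZMod 2) (Additive V) :=
    { toFun := fun g => AddMonoidHom.toZModLinearMap 2
        (MonoidHom.toAdditive (MulAut.conjNormal (H := V) g).toMonoidHom)
      map_one' := by
        apply LinearMap.ext
        intro v
        apply Additive.toMul.injective
        apply Subtype.ext
        show (1 : X) * v.toMul * 1⁻¹ = v.toMul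
        group
      map_mul' := by
        intro g h
        apply LinearMap.ext
        intro v
        apply Additive.toMul.injective
        apply Subtype.ext
        show (g * h) * v.toMul * (g * h)⁻¹ = g * (h * v.toMul * h⁻¹) * g⁻¹
        group }
  have hρ : ∀ (g : X) (v : V), ρ g (Additive.ofMul v) =
      Additive.ofMul ⟨g * v * g⁻¹, hVn.conj_mem v v.2 g⟩ := fun g v => rfl
  have key := end_eq_one (A := A) hodd (ρ.comp A.subtype) (Additive.ofMul ⟨w, hwV⟩)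
    (by
      rw [eq_top_iff]
      rintro v -
      have hcl : ∀ x ∈ Subgroup.closure {x | ∃ a ∈ A, x = a * w * a⁻¹}, ∃ hx : x ∈ V,
          Additive.ofMul (⟨x, hx⟩ : V) ∈ Submodule.span (ZMod 2)
            (Set.range fun a => (ρ.comp A.subtype) a (Additive.ofMul ⟨w, hwV⟩)) := by
        intro x hx
        induction hx using Subgroup.closure_induction with
        | mem x hx =>
          obtain ⟨a, ha, rfl⟩ := hx
          exact ⟨hVn.conj_mem w hwV a, Submodule.subset_span ⟨⟨a, ha⟩, rfl⟩⟩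
        | one => exact ⟨one_mem _, Submodule.zero_mem _⟩
        | mul x y _ _ hx hy =>
          obtain ⟨hx1, hx2⟩ := hx
          obtain ⟨hy1, hy2⟩ := hy
          exact ⟨mul_mem hx1 hy1, Submodule.add_mem _ hx2 hy2⟩
        | inv x _ hx =>
          obtain ⟨hx1, hx2⟩ := hx
          exact ⟨inv_mem hx1, Submodule.neg_mem _ hx2⟩
      obtain ⟨hx, h⟩ := hcl v.toMul (hw v.toMul.2)
      exact h)
    (ρ t) (by
      intro a
      show ρ t * ρ a = ρ a * ρ t
      rw [← map_mul, ← map_mul, htA a a.2]) (m := m) (by rw [← map_pow, htm, map_one])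
  intro x hx
  have h1 : ρ t (Additive.ofMul ⟨x, hx⟩) = Additive.ofMul ⟨x, hx⟩ := by
    rw [key]
    rfl
  rw [hρ] at h1
  have h2 : t * x * t⁻¹ = x := congrArg Subtype.val (Additive.ofMul.injective h1)
  calc t * x = t * x * t⁻¹ * t := by group
    _ = x * t := by rw [h2]

/-- Group version for a section `Q / Z`. -/
theorem comm_mem_of_cyclic {G : Type*} [Group G] [Finite G] {Q Z A : Subgroup G} (hZQ : Z ≤ Q)
    (hcomm : ∀ x ∈ Q, ∀ y ∈ Q, x * y * x⁻¹ * y⁻¹ ∈ Z) (hsq : ∀ x ∈ Q, x * x ∈ Z)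
    (hAQ : ∀ a ∈ A, ∀ x ∈ Q, a * x * a⁻¹ ∈ Q) (hAZ : ∀ a ∈ A, ∀ x ∈ Z, a * x * a⁻¹ ∈ Z)
    (hAab : ∀ a ∈ A, ∀ b ∈ A, a * b = b * a) (hodd : Odd (Nat.card A))
    {w : G} (hwQ : w ∈ Q) (hw : Q ≤ Subgroup.closure {x | ∃ a ∈ A, x = a * w * a⁻¹} ⊔ Z)
    {t : G} (htQ : ∀ x ∈ Q, t * x * t⁻¹ ∈ Q) (htZ : ∀ x ∈ Z, t * x * t⁻¹ ∈ Z)
    (htA : ∀ a ∈ A, t * a = a * t) {m : ℕ} (htm : t ^ 2 ^ m = 1) :
    ∀ x ∈ Q, t * x * t⁻¹ * x⁻¹ ∈ Z := by
  have hnorm : ∀ (H : Subgroup G) (g : G), (∀ x ∈ H, g * x * g⁻¹ ∈ H) →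
      g ∈ Subgroup.normalizer (H : Set G) := by
    intro H g hg
    have hcard : H.map (MulAut.conj g).toMonoidHom = H := by
      apply Subgroup.eq_of_le_of_card_ge
      · rintro _ ⟨x, hx, rfl⟩
        exact hg x hx
      · rw [Subgroup.card_map_of_injective (MulAut.conj g).injective]
    rw [Subgroup.mem_normalizer_iff]
    intro x
    constructor
    · intro hx
      exact hg x hx
    · intro hx
      rw [← hcard] at hx
      obtain ⟨y, hy, e⟩ := hx
      have e' : g * y * g⁻¹ = g * x * g⁻¹ := e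
      have : y = x := by
        have h3 : g⁻¹ * (g * y * g⁻¹) * g = g⁻¹ * (g * x * g⁻¹) * g := by rw [e']
        have e1 : g⁻¹ * (g * y * g⁻¹) * g = y := by group
        have e2 : g⁻¹ * (g * x * g⁻¹) * g = x := by group
        rwa [e1, e2] at h3
      rwa [← this]
  -- the ambient group
  set M : Subgroup G := Subgroup.normalizer (Q : Set G) ⊓ Subgroup.normalizer (Z : Set G) with hM
  have hQM : Q ≤ M := fun x hx => ⟨Subgroup.le_normalizer hx, hnorm Z x (fun z hz => by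
    have h := mul_mem (hcomm x hx z (hZQ hz)) hz
    have e : x * z * x⁻¹ * z⁻¹ * z = x * z * x⁻¹ := by group
    rwa [e] at h)⟩
  have hZM : Z ≤ M := hZQ.trans hQM
  have hAM : A ≤ M := fun a ha => ⟨hnorm Q a (hAQ a ha), hnorm Z a (hAZ a ha)⟩
  have htM : t ∈ M := ⟨hnorm Q t htQ, hnorm Z t htZ⟩
  have hNn : (Z.subgroupOf M).Normal := ⟨fun z hz g => by
    rw [Subgroup.mem_subgroupOf] at hz ⊢
    exact (Subgroup.mem_normalizer_iff.1 g.2.2 _).1 hz⟩
  have hQn : (Q.subgroupOf M).Normal := ⟨fun z hz g => by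
    rw [Subgroup.mem_subgroupOf] at hz ⊢
    exact (Subgroup.mem_normalizer_iff.1 g.2.1 _).1 hz⟩
  set N := Z.subgroupOf M with hN
  let π : M →* M ⧸ N := QuotientGroup.mk' N
  have hπ : ∀ x : M, π x = 1 ↔ (x : G) ∈ Z := by
    intro x
    show (QuotientGroup.mk' N) x = 1 ↔ _
    rw [QuotientGroup.mk'_apply, QuotientGroup.eq_one_iff, hN, Subgroup.mem_subgroupOf]
  have hsurj : Function.Surjective π := QuotientGroup.mk'_surjective N
  set V := (Q.subgroupOf M).map π with hV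
  have hVn : V.Normal := hQn.map π hsurj
  set A' := (A.subgroupOf M).map π with hA'
  have hodd' : Odd (Nat.card A') := by
    have h1 : Nat.card A' ∣ Nat.card (A.subgroupOf M) := Subgroup.card_map_dvd _ _
    have h2 : Nat.card (A.subgroupOf M) = Nat.card A :=
      Nat.card_congr (Subgroup.subgroupOfEquivOfLe hAM).toEquiv
    rw [h2] at h1
    exact hodd.of_dvd_nat h1
  have main := commute_of_cyclic (V := V) (A := A') hVn
    (by
      rintro _ ⟨x, hx, rfl⟩ _ ⟨y, hy, rfl⟩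
      have h : π (x * y * x⁻¹ * y⁻¹) = 1 := (hπ _).2 (hcomm x (Subgroup.mem_subgroupOf.1 hx) y
        (Subgroup.mem_subgroupOf.1 hy))
      rw [map_mul, map_mul, map_mul, map_inv, map_inv] at h
      calc π x * π y = (π x * π y * (π x)⁻¹ * (π y)⁻¹) * (π y * π x) := by group
        _ = π y * π x := by rw [h, one_mul])
    (by
      rintro _ ⟨x, hx, rfl⟩
      rw [← map_mul]
      exact (hπ _).2 (hsq x (Subgroup.mem_subgroupOf.1 hx)))
    (by
      rintro _ ⟨a, ha, rfl⟩ _ ⟨b, hb, rfl⟩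
      rw [← map_mul, ← map_mul]
      congr 1
      exact Subtype.ext (hAab a (Subgroup.mem_subgroupOf.1 ha) b (Subgroup.mem_subgroupOf.1 hb)))
    hodd' (w := π ⟨w, hQM hwQ⟩) ⟨_, Subgroup.mem_subgroupOf.2 hwQ, rfl⟩
    (by
      rintro _ ⟨x, hx, rfl⟩
      have hxQ : (x : G) ∈ Q := Subgroup.mem_subgroupOf.1 hx
      have hx2 := hw hxQ
      -- induction over the join
      have hcl : ∀ y ∈ Subgroup.closure {x | ∃ a ∈ A, x = a * w * a⁻¹} ⊔ Z, ∃ hy : y ∈ M,
          π ⟨y, hy⟩ ∈ Subgroup.closure {x | ∃ a ∈ A', x = a * π ⟨w, hQM hwQ⟩ * a⁻¹} := by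
        intro y hy
        rw [← Subgroup.closure_eq Z, ← Subgroup.closure_union] at hy
        induction hy using Subgroup.closure_induction with
        | mem y hy =>
          rcases hy with ⟨a, ha, rfl⟩ | hy
          · refine ⟨mul_mem (mul_mem (hAM ha) (hQM hwQ)) (inv_mem (hAM ha)), ?_⟩
            refine Subgroup.subset_closure ⟨π ⟨a, hAM ha⟩, ⟨_, Subgroup.mem_subgroupOf.2 ha, rfl⟩, ?_⟩
            rw [← map_inv, ← map_mul, ← map_mul]
            rfl
          · have hyZ : y ∈ Z := hy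
            refine ⟨hZM hyZ, ?_⟩
            rw [(hπ ⟨y, hZM hyZ⟩).2 hyZ]
            exact one_mem _
        | one => exact ⟨one_mem _, by rw [show (⟨1, one_mem _⟩ : M) = 1 from rfl, map_one]
                                      exact one_mem _⟩
        | mul x y _ _ hx hy =>
          obtain ⟨hx1, hx2⟩ := hx
          obtain ⟨hy1, hy2⟩ := hy
          refine ⟨mul_mem hx1 hy1, ?_⟩
          have := mul_mem hx2 hy2
          rwa [← map_mul] at this
        | inv x _ hx =>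
          obtain ⟨hx1, hx2⟩ := hx
          refine ⟨inv_mem hx1, ?_⟩
          have := inv_mem hx2
          rwa [← map_inv] at this
      obtain ⟨hy, h⟩ := hcl x hx2
      exact h)
    (t := π ⟨t, htM⟩)
    (by
      rintro _ ⟨a, ha, rfl⟩
      rw [← map_mul, ← map_mul]
      congr 1
      exact Subtype.ext (htA a (Subgroup.mem_subgroupOf.1 ha)))
    (m := m) (by
      rw [← map_pow]
      have : (⟨t, htM⟩ : M) ^ 2 ^ m = 1 := Subtype.ext htm
      rw [this, map_one])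
  intro x hx
  have h1 := main (π ⟨x, hQM hx⟩) ⟨_, Subgroup.mem_subgroupOf.2 hx, rfl⟩
  have h2 : π (⟨t, htM⟩ * ⟨x, hQM hx⟩ * ⟨t, htM⟩⁻¹ * ⟨x, hQM hx⟩⁻¹) = 1 := by
    rw [map_mul, map_mul, map_mul, map_inv, map_inv, h1]
    group
  exact (hπ _).1 h2

end Cfsg.Agent.RankTwoClose.Cyc

end

section


/-!
# The central root group (Theorem CR)

`S` a Sylow `2`-subgroup normalising `L`, `Q = O₂(L)`, `Z = [Q, Q] ≤ Z(L)`, `Q/Z` elementary and
irreducible for `L`, `C_G(z₀)` of characteristic two for some `z₀ ∈ Z# ∩ Z(S)`, `N_G(Q)` transitive on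
`Z#`, `A ≤ C_G(Z)` abelian of odd order with `[S, A] ≤ L`, `C_S(A) ≤ Z` and `Q/Z` a cyclic
`𝔽₂A`-module.  Then `O₂(C_G(z)) = Q` for `z ∈ Z#` and `Z` is a Sylow `2`-subgroup of `C_G(A)` with
`C_G(z) ∩ C_G(A) ≤ N_G(Z)`: `(A, Z, K)` is a root pair in the sense of `Omega.RootLemma.Root`.
-/

set_option autoImplicit false

universe u

namespace Cfsg.Agent.RankTwoClose.Central

open Subgroup
open scoped commutatorElement

variable {G : Type u} [Group G]

theorem mem_norm_of [Finite G] {H : Subgroup G} {g : G} (hg : ∀ x ∈ H, g * x * g⁻¹ ∈ H) :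
    g ∈ normalizer (H : Set G) := by
  have hcard : H.map (MulAut.conj g).toMonoidHom = H := by
    apply Subgroup.eq_of_le_of_card_ge
    · rintro _ ⟨x, hx, rfl⟩
      exact hg x hx
    · rw [Subgroup.card_map_of_injective (MulAut.conj g).injective]
  rw [Subgroup.mem_normalizer_iff]
  intro x
  constructor
  · intro hx
    exact hg x hx
  · intro hx
    rw [← hcard] at hx
    obtain ⟨y, hy, e⟩ := hx
    have e' : g * y * g⁻¹ = g * x * g⁻¹ := e
    have : y = x := by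
      have h3 : g⁻¹ * (g * y * g⁻¹) * g = g⁻¹ * (g * x * g⁻¹) * g := by rw [e']
      have e1 : g⁻¹ * (g * y * g⁻¹) * g = y := by group
      have e2 : g⁻¹ * (g * x * g⁻¹) * g = x := by group
      rwa [e1, e2] at h3
    rwa [← this]

theorem exists_pow_one [Finite G] {P : Subgroup G} (hP : IsPGroup 2 P) {x : G} (hx : x ∈ P) :
    ∃ m, x ^ 2 ^ m = 1 := by
  obtain ⟨m, hm⟩ := hP ⟨x, hx⟩
  exact ⟨m, congrArg Subtype.val hm⟩

theorem mem_sup_comm {R Z : Subgroup G} (hc : ∀ r ∈ R, ∀ z ∈ Z, r * z = z * r) {x : G}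
    (hx : x ∈ R ⊔ Z) : ∃ a ∈ R, ∃ c ∈ Z, a * c = x := by
  rw [← closure_eq R, ← closure_eq Z, ← Subgroup.closure_union] at hx
  induction hx using closure_induction with
  | mem x hx =>
    rcases hx with hx | hx
    · exact ⟨x, hx, 1, one_mem _, mul_one x⟩
    · exact ⟨1, one_mem _, x, hx, one_mul x⟩
  | one => exact ⟨1, one_mem _, 1, one_mem _, one_mul 1⟩
  | mul x y _ _ hx hy =>
    obtain ⟨a, ha, c, hcc, rfl⟩ := hx
    obtain ⟨b, hb, d, hd, rfl⟩ := hy
    refine ⟨a * b, mul_mem ha hb, c * d, mul_mem hcc hd, ?_⟩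
    calc a * b * (c * d) = a * (b * c) * d := by group
      _ = a * (c * b) * d := by rw [hc b hb c hcc]
      _ = a * c * (b * d) := by group
  | inv x _ hx =>
    obtain ⟨a, ha, c, hcc, rfl⟩ := hx
    refine ⟨a⁻¹, inv_mem ha, c⁻¹, inv_mem hcc, ?_⟩
    rw [mul_inv_rev]
    exact hc _ (inv_mem ha) _ (inv_mem hcc)

/-- The hypotheses. -/
structure CRoot (S : Sylow 2 G) (L Q Z A : Subgroup G) (z₀ w : G) : Prop where
  SL : ∀ s ∈ S, ∀ l ∈ L, s * l * s⁻¹ ∈ L
  QL : Q ≤ L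
  Q2 : IsPGroup 2 Q
  Qn : ∀ l ∈ L, ∀ x ∈ Q, l * x * l⁻¹ ∈ Q
  Qmax : ∀ R ≤ L, IsPGroup 2 R → (∀ l ∈ L, ∀ x ∈ R, l * x * l⁻¹ ∈ R) → R ≤ Q
  ZL : ∀ l ∈ L, ∀ z ∈ Z, l * z = z * l
  comm : ⁅Q, Q⁆ = Z
  sq : ∀ x ∈ Q, x * x ∈ Z
  irr : ∀ R ≤ Q, (∀ l ∈ L, ∀ x ∈ R, l * x * l⁻¹ ∈ R) → R ≤ Z ∨ Q ≤ R ⊔ Z
  z₀Z : z₀ ∈ Z
  z₀1 : z₀ ≠ 1
  z₀S : ∀ s ∈ S, s * z₀ = z₀ * s
  c2 : ∃ R : Subgroup G, (∀ x ∈ R, x * z₀ = z₀ * x) ∧ IsPGroup 2 R ∧
    (∀ d, d * z₀ = z₀ * d → ∀ x ∈ R, d * x * d⁻¹ ∈ R) ∧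
    (∀ d, d * z₀ = z₀ * d → (∀ x ∈ R, d * x = x * d) → d ∈ R)
  tr : ∀ z ∈ Z, z ≠ 1 → ∃ h, (∀ x ∈ Q, h * x * h⁻¹ ∈ Q) ∧ h * z₀ * h⁻¹ = z
  Aab : ∀ a ∈ A, ∀ b ∈ A, a * b = b * a
  Aodd : Odd (Nat.card A)
  AZ : ∀ a ∈ A, ∀ z ∈ Z, a * z = z * a
  AQ : ∀ a ∈ A, ∀ x ∈ Q, a * x * a⁻¹ ∈ Q
  AL : ∀ a ∈ A, ∀ x ∈ L, a * x * a⁻¹ ∈ L
  AS : ∀ a ∈ A, ∀ s ∈ S, a * s * a⁻¹ * s⁻¹ ∈ L
  cent : ∀ s ∈ S, (∀ a ∈ A, a * s = s * a) → s ∈ Z
  wQ : w ∈ Q
  cyc : Q ≤ closure {x | ∃ a ∈ A, x = a * w * a⁻¹} ⊔ Z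

/-- The conclusion on `C_G(z)`. -/
structure Ctl (Q : Subgroup G) (z : G) : Prop where
  norm : ∀ d, d * z = z * d → ∀ x ∈ Q, d * x * d⁻¹ ∈ Q
  cent : ∀ d, d * z = z * d → (∀ x ∈ Q, d * x = x * d) → d ∈ Q
  max : ∀ T : Subgroup G, (∀ x ∈ T, x * z = z * x) → IsPGroup 2 T →
    (∀ d, d * z = z * d → ∀ x ∈ T, d * x * d⁻¹ ∈ T) → T ≤ Q

namespace CRoot

variable {S : Sylow 2 G} {L Q Z A : Subgroup G} {z₀ w : G}

theorem ZQ (h : CRoot S L Q Z A z₀ w) : Z ≤ Q := by
  rw [← h.comm]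
  exact (commutator_le).2 fun x hx y hy => by
    rw [commutatorElement_def]
    exact mul_mem (mul_mem (mul_mem hx hy) (inv_mem hx)) (inv_mem hy)

theorem QZ (h : CRoot S L Q Z A z₀ w) {x z : G} (hx : x ∈ Q) (hz : z ∈ Z) : x * z = z * x :=
  h.ZL x (h.QL hx) z hz

theorem comm_mem (h : CRoot S L Q Z A z₀ w) {x y : G} (hx : x ∈ Q) (hy : y ∈ Q) :
    x * y * x⁻¹ * y⁻¹ ∈ Z := by
  rw [← h.comm, ← commutatorElement_def]
  exact commutator_mem_commutator hx hy

theorem Zsq (h : CRoot S L Q Z A z₀ w) {z : G} (hz : z ∈ Z) : z * z = 1 := by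
  rw [← h.comm] at hz
  have hab : ∀ x ∈ ⁅Q, Q⁆, ∀ y ∈ Q, x * y = y * x := fun x hx y hy =>
    (h.QZ hy (h.comm ▸ hx)).symm
  have key : z ∈ ⁅Q, Q⁆ ∧ z * z = 1 := by
    rw [Subgroup.commutator_def] at hz
    induction hz using closure_induction with
    | mem x hx =>
      obtain ⟨a, ha, b, hb, rfl⟩ := hx
      refine ⟨commutator_mem_commutator ha hb, ?_⟩
      -- `[a, b]² = [a², b] = 1`
      have hc := commutator_mem_commutator ha hb
      have h1 : a * b * a⁻¹ = ⁅a, b⁆ * b := by rw [commutatorElement_def]; group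
      have h2 : a * a * b * (a * a)⁻¹ = ⁅a, b⁆ * ⁅a, b⁆ * b := by
        have e : a * a * b * (a * a)⁻¹ = a * (a * b * a⁻¹) * a⁻¹ := by group
        rw [e, h1]
        have e2 : a * (⁅a, b⁆ * b) * a⁻¹ = (a * ⁅a, b⁆ * a⁻¹) * (a * b * a⁻¹) := by group
        rw [e2, h1, ← hab _ hc a ha]
        group
      have h3 : a * a * b = b * (a * a) := (h.QZ hb (h.sq a ha)).symm
      have h4 : a * a * b * (a * a)⁻¹ = b := by rw [h3]; group
      rw [h4] at h2
      have h5 : b * b⁻¹ = ⁅a, b⁆ * ⁅a, b⁆ * b * b⁻¹ := by rw [← h2]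
      rw [mul_inv_cancel, mul_inv_cancel_right] at h5
      exact h5.symm
    | one => exact ⟨one_mem _, one_mul 1⟩
    | mul x y _ _ hx hy =>
      obtain ⟨hx1, hx2⟩ := hx
      obtain ⟨hy1, hy2⟩ := hy
      refine ⟨mul_mem hx1 hy1, ?_⟩
      have hyQ : y ∈ Q := h.ZQ (h.comm ▸ hy1)
      calc x * y * (x * y) = x * (y * x) * y := by group
        _ = x * (x * y) * y := by rw [hab x hx1 y hyQ]
        _ = (x * x) * (y * y) := by group
        _ = 1 := by rw [hx2, hy2, one_mul]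
    | inv x _ hx =>
      obtain ⟨hx1, hx2⟩ := hx
      refine ⟨inv_mem hx1, ?_⟩
      have : (x * x)⁻¹ = 1 := by rw [hx2, inv_one]
      rwa [mul_inv_rev] at this
  exact key.2

theorem L_cent (h : CRoot S L Q Z A z₀ w) {l : G} (hl : l ∈ L) : l * z₀ = z₀ * l :=
  h.ZL l hl z₀ h.z₀Z

theorem not_Q_le_Z (h : CRoot S L Q Z A z₀ w) : ¬ Q ≤ Z := by
  intro hQ
  have h1 : ⁅Q, Q⁆ = ⊥ := by
    rw [commutator_eq_bot_iff_le_centralizer]
    intro x hx
    rw [mem_centralizer_iff]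
    intro y hy
    exact h.QZ hy (hQ hx)
  rw [h.comm] at h1
  have := h.z₀Z
  rw [h1, mem_bot] at this
  exact h.z₀1 this

variable [Finite G]

/-- A normal self-centralising `2`-subgroup of `C_G(z₀)` is `Q`. -/
theorem eq_Q (h : CRoot S L Q Z A z₀ w) {R : Subgroup G} (hRz : ∀ x ∈ R, x * z₀ = z₀ * x)
    (hR2 : IsPGroup 2 R) (hRn : ∀ d, d * z₀ = z₀ * d → ∀ x ∈ R, d * x * d⁻¹ ∈ R)
    (hRc : ∀ d, d * z₀ = z₀ * d → (∀ x ∈ R, d * x = x * d) → d ∈ R) : R = Q ∧ R ≤ (S : Subgroup G) := by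
  -- `R ≤ S`
  have hSR : (S : Subgroup G) ≤ normalizer (R : Set G) := fun s hs =>
    mem_norm_of (hRn s (h.z₀S s hs))
  have hRS : R ≤ (S : Subgroup G) := by
    have h1 : IsPGroup 2 ((S : Subgroup G) ⊔ R : Subgroup G) :=
      IsPGroup.to_sup_of_normal_right' S.isPGroup' hR2 hSR
    have h2 := S.is_maximal' h1 le_sup_left
    rw [← h2]
    exact le_sup_right
  refine ⟨?_, hRS⟩
  -- `R ≤ Q`
  have hAz : ∀ a ∈ A, a * z₀ = z₀ * a := fun a ha => h.AZ a ha z₀ h.z₀Z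
  have hR0 : R ⊓ L ≤ Q := by
    refine h.Qmax _ inf_le_right (hR2.to_le inf_le_left) ?_
    intro l hl x hx
    rw [mem_inf] at hx ⊢
    exact ⟨hRn l (h.L_cent hl) x hx.1, mul_mem (mul_mem hl hx.2) (inv_mem hl)⟩
  have hRQ : R ≤ Q := by
    intro r hr
    have hcop : (Nat.card A).Coprime (Nat.card R) := by
      obtain ⟨n, hn⟩ := IsPGroup.iff_card.1 hR2
      rw [hn]
      exact Nat.Coprime.pow_right n ((Nat.coprime_two_right).2 h.Aodd)
    haveI : Group.IsSolvable R := by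
      haveI := hR2.isNilpotent
      infer_instance
    obtain ⟨c, hc, hrc⟩ := Cfsg.Agent.S0022.result A R (fun a ha => mem_norm_of (hRn a (hAz a ha)))
      hcop (Or.inr inferInstance) (R ⊓ L) inf_le_left
      (fun x hx => mem_norm_of fun y hy => mem_inf.2 ⟨mul_mem (mul_mem hx (mem_inf.1 hy).1)
        (inv_mem hx), h.SL x (hRS hx) y (mem_inf.1 hy).2⟩)
      (fun a ha => mem_norm_of fun y hy => mem_inf.2 ⟨hRn a (hAz a ha) y (mem_inf.1 hy).1,
        h.AL a ha y (mem_inf.1 hy).2⟩)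
      r hr (fun a ha => mem_inf.2 ⟨mul_mem (hRn a (hAz a ha) r hr) (inv_mem hr),
        h.AS a ha r (hRS hr)⟩)
    have hcZ : c ∈ Z := h.cent c (hRS (mem_inf.1 hc).1) fun a ha =>
      mem_centralizer_iff.1 (mem_inf.1 hc).2 a ha
    have e : r = c * (r⁻¹ * c)⁻¹ := by group
    rw [e]
    exact mul_mem (h.ZQ hcZ) (inv_mem (hR0 hrc))
  -- irreducibility
  rcases h.irr R hRQ (fun l hl x hx => hRn l (h.L_cent hl) x hx) with h1 | h1
  · exfalso
    apply h.not_Q_le_Z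
    refine le_trans (fun q hq => ?_) h1
    exact hRc q (h.QZ hq h.z₀Z) fun x hx => h.QZ hq (h1 hx)
  · have h2 : Z ≤ R := by
      rw [← h.comm]
      refine (commutator_le).2 fun x hx y hy => ?_
      obtain ⟨a, ha, c, hc, rfl⟩ := mem_sup_comm (fun r hr z hz => h.QZ (hRQ hr) hz) (h1 hx)
      obtain ⟨b, hb, d, hd, rfl⟩ := mem_sup_comm (fun r hr z hz => h.QZ (hRQ hr) hz) (h1 hy)
      have e : ⁅a * c, b * d⁆ = ⁅a, b⁆ := by
        have hcQ := h.ZQ hc
        have hdQ := h.ZQ hd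
        have c1 : c * (b * d) = b * d * c := (h.QZ (mul_mem (hRQ hb) hdQ) hc).symm
        have c2 : d * a = a * d := (h.QZ (hRQ ha) hd).symm
        rw [commutatorElement_def, commutatorElement_def]
        calc a * c * (b * d) * (a * c)⁻¹ * (b * d)⁻¹
            = a * (c * (b * d)) * c⁻¹ * a⁻¹ * d⁻¹ * b⁻¹ := by group
          _ = a * b * (d * a⁻¹) * d⁻¹ * b⁻¹ := by rw [c1]; group
          _ = a * b * (a⁻¹ * (a * d) * a⁻¹) * d⁻¹ * b⁻¹ := by group
          _ = a * b * (a⁻¹ * (d * a) * a⁻¹) * d⁻¹ * b⁻¹ := by rw [c2]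
          _ = a * b * a⁻¹ * b⁻¹ := by group
      rw [e, commutatorElement_def]
      exact mul_mem (mul_mem (mul_mem ha hb) (inv_mem ha)) (inv_mem hb)
    exact le_antisymm hRQ (h1.trans (sup_le le_rfl h2))

theorem QS (h : CRoot S L Q Z A z₀ w) : Q ≤ (S : Subgroup G) := by
  obtain ⟨R, h1, h2, h3, h4⟩ := h.c2
  obtain ⟨e, hS⟩ := h.eq_Q h1 h2 h3 h4
  rwa [← e]

theorem ctl₀ (h : CRoot S L Q Z A z₀ w) : Ctl Q z₀ := by
  obtain ⟨R, h1, h2, h3, h4⟩ := h.c2
  obtain ⟨rfl, hS⟩ := h.eq_Q h1 h2 h3 h4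
  refine ⟨h3, h4, ?_⟩
  intro T hT1 hT2 hT3
  have hTn : R ≤ normalizer (T : Set G) := fun r hr => mem_norm_of (hT3 r (h1 r hr))
  have hTR2 : IsPGroup 2 (R ⊔ T : Subgroup G) := IsPGroup.to_sup_of_normal_right' h2 hT2 hTn
  have hle : ∀ x ∈ R ⊔ T, x * z₀ = z₀ * x := by
    have : R ⊔ T ≤ centralizer {z₀} := by
      refine sup_le (fun x hx => ?_) (fun x hx => ?_)
      · rw [mem_centralizer_singleton_iff]
        exact (h1 x hx)
      · rw [mem_centralizer_singleton_iff]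
        exact (hT1 x hx)
    intro x hx
    exact mem_centralizer_singleton_iff.1 (this hx)
  have hn : ∀ d, d * z₀ = z₀ * d → ∀ x ∈ R ⊔ T, d * x * d⁻¹ ∈ R ⊔ T := by
    intro d hd
    have : d ∈ normalizer ((R ⊔ T : Subgroup G) : Set G) := by
      have e1 : d ∈ normalizer (R : Set G) := mem_norm_of (h3 d hd)
      have e2 : d ∈ normalizer (T : Set G) := mem_norm_of (hT3 d hd)
      refine mem_norm_of fun x hx => ?_
      rw [← closure_eq R, ← closure_eq T, ← Subgroup.closure_union] at hx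
      induction hx using closure_induction with
      | mem x hx =>
        rcases hx with hx | hx
        · exact (le_sup_left : R ≤ R ⊔ T) (h3 d hd x hx)
        · exact (le_sup_right : T ≤ R ⊔ T) (hT3 d hd x hx)
      | one => simp
      | mul x y _ _ hx hy =>
        have e : d * (x * y) * d⁻¹ = (d * x * d⁻¹) * (d * y * d⁻¹) := by group
        rw [e]
        exact mul_mem hx hy
      | inv x _ hx =>
        have e : d * x⁻¹ * d⁻¹ = (d * x * d⁻¹)⁻¹ := by group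
        rw [e]
        exact inv_mem hx
    intro x hx
    exact (mem_normalizer_iff.1 this x).1 hx
  obtain ⟨e, -⟩ := h.eq_Q hle hTR2 hn fun d hd hdx =>
    (le_sup_left : R ≤ R ⊔ T) (h4 d hd fun x hx => hdx x ((le_sup_left : R ≤ R ⊔ T) hx))
  exact le_sup_right.trans e.le

/-- **`O₂(C_G(z)) = Q` and `C_{C_G(z)}(Q) ≤ Q` for `z ∈ Z#`.** -/
theorem ctl (h : CRoot S L Q Z A z₀ w) {z : G} (hz : z ∈ Z) (hz1 : z ≠ 1) : Ctl Q z := by
  obtain ⟨g, hg, e⟩ := h.tr z hz hz1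
  have hgn : g ∈ normalizer (Q : Set G) := mem_norm_of hg
  have hg' : ∀ x ∈ Q, g⁻¹ * x * g ∈ Q := by
    intro x hx
    have := (mem_normalizer_iff.1 (inv_mem hgn) x).1 hx
    rwa [inv_inv] at this
  have hd' : ∀ d, d * z = z * d → (g⁻¹ * d * g) * z₀ = z₀ * (g⁻¹ * d * g) := by
    intro d hd
    rw [← e] at hd
    calc g⁻¹ * d * g * z₀ = g⁻¹ * (d * (g * z₀ * g⁻¹)) * g := by group
      _ = g⁻¹ * (g * z₀ * g⁻¹ * d) * g := by rw [hd]
      _ = z₀ * (g⁻¹ * d * g) := by group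
  have c := h.ctl₀
  refine ⟨?_, ?_, ?_⟩
  · intro d hd x hx
    have h1 := hg _ (c.norm _ (hd' d hd) _ (hg' x hx))
    have e2 : g * (g⁻¹ * d * g * (g⁻¹ * x * g) * (g⁻¹ * d * g)⁻¹) * g⁻¹ = d * x * d⁻¹ := by group
    rwa [e2] at h1
  · intro d hd hdx
    have h1 := hg _ (c.cent (g⁻¹ * d * g) (hd' d hd) fun x hx => by
      have h2 := hdx _ (hg x hx)
      calc g⁻¹ * d * g * x = g⁻¹ * (d * (g * x * g⁻¹)) * g := by group
        _ = g⁻¹ * (g * x * g⁻¹ * d) * g := by rw [h2]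
        _ = x * (g⁻¹ * d * g) := by group)
    have e2 : g * (g⁻¹ * d * g) * g⁻¹ = d := by group
    rwa [e2] at h1
  · intro T hT1 hT2 hT3 x hx
    have h1 := c.max (T.map (MulAut.conj g⁻¹).toMonoidHom) (by
      rintro _ ⟨y, hy, rfl⟩
      have := hd' y (hT1 y hy)
      have e3 : (MulAut.conj g⁻¹).toMonoidHom y = g⁻¹ * y * g := by
        show g⁻¹ * y * g⁻¹⁻¹ = _
        rw [inv_inv]
      rw [e3]
      exact this) (hT2.map _) (by
      rintro d hd _ ⟨y, hy, rfl⟩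
      have hdz : (g * d * g⁻¹) * z = z * (g * d * g⁻¹) := by
        rw [← e]
        calc g * d * g⁻¹ * (g * z₀ * g⁻¹) = g * (d * z₀) * g⁻¹ := by group
          _ = g * (z₀ * d) * g⁻¹ := by rw [hd]
          _ = g * z₀ * g⁻¹ * (g * d * g⁻¹) := by group
      refine ⟨_, hT3 _ hdz y hy, ?_⟩
      show g⁻¹ * (g * d * g⁻¹ * y * (g * d * g⁻¹)⁻¹) * g⁻¹⁻¹ = d * (g⁻¹ * y * g⁻¹⁻¹) * d⁻¹
      group) (show g⁻¹ * x * g ∈ _ from ⟨x, hx, by
        show g⁻¹ * x * g⁻¹⁻¹ = _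
        rw [inv_inv]⟩)
    have h2 := hg _ h1
    have e2 : g * (g⁻¹ * x * g) * g⁻¹ = x := by group
    rwa [e2] at h2

/-- `C_G(z) ≤ N_G(Z)`. -/
theorem norm_Z (h : CRoot S L Q Z A z₀ w) {z : G} (hz : z ∈ Z) (hz1 : z ≠ 1) {d : G}
    (hd : d * z = z * d) : ∀ y ∈ Z, d * y * d⁻¹ ∈ Z := by
  have c := h.ctl hz hz1
  intro y hy
  rw [← h.comm] at hy ⊢
  rw [Subgroup.commutator_def] at hy ⊢
  induction hy using closure_induction with
  | mem x hx =>
    obtain ⟨a, ha, b, hb, rfl⟩ := hx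
    refine subset_closure ⟨d * a * d⁻¹, c.norm d hd a ha, d * b * d⁻¹, c.norm d hd b hb, ?_⟩
    rw [commutatorElement_def, commutatorElement_def]
    group
  | one =>
    have : d * 1 * d⁻¹ = 1 := by group
    rw [this]
    exact one_mem _
  | mul x y _ _ hx hy =>
    have e : d * (x * y) * d⁻¹ = (d * x * d⁻¹) * (d * y * d⁻¹) := by group
    rw [e]
    exact mul_mem hx hy
  | inv x _ hx =>
    have e : d * x⁻¹ * d⁻¹ = (d * x * d⁻¹)⁻¹ := by group
    rw [e]
    exact inv_mem hx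

/-- A `2`-element of `C_G(z)` acting trivially on `Q/Z` lies in `Q`. -/
theorem mem_Q_of_triv (h : CRoot S L Q Z A z₀ w) {z : G} (hz : z ∈ Z) (hz1 : z ≠ 1) {t : G}
    (htz : t * z = z * t) (ht : ∀ x ∈ Q, t * x * t⁻¹ * x⁻¹ ∈ Z) : t ∈ Q := by
  have c := h.ctl hz hz1
  -- the stability group
  have hcentZ : ∀ g, (∀ x ∈ Q, g * x * g⁻¹ * x⁻¹ ∈ Z) → ∀ y ∈ Z, g * y = y * g := by
    intro g hg y hy
    rw [← h.comm, Subgroup.commutator_def] at hy
    induction hy using closure_induction with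
    | mem x hx =>
      obtain ⟨a, ha, b, hb, rfl⟩ := hx
      have ha' := hg a ha
      have hb' := hg b hb
      set u := g * a * g⁻¹ * a⁻¹ with hu
      set v := g * b * g⁻¹ * b⁻¹ with hv
      have ea : g * a * g⁻¹ = u * a := by rw [hu]; group
      have eb : g * b * g⁻¹ = v * b := by rw [hv]; group
      have e1 : g * ⁅a, b⁆ * g⁻¹ = ⁅g * a * g⁻¹, g * b * g⁻¹⁆ := by
        rw [commutatorElement_def, commutatorElement_def]; group
      have c1 : a * v = v * a := h.QZ ha hb'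
      have c2 : b * u = u * b := h.QZ hb ha'
      have c3 : u * v = v * u := h.QZ (h.ZQ ha') hb'
      have e2 : ⁅u * a, v * b⁆ = ⁅a, b⁆ := by
        rw [commutatorElement_def, commutatorElement_def]
        calc u * a * (v * b) * (u * a)⁻¹ * (v * b)⁻¹
            = u * (a * v) * b * a⁻¹ * u⁻¹ * b⁻¹ * v⁻¹ := by group
          _ = u * (v * a) * b * a⁻¹ * (b * u)⁻¹ * v⁻¹ := by rw [c1]; group
          _ = u * (v * a) * b * a⁻¹ * (u * b)⁻¹ * v⁻¹ := by rw [c2]
          _ = (u * v) * (a * b * a⁻¹ * b⁻¹) * (v * u)⁻¹ := by group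
          _ = (v * u) * (a * b * a⁻¹ * b⁻¹) * (v * u)⁻¹ := by rw [c3]
          _ = a * b * a⁻¹ * b⁻¹ := by
            have hk := h.comm_mem ha hb
            have hvu : v * u ∈ Q := mul_mem (h.ZQ hb') (h.ZQ ha')
            rw [h.QZ hvu hk]
            group
      rw [ea, eb, e2] at e1
      calc g * ⁅a, b⁆ = g * ⁅a, b⁆ * g⁻¹ * g := by group
        _ = ⁅a, b⁆ * g := by rw [e1]
    | one => rw [mul_one, one_mul]
    | mul x y _ _ hx hy => rw [← mul_assoc, hx, mul_assoc, hy, mul_assoc]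
    | inv x _ hx =>
      calc g * x⁻¹ = x⁻¹ * (x * g) * x⁻¹ := by group
        _ = x⁻¹ * (g * x) * x⁻¹ := by rw [hx]
        _ = x⁻¹ * g := by group
  let T : Subgroup G :=
    { carrier := {g | g * z = z * g ∧ ∀ x ∈ Q, g * x * g⁻¹ * x⁻¹ ∈ Z}
      one_mem' := ⟨by rw [mul_one, one_mul], fun x _ => by
        have : 1 * x * 1⁻¹ * x⁻¹ = 1 := by group
        rw [this]
        exact one_mem _⟩
      mul_mem' := by
        rintro a b ⟨ha1, ha2⟩ ⟨hb1, hb2⟩
        refine ⟨by rw [mul_assoc, hb1, ← mul_assoc, ha1, mul_assoc], fun x hx => ?_⟩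
        have h1 := hb2 x hx
        have h2 := ha2 x hx
        have h3 := hcentZ a ha2 _ h1
        have e : a * b * x * (a * b)⁻¹ * x⁻¹ =
            (a * (b * x * b⁻¹ * x⁻¹)) * a⁻¹ * (a * x * a⁻¹ * x⁻¹) := by group
        rw [e, h3]
        have e2 : b * x * b⁻¹ * x⁻¹ * a * a⁻¹ * (a * x * a⁻¹ * x⁻¹) =
          (b * x * b⁻¹ * x⁻¹) * (a * x * a⁻¹ * x⁻¹) := by group
        rw [e2]
        exact mul_mem h1 h2
      inv_mem' := by
        rintro a ⟨ha1, ha2⟩
        refine ⟨?_, fun x hx => ?_⟩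
        · calc a⁻¹ * z = a⁻¹ * (z * a) * a⁻¹ := by group
            _ = a⁻¹ * (a * z) * a⁻¹ := by rw [ha1]
            _ = z * a⁻¹ := by group
        · have h1 := ha2 x hx
          have h3 := hcentZ a ha2 _ (inv_mem h1)
          have e : a⁻¹ * x * a⁻¹⁻¹ * x⁻¹ = a⁻¹ * ((a * x * a⁻¹ * x⁻¹)⁻¹ * a) := by group
          rw [e, ← h3]
          have e2 : a⁻¹ * (a * (a * x * a⁻¹ * x⁻¹)⁻¹) = (a * x * a⁻¹ * x⁻¹)⁻¹ := by group
          rw [e2]
          exact inv_mem h1 }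
  have hT2 : IsPGroup 2 T := by
    rintro ⟨g, hg1, hg2⟩
    have h2 : g * g ∈ Q := by
      refine c.cent _ (by rw [mul_assoc, hg1, ← mul_assoc, hg1, mul_assoc]) fun x hx => ?_
      have h3 := hg2 x hx
      have h4 := hcentZ g hg2 _ h3
      set u := g * x * g⁻¹ * x⁻¹ with hu
      have e1 : g * x * g⁻¹ = u * x := by rw [hu]; group
      have e2 : g * g * x * (g * g)⁻¹ = x := by
        calc g * g * x * (g * g)⁻¹ = g * (g * x * g⁻¹) * g⁻¹ := by group
          _ = (g * u) * x * g⁻¹ := by rw [e1]; group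
          _ = u * (g * x * g⁻¹) := by rw [h4]; group
          _ = (u * u) * x := by rw [e1]; group
          _ = x := by rw [h.Zsq h3, one_mul]
      calc g * g * x = g * g * x * (g * g)⁻¹ * (g * g) := by group
        _ = x * (g * g) := by rw [e2]
    obtain ⟨m, hm⟩ := exists_pow_one h.Q2 h2
    refine ⟨m + 1, Subtype.ext ?_⟩
    show g ^ 2 ^ (m + 1) = 1
    rw [pow_succ', pow_mul, pow_two]
    exact hm
  refine c.max T (fun x hx => hx.1) hT2 ?_ (show t ∈ T from ⟨htz, ht⟩)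
  rintro d hd g ⟨hg1, hg2⟩
  refine ⟨?_, fun x hx => ?_⟩
  · calc d * g * d⁻¹ * z = d * g * (d⁻¹ * (z * d)) * d⁻¹ := by group
      _ = d * g * (d⁻¹ * (d * z)) * d⁻¹ := by rw [hd]
      _ = d * (g * z) * d⁻¹ := by group
      _ = (d * z) * g * d⁻¹ := by rw [hg1]; group
      _ = z * (d * g * d⁻¹) := by rw [hd]; group
  · have hdi : d⁻¹ * z = z * d⁻¹ := by
      calc d⁻¹ * z = d⁻¹ * (z * d) * d⁻¹ := by group
        _ = d⁻¹ * (d * z) * d⁻¹ := by rw [hd]
        _ = z * d⁻¹ := by group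
    have h1 := c.norm d⁻¹ hdi x hx
    rw [inv_inv] at h1
    have h2 := h.norm_Z hz hz1 hd _ (hg2 _ h1)
    have e : d * (g * (d⁻¹ * x * d) * g⁻¹ * (d⁻¹ * x * d)⁻¹) * d⁻¹ =
        d * g * d⁻¹ * x * (d * g * d⁻¹)⁻¹ * x⁻¹ := by group
    rwa [e] at h2

/-- **`2`-elements of `C_G(z) ∩ C_G(A)` lie in `Z`.** -/
theorem mem_Z (h : CRoot S L Q Z A z₀ w) {z : G} (hz : z ∈ Z) (hz1 : z ≠ 1) {t : G}
    (htz : t * z = z * t) (htA : ∀ a ∈ A, t * a = a * t) {m : ℕ} (htm : t ^ 2 ^ m = 1) :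
    t ∈ Z := by
  have c := h.ctl hz hz1
  have h1 := Cyc.comm_mem_of_cyclic h.ZQ (fun x hx y hy => h.comm_mem hx hy) h.sq h.AQ
    (fun a ha x hx => by
      rw [h.AZ a ha x hx, mul_inv_cancel_right]
      exact hx) h.Aab h.Aodd h.wQ h.cyc (c.norm t htz) (h.norm_Z hz hz1 htz) htA htm
  have h2 := h.mem_Q_of_triv hz hz1 htz h1
  exact h.cent t (h.QS h2) fun a ha => (htA a ha).symm

open Cfsg.Agent.Omega.RootLemma in
/-- **Theorem CR**: `(A, Z, K)` is a root pair. -/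
theorem root (h : CRoot S L Q Z A z₀ w) {K : Subgroup G} (hZK : Z ≤ K)
    (hK : ∀ k ∈ K, ∀ a ∈ A, k * a = a * k)
    (pair : ∃ a ∈ Z, ∃ b ∈ Z, a ≠ 1 ∧ b ≠ 1 ∧ a ≠ b)
    (mv : ∃ k ∈ K, ∃ v ∈ Z, k * v * k⁻¹ ∉ Z)
    (gen : K ≤ closure {x | ∃ k ∈ K, ∃ v ∈ Z, x = k * v * k⁻¹}) : Root A Z K where
  le := hZK
  comm := hK
  two := h.Q2.to_le h.ZQ
  syl P hP hPA hZP := by
    have hP' : Nontrivial P := ⟨⟨⟨z₀, hZP h.z₀Z⟩, 1, fun e => h.z₀1 (congrArg Subtype.val e)⟩⟩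
    haveI := hP.center_nontrivial
    obtain ⟨⟨u, hu⟩, hu1⟩ := exists_ne (1 : center P)
    have hu1' : (u : G) ≠ 1 := fun e => hu1 (Subtype.ext (Subtype.ext e))
    have huc : ∀ x ∈ P, x * (u : G) = u * x := by
      intro x hx
      have := mem_center_iff.1 hu ⟨x, hx⟩
      exact congrArg Subtype.val this
    obtain ⟨m, hm⟩ := exists_pow_one hP u.2
    have huZ : (u : G) ∈ Z := h.mem_Z h.z₀Z h.z₀1 (huc z₀ (hZP h.z₀Z)).symm
      (fun a ha => hPA u u.2 a ha) hm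
    intro x hx
    obtain ⟨m, hm⟩ := exists_pow_one hP hx
    exact h.mem_Z huZ hu1' (huc x hx) (fun a ha => hPA x hx a ha) hm
  pair := by
    obtain ⟨a, ha, b, hb, ha1, hb1, hab⟩ := pair
    exact ⟨a, ha, b, hb, h.Zsq ha, h.Zsq hb, ha1, hb1, hab⟩
  cent u hu _ v hv := h.QZ (h.ZQ hu) hv
  norm u hu _ hu1 c hc _ v hv := h.norm_Z hu hu1 hc v hv
  mv := mv
  gen := gen

end CRoot

end Cfsg.Agent.RankTwoClose.Central

end

section


/-!
# Closing of quadrangles with a central parabolic (types `U₄(q)`, `U₅(q)`)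

`F` a frame, type `false` = the central parabolic (`[Z, L] = 1`), `Central.CRoot` for `(L, Q, Z, A)`.
* `braid_four`: the braid relation of length four from the root group `E = n_t Z n_t⁻¹` and the torus
  `n_t A n_t⁻¹`.
* `pathTo_four`: the path conditions from two `H₁`-invariant subgroups `Y`, `D` of `Q ∩ R`.
-/

set_option autoImplicit false

universe u

namespace Cfsg.Agent.RankTwoClose.Four

open Subgroup Cfsg.Agent.Omega.RootLemma

variable {G : Type u} [Group G]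

/-- `g H g⁻¹`. -/
def cj (g : G) (H : Subgroup G) : Subgroup G := H.map (MulAut.conj g).toMonoidHom

theorem mem_cj {g x : G} {H : Subgroup G} : x ∈ cj g H ↔ g⁻¹ * x * g ∈ H := by
  constructor
  · rintro ⟨y, hy, rfl⟩
    show g⁻¹ * (g * y * g⁻¹) * g ∈ H
    have e : g⁻¹ * (g * y * g⁻¹) * g = y := by group
    rwa [e]
  · intro h
    refine ⟨_, h, ?_⟩
    show g * (g⁻¹ * x * g) * g⁻¹ = x
    group

theorem conj_mem_cj {g x : G} {H : Subgroup G} (hx : x ∈ H) : g * x * g⁻¹ ∈ cj g H := ⟨x, hx, rfl⟩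

/-- Root pairs are preserved under conjugation. -/
theorem root_cj {A U K : Subgroup G} (h : Root A U K) (g : G) :
    Root (cj g A) (cj g U) (cj g K) where
  le := Subgroup.map_mono h.le
  comm := by
    rintro _ ⟨k, hk, rfl⟩ _ ⟨a, ha, rfl⟩
    rw [← map_mul, ← map_mul, h.comm k hk a ha]
  two := h.two.map _
  syl P hP hPA hUP x hx := by
    have h1 := h.syl (cj g⁻¹ P) (hP.map _) (fun y hy a ha => by
      rw [mem_cj, inv_inv] at hy
      have h2 := hPA _ hy (g * a * g⁻¹) (conj_mem_cj ha)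
      have h3 : g⁻¹ * (g * y * g⁻¹ * (g * a * g⁻¹)) * g = g⁻¹ * (g * a * g⁻¹ * (g * y * g⁻¹)) * g := by
        rw [h2]
      have e1 : g⁻¹ * (g * y * g⁻¹ * (g * a * g⁻¹)) * g = y * a := by group
      have e2 : g⁻¹ * (g * a * g⁻¹ * (g * y * g⁻¹)) * g = a * y := by group
      rwa [e1, e2] at h3) (fun y hy => by
      rw [mem_cj, inv_inv]
      exact hUP (conj_mem_cj hy))
    rw [mem_cj]
    apply h1
    rw [mem_cj, inv_inv]
    have e : g * (g⁻¹ * x * g) * g⁻¹ = x := by group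
    rwa [e]
  pair := by
    obtain ⟨a, ha, b, hb, haa, hbb, ha1, hb1, hab⟩ := h.pair
    refine ⟨g * a * g⁻¹, conj_mem_cj ha, g * b * g⁻¹, conj_mem_cj hb, ?_, ?_, ?_, ?_, ?_⟩
    · have e : g * a * g⁻¹ * (g * a * g⁻¹) = g * (a * a) * g⁻¹ := by group
      rw [e, haa]; group
    · have e : g * b * g⁻¹ * (g * b * g⁻¹) = g * (b * b) * g⁻¹ := by group
      rw [e, hbb]; group
    · intro e; exact ha1 (conj_eq_one_iff.1 e)
    · intro e; exact hb1 (conj_eq_one_iff.1 e)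
    · intro e
      exact hab (mul_left_cancel (mul_right_cancel e))
  cent := by
    rintro _ ⟨u, hu, rfl⟩ huu _ ⟨v, hv, rfl⟩
    rw [← map_mul, ← map_mul, h.cent u hu ?_ v hv]
    rw [← map_mul] at huu
    exact (MulAut.conj g).injective (huu.trans (map_one _).symm)
  norm := by
    rintro _ ⟨u, hu, rfl⟩ huu hu1 c hc hcA _ ⟨v, hv, rfl⟩
    have hu1' : u ≠ 1 := fun e => hu1 (by rw [e, map_one])
    have huu' : u * u = 1 := by
      rw [← map_mul] at huu
      exact (MulAut.conj g).injective (huu.trans (map_one _).symm)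
    have hc' : c * (g * u * g⁻¹) = g * u * g⁻¹ * c := hc
    have h1 := h.norm u hu huu' hu1' (g⁻¹ * c * g) (by
      have h2 : g⁻¹ * (c * (g * u * g⁻¹)) * g = g⁻¹ * (g * u * g⁻¹ * c) * g := by rw [hc']
      have e1 : g⁻¹ * (c * (g * u * g⁻¹)) * g = g⁻¹ * c * g * u := by group
      have e2 : g⁻¹ * (g * u * g⁻¹ * c) * g = u * (g⁻¹ * c * g) := by group
      rwa [e1, e2] at h2) (fun a ha => by
      have h3 := hcA (g * a * g⁻¹) (conj_mem_cj ha)
      have h2 : g⁻¹ * (c * (g * a * g⁻¹)) * g = g⁻¹ * (g * a * g⁻¹ * c) * g := by rw [h3]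
      have e1 : g⁻¹ * (c * (g * a * g⁻¹)) * g = g⁻¹ * c * g * a := by group
      have e2 : g⁻¹ * (g * a * g⁻¹ * c) * g = a * (g⁻¹ * c * g) := by group
      rwa [e1, e2] at h2) v hv
    rw [mem_cj]
    have e : g⁻¹ * (c * (MulAut.conj g).toMonoidHom v * c⁻¹) * g =
        g⁻¹ * c * g * v * (g⁻¹ * c * g)⁻¹ := by
      show g⁻¹ * (c * (g * v * g⁻¹) * c⁻¹) * g = _
      group
    rw [e]
    exact h1
  mv := by
    obtain ⟨k, hk, v, hv, hkv⟩ := h.mv
    refine ⟨g * k * g⁻¹, conj_mem_cj hk, g * v * g⁻¹, conj_mem_cj hv, fun hc => hkv ?_⟩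
    rw [mem_cj] at hc
    have e : g⁻¹ * (g * k * g⁻¹ * (g * v * g⁻¹) * (g * k * g⁻¹)⁻¹) * g = k * v * k⁻¹ := by group
    rwa [e] at hc
  gen := by
    intro x hx
    have h1 := h.gen (mem_cj.1 hx)
    have h2 : ∀ y ∈ closure {x | ∃ k ∈ K, ∃ v ∈ U, x = k * v * k⁻¹},
        g * y * g⁻¹ ∈ closure {x | ∃ k ∈ cj g K, ∃ v ∈ cj g U, x = k * v * k⁻¹} := by
      intro y hy
      induction hy using closure_induction with
      | mem y hy =>
        obtain ⟨k, hk, v, hv, rfl⟩ := hy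
        exact subset_closure ⟨g * k * g⁻¹, conj_mem_cj hk, g * v * g⁻¹, conj_mem_cj hv, by group⟩
      | one => simp
      | mul a b _ _ ha hb =>
        have e : g * (a * b) * g⁻¹ = (g * a * g⁻¹) * (g * b * g⁻¹) := by group
        rw [e]
        exact mul_mem ha hb
      | inv a _ ha =>
        have e : g * a⁻¹ * g⁻¹ = (g * a * g⁻¹)⁻¹ := by group
        rw [e]
        exact inv_mem ha
    have h3 := h2 _ h1
    have e : g * (g⁻¹ * x * g) * g⁻¹ = x := by group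
    rwa [e] at h3

section Braid

variable [Finite G] (F : Frame G) {S : Sylow 2 G} {L Q Z A : Subgroup G} {z₀ w : G}

/-- **Braid relation of length four** (central root group). -/
theorem braid_four (hB : Bender.{u}) (h : Central.CRoot S L Q Z A z₀ w)
    (hfA : ∀ a ∈ A, (F.n false)⁻¹ * a * F.n false ∈ A)
    (htA : ∀ a ∈ A, (F.n true * F.n true)⁻¹ * a * (F.n true * F.n true) ∈ A)
    (hEP : cj (F.n true) Z ≤ F.P false)
    (hEH : ∀ k ∈ F.H₁, ∀ x ∈ cj (F.n true) Z, k * x * k⁻¹ ∈ cj (F.n true) Z)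
    (hcomm : ∀ a ∈ cj (F.n true) A, ∀ x ∈ cj (F.n true) Z,
      (F.n false * x * (F.n false)⁻¹) * a = a * (F.n false * x * (F.n false)⁻¹))
    (hl : ∃ l ∈ cj (F.n true) Z ⊔ cj (F.n false) (cj (F.n true) Z), (F.n false)⁻¹ * l ∈ F.H₁)
    (hmv : ∃ x ∈ cj (F.n true) Z, F.n false * x * (F.n false)⁻¹ ∉ cj (F.n true) Z)
    (pair : ∃ a ∈ Z, ∃ b ∈ Z, a ≠ 1 ∧ b ≠ 1 ∧ a ≠ b) : F.Braid 4 := by
  set E := cj (F.n true) Z with hE
  set K := E ⊔ cj (F.n false) E with hK
  obtain ⟨l, hlK, hlH⟩ := hl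
  have hEK : E ≤ K := le_sup_left
  have hKcomm : ∀ k ∈ K, ∀ a ∈ cj (F.n true) A, k * a = a * k := by
    have : K ≤ centralizer (cj (F.n true) A : Set G) := by
      refine sup_le ?_ ?_
      · rintro _ ⟨z, hz, rfl⟩
        rw [mem_centralizer_iff]
        rintro _ ⟨a, ha, rfl⟩
        rw [← map_mul, ← map_mul, h.AZ a ha z hz]
      · rintro _ ⟨x, hx, rfl⟩
        rw [mem_centralizer_iff]
        intro a ha
        exact (hcomm a ha x hx).symm
    intro k hk a ha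
    exact (mem_centralizer_iff.1 (this hk) a ha).symm
  -- `l E l⁻¹ = n_f E n_f⁻¹`
  have hlE : ∀ x ∈ E, ∃ y ∈ E, l * y * l⁻¹ = F.n false * x * (F.n false)⁻¹ := by
    intro x hx
    refine ⟨_, hEH _ (inv_mem hlH) x hx, ?_⟩
    group
  -- the root pair before conjugation
  have key : Root A Z (cj (F.n true)⁻¹ K) := by
    refine h.root ?_ ?_ pair ?_ ?_
    · intro z hz
      rw [mem_cj, inv_inv]
      exact hEK (conj_mem_cj hz)
    · intro k hk a ha
      rw [mem_cj, inv_inv] at hk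
      have h2 := hKcomm _ hk _ (conj_mem_cj ha)
      set g := F.n true
      have h3 : g⁻¹ * (g * k * g⁻¹ * (g * a * g⁻¹)) * g = g⁻¹ * (g * a * g⁻¹ * (g * k * g⁻¹)) * g := by
        rw [h2]
      have e1 : g⁻¹ * (g * k * g⁻¹ * (g * a * g⁻¹)) * g = k * a := by group
      have e2 : g⁻¹ * (g * a * g⁻¹ * (g * k * g⁻¹)) * g = a * k := by group
      rwa [e1, e2] at h3
    · -- `l` moves `E`
      obtain ⟨x, hx, hxn⟩ := hmv
      obtain ⟨y, hy, hyx⟩ := hlE x hx
      set g := F.n true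
      refine ⟨g⁻¹ * l * g, ?_, g⁻¹ * y * g, mem_cj.1 hy, fun hc => hxn ?_⟩
      · rw [mem_cj, inv_inv]
        have e : g * (g⁻¹ * l * g) * g⁻¹ = l := by group
        rwa [e]
      · rw [hE, mem_cj, ← hyx]
        have e : g⁻¹ * l * g * (g⁻¹ * y * g) * (g⁻¹ * l * g)⁻¹ = g⁻¹ * (l * y * l⁻¹) * g := by group
        rwa [e] at hc
    · intro x hx
      rw [mem_cj, inv_inv] at hx
      set g := F.n true
      have hcl : ∀ y ∈ K, g⁻¹ * y * g ∈
          closure {x | ∃ k ∈ cj g⁻¹ K, ∃ v ∈ Z, x = k * v * k⁻¹} := by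
        intro y hy
        rw [hK, ← closure_eq E, ← closure_eq (cj (F.n false) (closure (E : Set G))),
          ← Subgroup.closure_union, closure_eq] at hy
        induction hy using closure_induction with
        | mem y hy =>
          rcases hy with hy | hy
          · exact subset_closure ⟨1, one_mem _, g⁻¹ * y * g, mem_cj.1 hy, by group⟩
          · obtain ⟨x, hx, rfl⟩ := hy
            obtain ⟨y, hy, hyx⟩ := hlE x hx
            refine subset_closure ⟨g⁻¹ * l * g, ?_, g⁻¹ * y * g, mem_cj.1 hy, ?_⟩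
            · rw [mem_cj, inv_inv]
              have e : g * (g⁻¹ * l * g) * g⁻¹ = l := by group
              rwa [e]
            · show g⁻¹ * (F.n false * x * (F.n false)⁻¹) * g = _
              rw [← hyx]
              group
        | one => simp
        | mul a b _ _ ha hb =>
          have e : g⁻¹ * (a * b) * g = (g⁻¹ * a * g) * (g⁻¹ * b * g) := by group
          rw [e]
          exact mul_mem ha hb
        | inv a _ ha =>
          have e : g⁻¹ * a⁻¹ * g = (g⁻¹ * a * g)⁻¹ := by group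
          rw [e]
          exact inv_mem ha
      have h1 := hcl _ hx
      have e : g⁻¹ * (g * x * g⁻¹) * g = x := by group
      rwa [e] at h1
  have key2 := root_cj key (F.n true)
  have eK : cj (F.n true) (cj (F.n true)⁻¹ K) = K := by
    ext x
    rw [mem_cj, mem_cj, inv_inv]
    have e : F.n true * ((F.n true)⁻¹ * x * F.n true) * (F.n true)⁻¹ = x := by group
    rw [e]
  rw [eK] at key2
  have hKP : K ≤ F.P false := by
    refine sup_le hEP ?_
    rintro _ ⟨x, hx, rfl⟩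
    exact mul_mem (mul_mem (F.n_mem false) (hEP hx)) (inv_mem (F.n_mem false))
  refine F.braid_of_root (m := 3) (i := false) hB key2 hlK hlH hKP (by decide) ?_
  rintro _ ⟨a, ha, rfl⟩
  have ew : alt F.n (!false) 3 = F.n true * F.n false * F.n true := by
    simp [alt_succ, mul_assoc]
  rw [ew, mem_cj]
  show (F.n true)⁻¹ * ((F.n true * F.n false * F.n true)⁻¹ * (F.n true * a * (F.n true)⁻¹) *
    (F.n true * F.n false * F.n true)) * F.n true ∈ A
  have e : (F.n true)⁻¹ * ((F.n true * F.n false * F.n true)⁻¹ * (F.n true * a * (F.n true)⁻¹) *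
      (F.n true * F.n false * F.n true)) * F.n true =
      (F.n true * F.n true)⁻¹ * ((F.n false)⁻¹ * a * F.n false) * (F.n true * F.n true) := by group
  rw [e]
  exact htA _ (hfA a ha)

end Braid

section Path

variable (F : Frame G)

/-- **The path conditions for quadrangles.** -/
theorem pathTo_four {U Q R Y D : Subgroup G} (hQB : Q ≤ F.B) (hRB : R ≤ F.B)
    (hUH : ∀ b ∈ F.B, ∃ u ∈ U, u⁻¹ * b ∈ F.H₁)
    (hQn : ∀ x ∈ Q, (F.n false)⁻¹ * x * F.n false ∈ Q)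
    (hQn' : ∀ x ∈ Q, F.n false * x * (F.n false)⁻¹ ∈ Q)
    (hRn : ∀ x ∈ R, (F.n true)⁻¹ * x * F.n true ∈ R)
    (hRn' : ∀ x ∈ R, F.n true * x * (F.n true)⁻¹ ∈ R)
    (hYQ : Y ≤ Q) (hYR : Y ≤ R) (hDQ : D ≤ Q) (hDR : D ≤ R)
    (hYH : ∀ k ∈ F.H₁, ∀ x ∈ Y, k * x * k⁻¹ ∈ Y) (hDH : ∀ k ∈ F.H₁, ∀ x ∈ D, k * x * k⁻¹ ∈ D)
    (hX4 : ∀ u ∈ U, ∃ x ∈ cj (F.n false) (Y ⊓ cj (F.n true) Y), ∃ r ∈ R, u = x * r)
    (hX1 : ∀ u ∈ U, ∃ x ∈ cj (F.n true) (D ⊓ cj (F.n false) D), ∃ q ∈ Q, u = x * q) :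
    ∀ k < 4, F.PathTo k := by
  set X4 := cj (F.n false) (Y ⊓ cj (F.n true) Y) with h4
  set X1 := cj (F.n true) (D ⊓ cj (F.n false) D) with h1
  -- conjugation by squares
  have sqY : ∀ i, ∀ x ∈ Y, F.n i * F.n i * x * (F.n i * F.n i)⁻¹ ∈ Y := fun i x hx =>
    hYH _ (F.sq_mem i) x hx
  have sqD : ∀ i, ∀ x ∈ D, F.n i * F.n i * x * (F.n i * F.n i)⁻¹ ∈ D := fun i x hx =>
    hDH _ (F.sq_mem i) x hx
  intro k hk
  refine F.pathTo_of_root (fun i => cond i (X4 : Set G) (X1 : Set G)) ?_ ?_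
  · intro i b hb
    obtain ⟨u, hu, hub⟩ := hUH b hb
    cases i with
    | false =>
      obtain ⟨x, hx, q, hq, rfl⟩ := hX1 u hu
      refine ⟨x, hx, q * ((x * q)⁻¹ * b), mul_mem (hQB hq) (F.H₁_le hub), by group, ?_⟩
      have e : (F.n false)⁻¹ * (q * ((x * q)⁻¹ * b)) * F.n false =
          ((F.n false)⁻¹ * q * F.n false) * ((F.n false)⁻¹ * ((x * q)⁻¹ * b) * F.n false) := by group
      rw [e]
      exact mul_mem (hQB (hQn q hq)) (F.H₁_le (F.conj_mem' false hub))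
    | true =>
      obtain ⟨x, hx, q, hq, rfl⟩ := hX4 u hu
      refine ⟨x, hx, q * ((x * q)⁻¹ * b), mul_mem (hRB hq) (F.H₁_le hub), by group, ?_⟩
      have e : (F.n true)⁻¹ * (q * ((x * q)⁻¹ * b)) * F.n true =
          ((F.n true)⁻¹ * q * F.n true) * ((F.n true)⁻¹ * ((x * q)⁻¹ * b) * F.n true) := by group
      rw [e]
      exact mul_mem (hRB (hRn q hq)) (F.H₁_le (F.conj_mem' true hub))
  · -- the words
    have hx1 : ∀ x ∈ X1, ∃ d ∈ D, d ∈ cj (F.n false) D ∧ x = F.n true * d * (F.n true)⁻¹ := by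
      rintro _ ⟨d, hd, rfl⟩
      exact ⟨d, (mem_inf.1 hd).1, (mem_inf.1 hd).2, rfl⟩
    have hx4 : ∀ x ∈ X4, ∃ y ∈ Y, y ∈ cj (F.n true) Y ∧ x = F.n false * y * (F.n false)⁻¹ := by
      rintro _ ⟨d, hd, rfl⟩
      exact ⟨d, (mem_inf.1 hd).1, (mem_inf.1 hd).2, rfl⟩
    intro i x hx
    interval_cases k
    · -- k = 0
      cases i
      · obtain ⟨d, hd, -, rfl⟩ := hx1 x hx
        have e : alt F.n false 0 * (F.n true * d * (F.n true)⁻¹) * (alt F.n false 0)⁻¹ =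
          F.n true * d * (F.n true)⁻¹ := by simp
        rw [e]
        exact hRB (hRn' d (hDR hd))
      · obtain ⟨d, hd, -, rfl⟩ := hx4 x hx
        have e : alt F.n true 0 * (F.n false * d * (F.n false)⁻¹) * (alt F.n true 0)⁻¹ =
          F.n false * d * (F.n false)⁻¹ := by simp
        rw [e]
        exact hQB (hQn' d (hYQ hd))
    · -- k = 1
      cases i
      · obtain ⟨d, hd, -, rfl⟩ := hx4 x hx
        have e : alt F.n false 1 * (F.n false * d * (F.n false)⁻¹) * (alt F.n false 1)⁻¹ =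
          F.n false * F.n false * d * (F.n false * F.n false)⁻¹ := by rw [alt_one]; group
        rw [e]
        exact hQB (hYQ (sqY false d hd))
      · obtain ⟨d, hd, -, rfl⟩ := hx1 x hx
        have e : alt F.n true 1 * (F.n true * d * (F.n true)⁻¹) * (alt F.n true 1)⁻¹ =
          F.n true * F.n true * d * (F.n true * F.n true)⁻¹ := by rw [alt_one]; group
        rw [e]
        exact hRB (hDR (sqD true d hd))
    · -- k = 2
      cases i
      · obtain ⟨d, hd, -, rfl⟩ := hx1 x hx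
        have e : alt F.n false 2 * (F.n true * d * (F.n true)⁻¹) * (alt F.n false 2)⁻¹ =
          F.n false * (F.n true * F.n true * d * (F.n true * F.n true)⁻¹) * (F.n false)⁻¹ := by
          simp only [alt_succ, alt_zero, Bool.not_false, mul_one]; group
        rw [e]
        exact hQB (hQn' _ (hDQ (sqD true d hd)))
      · obtain ⟨d, hd, -, rfl⟩ := hx4 x hx
        have e : alt F.n true 2 * (F.n false * d * (F.n false)⁻¹) * (alt F.n true 2)⁻¹ =
          F.n true * (F.n false * F.n false * d * (F.n false * F.n false)⁻¹) * (F.n true)⁻¹ := by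
          simp only [alt_succ, alt_zero, Bool.not_true, mul_one]; group
        rw [e]
        exact hRB (hRn' _ (hYR (sqY false d hd)))
    · -- k = 3
      cases i
      · obtain ⟨d, hd, hd', rfl⟩ := hx4 x hx
        rw [mem_cj] at hd'
        -- `d = n_t y n_t⁻¹`
        have e : alt F.n false 3 * (F.n false * d * (F.n false)⁻¹) * (alt F.n false 3)⁻¹ =
          F.n false * ((F.n true * (F.n false * F.n false) * (F.n true)⁻¹) *
            (F.n true * F.n true * ((F.n true)⁻¹ * d * F.n true) * (F.n true * F.n true)⁻¹) *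
            (F.n true * (F.n false * F.n false) * (F.n true)⁻¹)⁻¹) * (F.n false)⁻¹ := by
          simp only [alt_succ, alt_zero, Bool.not_false, Bool.not_true, mul_one]; group
        rw [e]
        exact hQB (hQn' _ (hYQ (hYH _ (F.conj_mem true (F.sq_mem false)) _ (sqY true _ hd'))))
      · obtain ⟨d, hd, hd', rfl⟩ := hx1 x hx
        rw [mem_cj] at hd'
        have e : alt F.n true 3 * (F.n true * d * (F.n true)⁻¹) * (alt F.n true 3)⁻¹ =
          F.n true * ((F.n false * (F.n true * F.n true) * (F.n false)⁻¹) *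
            (F.n false * F.n false * ((F.n false)⁻¹ * d * F.n false) * (F.n false * F.n false)⁻¹) *
            (F.n false * (F.n true * F.n true) * (F.n false)⁻¹)⁻¹) * (F.n true)⁻¹ := by
          simp only [alt_succ, alt_zero, Bool.not_false, Bool.not_true, mul_one]; group
        rw [e]
        exact hRB (hRn' _ (hDR (hDH _ (F.conj_mem false (F.sq_mem true)) _ (sqD false _ hd'))))

end Path

end Cfsg.Agent.RankTwoClose.Four

end

section


/-!
# The closing theorem for quadrangles with a central parabolic (type `U₅(q)`; also `U₄(q)`)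

`structure QData`: two rank one groups `L1` (the central one, `[Z, L1] = 1`, type `SU₃(q)`), `L2` (type
`SL₂(q²)`) over a common Sylow subgroup `U`, a common torus `H`, `Central.CRoot` for `L1`, and the
supplement conditions of `Four.pathTo_four`.  `QData.exists_split`: `⟨L1, L2⟩H` has a split `BN`-pair
of rank two with Borel subgroup `UH`.  Nothing on the structure of `U / Q1` (it is nonabelian for
`SU₃(q)`), field automorphisms in `S` are allowed.
-/

set_option autoImplicit false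

universe u

namespace Cfsg.Agent.RankTwoClose.Quad

open Cfsg.Agent.Omega.RootLemma Cfsg.Agent.RankTwoClose.UFour

variable {G : Type u} [Group G]

/-- A rank one group `L`, `U` a Sylow subgroup, `X = O₂(L)`, `n` a reflection, `H` a torus. -/
structure Pan (L U X H : Subgroup G) (n : G) : Prop where
  UL : U ≤ L
  XU : X ≤ U
  norm : L ≤ Subgroup.normalizer (X : Set G)
  nL : n ∈ L
  trans : ∀ g ∈ L, cj g U = U ∨ ∃ u ∈ U, cj g U = cj (u * n) U
  inter : U ⊓ cj n U ≤ X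
  borel : ∀ g ∈ L, cj g U = U → g ∈ U ⊔ H
  HL : H ≤ Subgroup.normalizer (L : Set G)
  HX : H ≤ Subgroup.normalizer (X : Set G)
  nH : cj n H = H
  fix : ∀ u ∈ U, (∀ h ∈ H, h * u * h⁻¹ * u⁻¹ ∈ X) → u ∈ X
  ne : cj n U ≠ U

/-- Two panels with a common Borel subgroup. -/
structure Two (U H L1 L2 Q1 Q2 : Subgroup G) (n1 n2 : G) : Prop where
  twoU : IsPGroup 2 U
  odd : Odd (Nat.card H)
  HU : H ≤ Subgroup.normalizer (U : Set G)
  P1 : Pan L1 U Q1 H n1
  P2 : Pan L2 U Q2 H n2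
  sep : n1 ∉ L2 ⊔ H

namespace Two

variable {U H L1 L2 Q1 Q2 : Subgroup G} {n1 n2 : G}

section

variable (D : Two U H L1 L2 Q1 Q2 n1 n2)
include D

theorem exists_uh {b : G} (hb : b ∈ U ⊔ H) : ∃ u ∈ U, ∃ h ∈ H, b = u * h := by
  rw [sup_comm] at hb
  obtain ⟨h, hh, u, hu, rfl⟩ := mem_sup_norm D.HU hb
  exact ⟨h * u * h⁻¹, conj_mem (D.HU hh) hu, h, hh, by group⟩

theorem normB_U {b : G} (hb : b ∈ U ⊔ H) : b ∈ Subgroup.normalizer (U : Set G) := by
  have : U ⊔ H ≤ Subgroup.normalizer (U : Set G) := sup_le Subgroup.le_normalizer D.HU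
  exact this hb

/-- `2`-elements of `B` lie in `U`. -/
theorem two_mem_U {P : Subgroup G} (hP : IsPGroup 2 P) {x : G} (hx : x ∈ P) (hB : x ∈ U ⊔ H) :
    x ∈ U := by
  obtain ⟨u, hu, h, hh, rfl⟩ := D.exists_uh hB
  obtain ⟨k, hk⟩ := hP ⟨u * h, hx⟩
  have hk' : (u * h) ^ 2 ^ k = 1 := congrArg Subtype.val hk
  have key : ∀ n : ℕ, ∃ v ∈ U, (u * h) ^ n = v * h ^ n := by
    intro n
    induction n with
    | zero => exact ⟨1, one_mem _, by simp⟩
    | succ n ih =>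
      obtain ⟨v, hv, e⟩ := ih
      refine ⟨v * (h ^ n * u * (h ^ n)⁻¹), mul_mem hv (conj_mem (D.HU (pow_mem hh n)) hu), ?_⟩
      rw [pow_succ, e, pow_succ]; group
  obtain ⟨v, hv, e⟩ := key (2 ^ k)
  rw [hk'] at e
  have h1 : h ^ 2 ^ k ∈ U := by
    have : h ^ 2 ^ k = v⁻¹ := (inv_eq_of_mul_eq_one_right e.symm).symm
    rw [this]; exact inv_mem hv
  have h2 : h ^ 2 ^ k = 1 := eq_one_of_odd_two D.odd D.twoU (pow_mem hh _) h1
  have h3 : h = 1 := by
    have h4 : orderOf h ∣ 2 ^ k := orderOf_dvd_of_pow_eq_one h2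
    have h5 : orderOf h ∣ Nat.card H := Subgroup.orderOf_dvd_natCard H hh
    have h6 : Nat.Coprime (2 ^ k) (Nat.card H) :=
      Nat.Coprime.pow_left k (Nat.coprime_two_left.mpr D.odd)
    exact orderOf_eq_one_iff.mp (Nat.eq_one_of_dvd_coprimes h6 h4 h5)
  rw [h3, mul_one]
  exact hu

theorem inter_B {n : G} {X : Subgroup G} (hX : U ⊓ cj n U ≤ X) {x : G}
    (hx : x ∈ U) (hx' : n⁻¹ * x * n ∈ U ⊔ H) : x ∈ X := by
  refine hX ⟨hx, mem_cj.mpr ?_⟩
  exact D.two_mem_U (P := cj n⁻¹ U) (isPGroup_cj D.twoU)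
    (by rw [mem_cj, inv_inv]; rwa [show n * (n⁻¹ * x * n) * n⁻¹ = x by group]) hx'

theorem memP {L X : Subgroup G} {n : G} (hR : Pan L U X H n) (x : G) :
    x ∈ L ⊔ H ↔ x ∈ U ⊔ H ∨ ∃ b ∈ U ⊔ H, ∃ c ∈ U ⊔ H, x = b * n * c := by
  constructor
  · intro hx
    rw [sup_comm] at hx
    obtain ⟨h, hh, g, hg, rfl⟩ := mem_sup_norm hR.HL hx
    rcases hR.trans g hg with h1 | ⟨u, hu, h1⟩
    · exact Or.inl (mul_mem (Subgroup.mem_sup_right hh) (hR.borel g hg h1))
    · right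
      have h2 : cj ((u * n)⁻¹ * g) U = U := by rw [cj_mul, h1, cj_inv_cj]
      have h3 := hR.borel _ (mul_mem (inv_mem (mul_mem (hR.UL hu) hR.nL)) hg) h2
      exact ⟨h * u, mul_mem (Subgroup.mem_sup_right hh) (Subgroup.mem_sup_left hu), _, h3, by group⟩
  · have hB : U ⊔ H ≤ L ⊔ H := sup_le_sup_right hR.UL H
    rintro (h | ⟨b, hb, c, hc, rfl⟩)
    · exact hB h
    · exact mul_mem (mul_mem (hB hb) (Subgroup.mem_sup_left hR.nL)) (hB hc)

theorem n_not {L X : Subgroup G} {n : G} (hR : Pan L U X H n) : n ∉ U ⊔ H := fun h =>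
  hR.ne (mem_norm_iff.mp (D.normB_U h))

theorem two_of {L X : Subgroup G} {n : G} (hR : Pan L U X H n) {g : G} (hg : g ∈ L ⊔ H)
    (hH : ∀ h ∈ H, g⁻¹ * h * g ∈ U ⊔ H) : g ∈ U ⊔ H ∨ n⁻¹ * g ∈ U ⊔ H := by
  rcases (D.memP hR g).mp hg with h | ⟨b, hb, c, hc, rfl⟩
  · exact Or.inl h
  · right
    obtain ⟨u, hu, t, ht, rfl⟩ := D.exists_uh hb
    have h1 : u ∈ X := by
      refine hR.fix u hu fun h hh => ?_
      have hUh : h * u * h⁻¹ * u⁻¹ ∈ U := mul_mem (conj_mem (D.HU hh) hu) (inv_mem hu)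
      have h2 := hH h⁻¹ (inv_mem hh)
      have h3 : n⁻¹ * t⁻¹ * (u⁻¹ * h⁻¹ * u) * t * n ∈ U ⊔ H := by
        have := mul_mem (mul_mem hc h2) (inv_mem hc)
        rwa [show c * ((u * t * n * c)⁻¹ * h⁻¹ * (u * t * n * c)) * c⁻¹ =
          n⁻¹ * t⁻¹ * (u⁻¹ * h⁻¹ * u) * t * n by group] at this
      have ht' : n⁻¹ * t * n ∈ H := conj_mem' (mem_norm_iff.mpr hR.nH) ht
      have hh' : n⁻¹ * h * n ∈ H := conj_mem' (mem_norm_iff.mpr hR.nH) hh
      have h4 := mul_mem (mul_mem (Subgroup.mem_sup_right (S := U) ht') h3)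
        (inv_mem (Subgroup.mem_sup_right (S := U) ht'))
      rw [show n⁻¹ * t * n * (n⁻¹ * t⁻¹ * (u⁻¹ * h⁻¹ * u) * t * n) * (n⁻¹ * t * n)⁻¹ =
        n⁻¹ * (u⁻¹ * h⁻¹ * u) * n by group] at h4
      have h5 := mul_mem (Subgroup.mem_sup_right (S := U) hh') (h4)
      rw [show n⁻¹ * h * n * (n⁻¹ * (u⁻¹ * h⁻¹ * u) * n) = n⁻¹ * (h * u⁻¹ * h⁻¹ * u) * n by group] at h5
      have h6 : h * u⁻¹ * h⁻¹ * u ∈ X := by
        refine D.inter_B hR.inter ?_ h5
        exact mul_mem (conj_mem (D.HU hh) (inv_mem hu)) hu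
      have h8 := conj_mem (hR.norm (hR.UL hu)) (inv_mem h6)
      have e : u * (h * u⁻¹ * h⁻¹ * u)⁻¹ * u⁻¹ = h * u * h⁻¹ * u⁻¹ := by group
      rwa [e] at h8
    have h2 : n⁻¹ * u * n ∈ U := hR.XU (conj_mem' (hR.norm hR.nL) h1)
    have h3 : n⁻¹ * t * n ∈ H := conj_mem' (mem_norm_iff.mpr hR.nH) ht
    have h4 := mul_mem (mul_mem (Subgroup.mem_sup_left (T := H) h2) (Subgroup.mem_sup_right h3)) hc
    rwa [show n⁻¹ * u * n * (n⁻¹ * t * n) * c = n⁻¹ * (u * t * n * c) by group] at h4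

/-- The frame: `false` is the central type. -/
def frame : Frame G where
  B := U ⊔ H
  H := H
  P i := if i then L2 ⊔ H else L1 ⊔ H
  n i := if i then n2 else n1
  memP i x := by
    cases i
    · exact D.memP D.P1 x
    · exact D.memP D.P2 x
  inter := by
    have hB1 : U ⊔ H ≤ L1 ⊔ H := sup_le_sup_right D.P1.UL H
    have hB2 : U ⊔ H ≤ L2 ⊔ H := sup_le_sup_right D.P2.UL H
    refine le_antisymm ?_ (le_inf hB1 hB2)
    rintro x ⟨hx1, hx2⟩
    have h1 : x ∈ L1 ⊔ H := hx1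
    have h2 : x ∈ L2 ⊔ H := hx2
    rcases (D.memP D.P1 x).mp h1 with h | ⟨b, hb, c, hc, rfl⟩
    · exact h
    · exfalso
      apply D.sep
      have := mul_mem (mul_mem (inv_mem (hB2 hb)) h2) (inv_mem (hB2 hc))
      rwa [show b⁻¹ * (b * n1 * c) * c⁻¹ = n1 by group] at this
  H_le := le_sup_right
  n_norm i := by
    cases i
    · exact mem_norm_iff.mpr D.P1.nH
    · exact mem_norm_iff.mpr D.P2.nH
  n_not i := by
    cases i
    · exact D.n_not D.P1
    · exact D.n_not D.P2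
  two i g hg h := by
    cases i
    · exact D.two_of D.P1 hg h
    · exact D.two_of D.P2 hg h

@[simp] theorem frame_B : D.frame.B = U ⊔ H := rfl
@[simp] theorem frame_H : D.frame.H = H := rfl
@[simp] theorem frame_P0 : D.frame.P false = L1 ⊔ H := rfl
@[simp] theorem frame_P1 : D.frame.P true = L2 ⊔ H := rfl
@[simp] theorem frame_n0 : D.frame.n false = n1 := rfl
@[simp] theorem frame_n1 : D.frame.n true = n2 := rfl

variable [Finite G]

theorem thick (i : Bool) : ∃ b ∈ D.frame.B, D.frame.n i * b * (D.frame.n i)⁻¹ ∉ D.frame.B := by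
  have key : ∀ n : G, cj n U ≠ U → ∃ b ∈ U ⊔ H, n * b * n⁻¹ ∉ U ⊔ H := by
    intro n hn
    by_contra hcon
    push Not at hcon
    apply hn
    refine Subgroup.eq_of_le_of_card_ge (fun x hx => ?_) (le_of_eq (card_cj _ _).symm)
    refine D.two_mem_U (isPGroup_cj D.twoU) hx ?_
    rw [mem_cj] at hx
    have := hcon _ (Subgroup.mem_sup_left hx)
    rwa [show n * (n⁻¹ * x * n) * n⁻¹ = x by group] at this
  cases i
  · exact key n1 D.P1.ne
  · exact key n2 D.P2.ne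

/-- The end of `R2T` for a frame of this form. -/
theorem exists_split {m : ℕ} (hbr : D.frame.Braid m) (hm : 1 ≤ m) (hp : ∀ k < m, D.frame.PathTo k)
    {X : Subgroup G} (hX : (L1 ⊔ H) ⊔ (L2 ⊔ H) = X) :
    ∃ P : Cfsg.BNPair X, P.rank = 2 ∧ P.IsSplit ∧ P.B = (U ⊔ H).subgroupOf X ∧
      (∀ x : X, x ∈ P.N ↔ (x : G) ∈ D.frame.N) := by
  refine D.frame.exists_split_sup hbr hm hp D.thick U le_sup_left
    (fun b hb u hu => conj_mem (D.normB_U hb) hu) ?_ ?_ hX
  · have : Fact (Nat.Prime 2) := ⟨Nat.prime_two⟩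
    exact D.twoU.isNilpotent
  · intro b hb
    obtain ⟨u, hu, h, hh, rfl⟩ := D.exists_uh hb
    refine ⟨u, hu, ?_⟩
    rw [inv_mul_cancel_left]
    exact Subgroup.le_normalizer hh

end

end Two

variable [Finite G]

/-- The data of a quadrangle with a central parabolic `L1`. -/
structure QData (S : Sylow 2 G) (L1 L2 U Q1 Q2 Z Y D H A : Subgroup G) (n1 n2 z₀ w : G) : Prop where
  two : Two U H L1 L2 Q1 Q2 n1 n2
  -- the central root group
  cr : Central.CRoot S L1 Q1 Z A z₀ w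
  n1A : ∀ a ∈ A, n1⁻¹ * a * n1 ∈ A
  n2A : ∀ a ∈ A, (n2 * n2)⁻¹ * a * (n2 * n2) ∈ A
  EU : cj n2 Z ≤ U
  EQ1 : ¬ cj n2 Z ≤ Q1
  comm : ∀ a ∈ A, ∀ z ∈ Z, (n1 * (n2 * z * n2⁻¹) * n1⁻¹) * (n2 * a * n2⁻¹) =
    (n2 * a * n2⁻¹) * (n1 * (n2 * z * n2⁻¹) * n1⁻¹)
  refl : ∃ l ∈ cj n2 Z ⊔ cj n1 (cj n2 Z), n1⁻¹ * l ∈ H
  pair : ∃ a ∈ Z, ∃ b ∈ Z, a ≠ 1 ∧ b ≠ 1 ∧ a ≠ b
  -- (PATH)
  YQ1 : Y ≤ Q1
  YQ2 : Y ≤ Q2
  DQ1 : D ≤ Q1
  DQ2 : D ≤ Q2
  YB : U ⊔ H ≤ Subgroup.normalizer (Y : Set G)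
  DB : U ⊔ H ≤ Subgroup.normalizer (D : Set G)
  X4 : U ≤ cj n1 (Y ⊓ cj n2 Y) ⊔ Q2
  X1 : U ≤ cj n2 (D ⊓ cj n1 D) ⊔ Q1

namespace QData

variable {S : Sylow 2 G} {L1 L2 U Q1 Q2 Z Y D H A : Subgroup G} {n1 n2 z₀ w : G}

theorem B_norm_Q1 (h : QData S L1 L2 U Q1 Q2 Z Y D H A n1 n2 z₀ w) :
    U ⊔ H ≤ Subgroup.normalizer (Q1 : Set G) :=
  sup_le (h.two.P1.UL.trans h.two.P1.norm) h.two.P1.HX

theorem B_norm_Z (h : QData S L1 L2 U Q1 Q2 Z Y D H A n1 n2 z₀ w) :
    U ⊔ H ≤ Subgroup.normalizer (Z : Set G) := by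
  intro b hb
  have h1 := mem_norm_iff.mp (h.B_norm_Q1 hb)
  rw [mem_norm_iff, ← h.cr.comm, cj_comm, h1]

theorem pathTo (h : QData S L1 L2 U Q1 Q2 Z Y D H A n1 n2 z₀ w) :
    ∀ k < 4, h.two.frame.PathTo k := by
  have hQ1 := h.two.P1.XU
  have hQ2 := h.two.P2.XU
  have hH : ∀ {X : Subgroup G}, U ⊔ H ≤ Subgroup.normalizer (X : Set G) →
      ∀ k ∈ h.two.frame.H₁, ∀ x ∈ X, k * x * k⁻¹ ∈ X := fun hX k hk x hx =>
    conj_mem (hX (h.two.frame.H₁_le hk)) hx
  refine Four.pathTo_four h.two.frame (U := U) (Q := Q1) (R := Q2) (Y := Y) (D := D)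
    (hQ1.trans le_sup_left) (hQ2.trans le_sup_left) ?_
    (fun x hx => conj_mem' (h.two.P1.norm h.two.P1.nL) hx)
    (fun x hx => conj_mem (h.two.P1.norm h.two.P1.nL) hx)
    (fun x hx => conj_mem' (h.two.P2.norm h.two.P2.nL) hx)
    (fun x hx => conj_mem (h.two.P2.norm h.two.P2.nL) hx)
    h.YQ1 h.YQ2 h.DQ1 h.DQ2 (hH h.YB) (hH h.DB) ?_ ?_
  · intro b hb
    obtain ⟨u, hu, t, ht, rfl⟩ := h.two.exists_uh hb
    refine ⟨u, hu, ?_⟩
    rw [inv_mul_cancel_left]
    exact ⟨Subgroup.mem_sup_right (S := U) ht, Subgroup.le_normalizer ht⟩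
  · intro u hu
    have hX : cj n1 (Y ⊓ cj n2 Y) ≤ Subgroup.normalizer (Q2 : Set G) := by
      refine le_trans (cj_mono inf_le_left) ((le_trans (cj_mono h.YQ1) ?_).trans
        (h.two.P2.UL.trans h.two.P2.norm))
      rw [mem_norm_iff.mp (h.two.P1.norm h.two.P1.nL)]
      exact hQ1
    obtain ⟨x, hx, r, hr, e⟩ := mem_sup_norm hX (h.X4 hu)
    exact ⟨x, hx, r, hr, e⟩
  · intro u hu
    have hX : cj n2 (D ⊓ cj n1 D) ≤ Subgroup.normalizer (Q1 : Set G) := by
      refine le_trans (cj_mono inf_le_left) ((le_trans (cj_mono h.DQ2) ?_).trans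
        (h.two.P1.UL.trans h.two.P1.norm))
      rw [mem_norm_iff.mp (h.two.P2.norm h.two.P2.nL)]
      exact hQ2
    obtain ⟨x, hx, r, hr, e⟩ := mem_sup_norm hX (h.X1 hu)
    exact ⟨x, hx, r, hr, e⟩

/-- The braid relation of length four. -/
theorem braid (h : QData S L1 L2 U Q1 Q2 Z Y D H A n1 n2 z₀ w) (hB : Bender.{u}) :
    h.two.frame.Braid 4 := by
  refine Four.braid_four h.two.frame hB h.cr h.n1A h.n2A ?_ ?_ ?_ ?_ ?_ h.pair
  · exact (h.EU.trans h.two.P1.UL).trans le_sup_left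
  · intro k hk x hx
    have h1 : (h.two.frame.n true)⁻¹ * k * h.two.frame.n true ∈ h.two.frame.H₁ :=
      h.two.frame.conj_mem' true hk
    have h2 := h.B_norm_Z (h.two.frame.H₁_le h1)
    rw [Four.mem_cj] at hx ⊢
    have h3 := conj_mem h2 hx
    have e : (h.two.frame.n true)⁻¹ * k * h.two.frame.n true *
        ((h.two.frame.n true)⁻¹ * x * h.two.frame.n true) *
        ((h.two.frame.n true)⁻¹ * k * h.two.frame.n true)⁻¹ =
        (h.two.frame.n true)⁻¹ * (k * x * k⁻¹) * h.two.frame.n true := by group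
    rwa [e] at h3
  · rintro _ ⟨a, ha, rfl⟩ _ ⟨z, hz, rfl⟩
    exact h.comm a ha z hz
  · obtain ⟨l, hl, hlH⟩ := h.refl
    exact ⟨l, hl, ⟨Subgroup.mem_sup_right (S := U) hlH, Subgroup.le_normalizer hlH⟩⟩
  · -- `n1` moves `E`
    by_contra hcon
    push Not at hcon
    apply h.EQ1
    have h1 : cj n1 (cj n2 Z) = cj n2 Z := by
      refine Subgroup.eq_of_le_of_card_ge ?_ (le_of_eq (card_cj _ _).symm)
      rintro _ ⟨x, hx, rfl⟩
      exact hcon x hx
    refine le_trans (le_inf h.EU ?_) h.two.P1.inter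
    rw [← h1]
    exact cj_mono h.EU

/-- **The closing theorem.** -/
theorem exists_split (h : QData S L1 L2 U Q1 Q2 Z Y D H A n1 n2 z₀ w) (hB : Bender.{u})
    {X : Subgroup G} (hX : (L1 ⊔ H) ⊔ (L2 ⊔ H) = X) :
    ∃ P : Cfsg.BNPair X, P.rank = 2 ∧ P.IsSplit ∧ P.B = (U ⊔ H).subgroupOf X ∧
      (∀ x : X, x ∈ P.N ↔ (x : G) ∈ h.two.frame.N) :=
  h.two.exists_split (h.braid hB) (by norm_num) h.pathTo hX

end QData

end Cfsg.Agent.RankTwoClose.Quad

end

section


/-!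
# A panel from abstract rank one data (no identification of `L/Q`)

`L` with `Q ≤ U ≤ L`, `Q` normal in `L`, `U` transitive on the other conjugates of `U` in `L`, `U/Q`
acting regularly on them, `n₀` swapping `U` and `U^{n₀}`; `H` a group of odd order normalising `L` and
`U` with `N_L(U) ≤ U H`.  Then some `n ∈ L` with `n H n⁻¹ = H` makes `(L, U, Q, H, n)` a panel, and
`n ≡ k n₀ k⁻¹` modulo `Q` for some `k ∈ U`.  Works for `SL₂`, `Sz`, `SU₃`, `PSU₃`, `PSL₂`.
-/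

set_option autoImplicit false

universe u

namespace Cfsg.Agent.RankTwoClose.PanOf

open UFour
open scoped Pointwise

variable {G : Type u} [Group G]

/-- Abstract rank one data. -/
structure Abs (L U Q : Subgroup G) (n₀ : G) : Prop where
  UL : U ≤ L
  QU : Q ≤ U
  LQ : L ≤ Subgroup.normalizer (Q : Set G)
  two : IsPGroup 2 U
  nL : n₀ ∈ L
  trans : ∀ g ∈ L, cj g U = U ∨ ∃ u ∈ U, cj g U = cj (u * n₀) U
  ne : cj n₀ U ≠ U
  swap : cj n₀ (cj n₀ U) = U
  inter : ∀ u ∈ U, cj u (cj n₀ U) = cj n₀ U → u ∈ Q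
  fix : ∀ u ∈ U, (∀ t ∈ L, cj t U = U → cj t (cj n₀ U) = cj n₀ U → t * u * t⁻¹ * u⁻¹ ∈ Q) → u ∈ Q

theorem exists_pan [Finite G] {L U Q H : Subgroup G} {n₀ : G} (D : Abs L U Q n₀)
    (odd : Odd (Nat.card H)) (HL : H ≤ Subgroup.normalizer (L : Set G))
    (HU : H ≤ Subgroup.normalizer (U : Set G)) (borel : ∀ g ∈ L, cj g U = U → g ∈ U ⊔ H) :
    ∃ k ∈ U, ∃ n ∈ L, Quad.Pan L U Q H n ∧ cj n U = cj k (cj n₀ U) ∧ cj n (cj n U) = U ∧
      (∃ q ∈ Q, q * n = k * n₀ * k⁻¹) ∧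
      (∀ t ∈ L, cj t U = U → cj t (cj n U) = cj n U → t ∈ Q ⊔ (H ⊓ L)) := by
  classical
  have hU2 : (Nat.card H).Coprime (Nat.card U) := by
    have : Fact (Nat.Prime 2) := ⟨Nat.prime_two⟩
    obtain ⟨k, hk⟩ := (IsPGroup.iff_card (p := 2)).mp D.two
    rw [hk]
    exact Nat.Coprime.pow_right k (Nat.coprime_two_right.mpr odd)
  have hUs : Group.IsSolvable U := by
    have : Fact (Nat.Prime 2) := ⟨Nat.prime_two⟩
    have := D.two.isNilpotent
    infer_instance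
  let _ : MulAction G (Subgroup G) := MulAction.compHom (Subgroup G) (MulAut.conj (G := G))
  have hsm : ∀ (g : G) (X : Subgroup G), g • X = cj g X := fun _ _ => rfl
  obtain ⟨k, hk, hkH⟩ := Solvable.Glauberman.exists_smul_fixed H U HU hU2 (Or.inr hUs)
    (cj n₀ U) (by
      intro a ha
      have haU' : cj a⁻¹ U = U := mem_norm_iff.mp (inv_mem (HU ha))
      have haL : a * n₀ * a⁻¹ ∈ L := conj_mem (HL ha) D.nL
      have e : cj a (cj n₀ U) = cj (a * n₀ * a⁻¹) U := by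
        rw [cj_mul, haU', cj_mul]
      rcases D.trans _ haL with h | ⟨u, hu, h⟩
      · exfalso
        apply D.ne
        rw [← e] at h
        have h2 := congrArg (cj a⁻¹) h
        rwa [cj_inv_cj, haU'] at h2
      · refine ⟨u, hu, ?_⟩
        rw [hsm, hsm, e]
        exact h.trans (cj_mul _ _ _))
  set U1 : Subgroup G := cj k (cj n₀ U) with hU1
  have hHU1 : ∀ a ∈ H, cj a U1 = U1 := fun a ha => hkH a ha
  have hkL : k ∈ L := D.UL hk
  set m : G := k * n₀ * k⁻¹ with hm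
  have hmL : m ∈ L := mul_mem (mul_mem hkL D.nL) (inv_mem hkL)
  have hkU : cj k U = U := cj_eq_of_mem hk
  have hkU' : cj k⁻¹ U = U := cj_eq_of_mem (inv_mem hk)
  have hmU : cj m U = U1 := by
    rw [hm, cj_mul, hkU', cj_mul]
  have hmU1 : cj m U1 = U := by
    rw [hm, hU1, cj_mul, cj_inv_cj, cj_mul, D.swap, hkU]
  have hQU1 : Q ≤ U1 := by
    intro q hq
    rw [← hmU]
    exact mem_cj.mpr (D.QU (conj_mem' (D.LQ hmL) hq))
  -- `U ∩ N_L(U1) ≤ Q`
  have hinter : ∀ u ∈ U, cj u U1 = U1 → u ∈ Q := by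
    intro u hu hu1
    have h1 : cj (k⁻¹ * u * k) (cj n₀ U) = cj n₀ U := by
      rw [cj_mul, cj_mul, ← hU1, hu1, hU1, cj_inv_cj]
    have h2 := D.inter _ (mul_mem (mul_mem (inv_mem hk) hu) hk) h1
    have h3 := conj_mem (D.LQ hkL) h2
    rwa [show k * (k⁻¹ * u * k) * k⁻¹ = u by group] at h3
  -- `H` normalises `Q`
  have hHQ : H ≤ Subgroup.normalizer (Q : Set G) := by
    refine le_normalizer_of fun a ha x hx => ?_
    rw [mem_cj] at hx
    have hxU : x ∈ U := by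
      have := conj_mem (HU ha) (D.QU hx)
      rwa [show a * (a⁻¹ * x * a) * a⁻¹ = x by group] at this
    refine hinter x hxU (cj_eq_of_mem ?_)
    have h1 := hQU1 hx
    rw [← hHU1 a ha]
    exact mem_cj.mpr h1
  have hborel : ∀ c ∈ L, cj c U = U → cj c U1 = U1 → c ∈ Q ⊔ (H ⊓ L) := by
    intro c hcL hc hc1
    have h1 := borel c hcL hc
    rw [sup_comm] at h1
    obtain ⟨h, hh, u, hu, rfl⟩ := mem_sup_norm HU h1
    have hhL : h ∈ L := by
      have := mul_mem hcL (inv_mem (D.UL hu))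
      rwa [mul_inv_cancel_right] at this
    have h2 : cj u U1 = U1 := by
      rw [cj_mul] at hc1
      have h4 := congrArg (cj h⁻¹) hc1
      rwa [cj_inv_cj, hHU1 h⁻¹ (inv_mem hh)] at h4
    exact mul_mem (Subgroup.mem_sup_right (Subgroup.mem_inf.mpr ⟨hh, hhL⟩))
      (Subgroup.mem_sup_left (hinter u hu h2))
  have hle : Q ⊔ (H ⊓ L) ≤ H ⊔ Q := sup_le le_sup_right (inf_le_left.trans le_sup_left)
  -- `cj m H ≤ H ⊔ Q`
  have hmH : cj m H ≤ H ⊔ Q := by
    intro x hx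
    rw [mem_cj] at hx
    set a := m⁻¹ * x * m with ha
    have hx' : x = m * a * m⁻¹ := by rw [ha]; group
    have hcL : m * a * m⁻¹ * a⁻¹ ∈ L := by
      rw [show m * a * m⁻¹ * a⁻¹ = m * (a * m⁻¹ * a⁻¹) by group]
      exact mul_mem hmL (conj_mem (HL hx) (inv_mem hmL))
    have haU : cj a U = U := mem_norm_iff.mp (HU hx)
    have haU' : cj a⁻¹ U = U := mem_norm_iff.mp (inv_mem (HU hx))
    have hmU' : cj m⁻¹ U = U1 := by rw [← hmU1, cj_inv_cj]
    have hmU1' : cj m⁻¹ U1 = U := by rw [← hmU, cj_inv_cj]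
    have h1 : cj (m * a * m⁻¹ * a⁻¹) U = U := by
      rw [cj_mul, haU', cj_mul, hmU', cj_mul, hHU1 a hx, hmU1]
    have h2 : cj (m * a * m⁻¹ * a⁻¹) U1 = U1 := by
      rw [cj_mul, hHU1 a⁻¹ (inv_mem hx), cj_mul, hmU1', cj_mul, haU, hmU]
    have h3 := hle (hborel _ hcL h1 h2)
    have h4 := mul_mem h3 (Subgroup.mem_sup_left (T := Q) hx)
    rw [hx']
    rwa [show m * a * m⁻¹ * a⁻¹ * a = m * a * m⁻¹ by group] at h4
  have hQ2 : (Nat.card H).Coprime (Nat.card Q) := by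
    have : Fact (Nat.Prime 2) := ⟨Nat.prime_two⟩
    obtain ⟨k, hk⟩ := (IsPGroup.iff_card (p := 2)).mp (D.two.to_le D.QU)
    rw [hk]
    exact Nat.Coprime.pow_right k (Nat.coprime_two_right.mpr odd)
  have hQs : Group.IsSolvable Q := by
    have : Fact (Nat.Prime 2) := ⟨Nat.prime_two⟩
    have := (D.two.to_le D.QU).isNilpotent
    infer_instance
  obtain ⟨q, hq, hqH⟩ := Solvable.Glauberman.exists_conj_of_le_sup H Q hHQ hQ2 (Or.inr hQs)
    (cj m H) hmH (card_cj _ _)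
  have hqH' : cj q H = cj m H := hqH
  have hqL : q ∈ L := (D.QU.trans D.UL) hq
  set n : G := q⁻¹ * m with hn
  have hnL : n ∈ L := mul_mem (inv_mem hqL) hmL
  have hnH : cj n H = H := by
    rw [hn, cj_mul, ← hqH', cj_inv_cj]
  have hnU : cj n U = U1 := by
    rw [hn, cj_mul, hmU, cj_eq_of_mem (inv_mem (hQU1 hq))]
  have hnU1 : cj n U1 = U := by
    rw [hn, cj_mul, hmU1, cj_eq_of_mem (inv_mem (D.QU hq))]
  refine ⟨k, hk, n, hnL, ⟨D.UL, D.QU, D.LQ, hnL, ?_, ?_, borel, HL, hHQ, hnH, ?_, ?_⟩, hnU,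
    by rw [hnU, hnU1], ⟨q, hq, by rw [hn, mul_inv_cancel_left]⟩, ?_⟩
  · -- transitivity
    intro g hg
    rcases D.trans g hg with h | ⟨u, hu, h⟩
    · exact Or.inl h
    · right
      refine ⟨u * k⁻¹, mul_mem hu (inv_mem hk), ?_⟩
      rw [cj_mul, hnU, hU1, cj_mul u k⁻¹, cj_inv_cj, ← cj_mul]
      exact h
  · -- intersection
    rintro u ⟨hu, hu'⟩
    refine hinter u hu (cj_eq_of_mem ?_)
    rw [← hnU]; exact hu'
  · -- fixed points
    intro u hu hfix
    have h1 : k⁻¹ * u * k ∈ Q := by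
      refine D.fix _ (mul_mem (mul_mem (inv_mem hk) hu) hk) fun t ht ht1 ht2 => ?_
      have h2 : cj (k * t * k⁻¹) U = U := by rw [cj_mul, hkU', cj_mul, ht1, hkU]
      have h3 : cj (k * t * k⁻¹) U1 = U1 := by
        rw [hU1, cj_mul, cj_inv_cj, cj_mul, ht2]
      have h4 := hle (hborel _ (mul_mem (mul_mem hkL ht) (inv_mem hkL)) h2 h3)
      obtain ⟨h, hh, x, hx, e⟩ := mem_sup_norm hHQ h4
      have h5 : (k * t * k⁻¹) * u * (k * t * k⁻¹)⁻¹ * u⁻¹ ∈ Q := by
        rw [e, show h * x * u * (h * x)⁻¹ * u⁻¹ = (h * (x * (u * x⁻¹ * u⁻¹)) * h⁻¹) *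
          (h * u * h⁻¹ * u⁻¹) by group]
        exact mul_mem (conj_mem (hHQ hh) (mul_mem hx (conj_mem (D.LQ (D.UL hu)) (inv_mem hx))))
          (hfix h hh)
      have h6 := conj_mem' (D.LQ hkL) h5
      rwa [show k⁻¹ * (k * t * k⁻¹ * u * (k * t * k⁻¹)⁻¹ * u⁻¹) * k =
        t * (k⁻¹ * u * k) * t⁻¹ * (k⁻¹ * u * k)⁻¹ by group] at h6
    have h2 := conj_mem (D.LQ hkL) h1
    rwa [show k * (k⁻¹ * u * k) * k⁻¹ = u by group] at h2
  · -- `cj n U ≠ U`
    rw [hnU]
    intro h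
    apply D.ne
    have h2 := congrArg (cj k⁻¹) h
    rwa [hU1, cj_inv_cj, hkU'] at h2
  · intro t ht h1 h2
    rw [hnU] at h2
    exact hborel t ht h1 h2

end Cfsg.Agent.RankTwoClose.PanOf

end
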