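import Mathlib
import Cfsg.Agent.Solvable.Glauberman
import Cfsg.Agent.Mrg.RankTwoClose.UFour.Basic
import Cfsg.Agent.Mrg.RankTwoClose.SLTwo
import Cfsg.Agent.Mrg.RankTwoClose.UFour.ModelTorus

section


/-!
# Rank one data from `L/Q = SL(2, F)`, `F` of characteristic two

`L` a subgroup with a surjection `π : L → SL(2, F)` with kernel `Q`, `U` the preimage of the upper
unitriangular matrices, `H` a group of odd order normalising `L`, `U` with `N_L(U) ≤ U H`.  Then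
some `n ∈ L` normalises `H` and `(L, U, Q, n)` is rank one data; the elements of `H ∩ L` are inverted
by `n` and their images form the torus of `SL(2, F)` conjugate to the diagonal one by `π k`, `k ∈ U`.
-/

set_option autoImplicit false
set_option linter.unusedSectionVars false

namespace Cfsg.Agent.RankTwoClose

open SLTwo UFour
open scoped Pointwise

variable {G : Type*} [Group G] {F : Type*} [Field F]

/-- `L/Q = SL(2, F)`. -/
structure SLPar (L U Q H : Subgroup G) (π : L →* SL F) : Prop where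
  surj : Function.Surjective π
  ker : ∀ x : L, π x = 1 ↔ (x : G) ∈ Q
  QL : Q ≤ L
  UL : U ≤ L
  memU : ∀ x : L, (x : G) ∈ U ↔ (π x).1 0 0 = 1 ∧ (π x).1 1 0 = 0
  two : IsPGroup 2 U
  odd : Odd (Nat.card H)
  HL : H ≤ Subgroup.normalizer (L : Set G)
  HU : H ≤ Subgroup.normalizer (U : Set G)
  borel : ∀ x : L, (π x).1 1 0 = 0 → (x : G) ∈ U ⊔ H

namespace SLPar

variable {L U Q H : Subgroup G} {π : L →* SL F}

section
variable (D : SLPar L U Q H π)
include D

theorem QU : Q ≤ U := fun q hq => by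
  have h1 := (D.ker ⟨q, D.QL hq⟩).mpr hq
  exact (D.memU ⟨q, D.QL hq⟩).mpr (by rw [h1]; exact ⟨one_00, one_10⟩)

theorem LQ : L ≤ Subgroup.normalizer (Q : Set G) := by
  refine le_normalizer_of fun g hg x hx => ?_
  rw [mem_cj] at hx
  have h1 := (D.ker ⟨_, D.QL hx⟩).mpr hx
  have hxL : x ∈ L := by
    have := mul_mem (mul_mem hg (D.QL hx)) (inv_mem hg)
    rwa [show g * (g⁻¹ * x * g) * g⁻¹ = x by group] at this
  have e : (⟨x, hxL⟩ : L) = ⟨g, hg⟩ * ⟨_, D.QL hx⟩ * ⟨g, hg⟩⁻¹ := Subtype.ext (by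
    show x = g * (g⁻¹ * x * g) * g⁻¹; group)
  refine (D.ker ⟨x, hxL⟩).mp ?_
  rw [e, map_mul, map_mul, h1, mul_one, map_inv, mul_inv_cancel]

theorem exists_up (b : F) : ∃ u : L, (u : G) ∈ U ∧ π u = up b := by
  obtain ⟨u, hu⟩ := D.surj (up b)
  refine ⟨u, (D.memU u).mpr ?_, hu⟩
  rw [hu]; exact ⟨rfl, rfl⟩

theorem eq_up {u : L} (hu : (u : G) ∈ U) : π u = up ((π u).1 0 1) := by
  obtain ⟨h1, h2⟩ := (D.memU u).mp hu
  exact SLTwo.ext_iff'.mpr ⟨h1, rfl, h2, by
    have := det_eq (π u)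
    rw [h1, h2] at this
    simpa using this⟩

end

variable [CharP F 2] (D : SLPar L U Q H π)
include D

theorem normU (x : L) : cj (x : G) U = U ↔ (π x).1 1 0 = 0 := by
  constructor
  · intro h
    obtain ⟨u, hu, hu1⟩ := D.exists_up 1
    have h1 : (x : G) * u * (x : G)⁻¹ ∈ U := by
      rw [← h]; exact conj_mem_cj hu
    have h2 := ((D.memU (x * u * x⁻¹)).mp h1).2
    rw [map_mul, map_mul, map_inv, hu1] at h2
    exact lower_zero h2
  · intro h
    rw [← mem_norm_iff]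
    have key : ∀ y : L, (π y).1 1 0 = 0 → ∀ u ∈ U, (y : G) * u * (y : G)⁻¹ ∈ U := by
      intro y hy u hu
      have hd := det_eq (π y)
      rw [hy, mul_zero, sub_zero] at hd
      refine (D.memU (y * ⟨u, D.UL hu⟩ * y⁻¹)).mpr ?_
      rw [map_mul, map_mul, map_inv, D.eq_up (u := ⟨u, D.UL hu⟩) hu]
      simp only [mul_00, mul_01, mul_10, mul_11, inv_00, inv_01, inv_10, inv_11, up_00, up_01,
        up_10, up_11]
      rw [hy]
      constructor
      · linear_combination hd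
      · ring
    rw [Subgroup.mem_normalizer_iff]
    intro g
    refine ⟨key x h g, fun hg => ?_⟩
    have h2 : (π x⁻¹).1 1 0 = 0 := by rw [map_inv, inv_10, h, neg_zero]
    have := key x⁻¹ h2 _ hg
    rwa [show ((x⁻¹ : L) : G) * ((x : G) * g * (x : G)⁻¹) * ((x⁻¹ : L) : G)⁻¹ = g by
      rw [Subgroup.coe_inv]; group] at this

theorem trans0 {n0 : L} (hn0 : π n0 = ww) (g : L) :
    cj (g : G) U = U ∨ ∃ u ∈ U, cj (g : G) U = cj (u * n0) U := by
  by_cases h : (π g).1 1 0 = 0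
  · exact Or.inl ((D.normU g).mpr h)
  · right
    obtain ⟨b, p, hp, e⟩ := bruhat' h
    obtain ⟨u, hu, hub⟩ := D.exists_up b
    refine ⟨u, hu, ?_⟩
    have h1 : π ((u * n0)⁻¹ * g) = p := by
      rw [map_mul, map_inv, map_mul, hub, hn0, e]; group
    have h2 := (D.normU ((u * n0)⁻¹ * g)).mpr (by rw [h1]; exact hp)
    have e2 : (g : G) = ((u : G) * n0) * (((u * n0)⁻¹ * g : L) : G) := by
      rw [Subgroup.coe_mul, Subgroup.coe_inv, Subgroup.coe_mul]; group
    conv_lhs => rw [e2]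
    rw [cj_mul, h2]

/-- The main construction. -/
theorem exists_rankOne [Finite G] [Finite F] (h4 : ∃ t : Fˣ, t ≠ 1) :
    ∃ k : L, (k : G) ∈ U ∧ ∃ n : L, RankOne L U Q (n : G) ∧ cj (n : G) H = H ∧
      (n : G) * n ∈ Q ∧ (∀ h ∈ H, (n : G) * n * h = h * ((n : G) * n)) ∧
      π n = π k * ww * (π k)⁻¹ ∧
      (∀ h : L, (h : G) ∈ H → ∃ t : Fˣ, π h = π k * dg t * (π k)⁻¹) ∧
      (∀ t : Fˣ, ∃ h : L, (h : G) ∈ H ∧ π h = π k * dg t * (π k)⁻¹) ∧
      (∀ h ∈ H ⊓ L, (n : G) * h * (n : G)⁻¹ = h⁻¹) ∧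
      (∀ u ∈ U, (∀ h ∈ H ⊓ L, h * u * h⁻¹ * u⁻¹ ∈ Q) → u ∈ Q) := by
  classical
  obtain ⟨n0, hn0⟩ := D.surj (ww : SL F)
  have hn0U : cj (n0 : G) U ≠ U := by
    intro h
    have := (D.normU n0).mp h
    rw [hn0] at this
    exact one_ne_zero this
  have hU2 : (Nat.card H).Coprime (Nat.card U) := by
    have : Fact (Nat.Prime 2) := ⟨Nat.prime_two⟩
    obtain ⟨k, hk⟩ := (IsPGroup.iff_card (p := 2)).mp D.two
    rw [hk]
    exact Nat.Coprime.pow_right k (Nat.coprime_two_right.mpr D.odd)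
  have hUs : Group.IsSolvable U := by
    have : Fact (Nat.Prime 2) := ⟨Nat.prime_two⟩
    have := D.two.isNilpotent
    infer_instance
  -- an `H`-invariant opposite
  let _ : MulAction G (Subgroup G) := MulAction.compHom (Subgroup G) (MulAut.conj (G := G))
  have hsm : ∀ (g : G) (X : Subgroup G), g • X = cj g X := fun _ _ => rfl
  obtain ⟨k, hk, hkH⟩ := Solvable.Glauberman.exists_smul_fixed H U D.HU hU2 (Or.inr hUs)
    (cj (n0 : G) U) (by
      intro a ha
      have haU : cj a U = U := mem_norm_iff.mp (D.HU ha)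
      have haU' : cj a⁻¹ U = U := mem_norm_iff.mp (inv_mem (D.HU ha))
      have haL : a * n0 * a⁻¹ ∈ L := conj_mem (D.HL ha) n0.2
      have e : cj a (cj (n0 : G) U) = cj (a * n0 * a⁻¹) U := by
        rw [cj_mul, haU', cj_mul]
      rcases D.trans0 hn0 ⟨_, haL⟩ with h | ⟨u, hu, h⟩
      · exfalso
        apply hn0U
        have h1 : cj (a * n0 * a⁻¹) U = U := h
        rw [← e] at h1
        have h2 := congrArg (cj a⁻¹) h1
        rwa [cj_inv_cj, haU'] at h2
      · refine ⟨u, hu, ?_⟩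
        rw [hsm, hsm, e]
        exact h.trans (cj_mul _ _ _))
  set U1 : Subgroup G := cj k (cj (n0 : G) U) with hU1
  have hHU1 : ∀ a ∈ H, cj a U1 = U1 := fun a ha => hkH a ha
  have hkL : k ∈ L := D.UL hk
  set k' : L := ⟨k, hkL⟩ with hk'
  -- the swapping element
  set m : L := k' * n0 * k'⁻¹ with hm
  have hn0n0 : (n0 : G) * n0 ∈ Q := by
    refine (D.ker (n0 * n0)).mp ?_
    rw [map_mul, hn0, ww_mul_ww]
  have hkU : cj k U = U := cj_eq_of_mem hk
  have hkU' : cj k⁻¹ U = U := cj_eq_of_mem (inv_mem hk)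
  have hmU : cj (m : G) U = U1 := by
    show cj (k * n0 * k⁻¹) U = U1
    rw [cj_mul, hkU', cj_mul]
  have hmU1 : cj (m : G) U1 = U := by
    show cj (k * n0 * k⁻¹) (cj k (cj (n0 : G) U)) = U
    rw [← cj_mul, ← cj_mul, show k * n0 * k⁻¹ * k * (n0 : G) = k * (n0 * n0) by group, cj_mul,
      cj_eq_of_mem (D.QU hn0n0), hkU]
  have hπm : π m = π k' * ww * (π k')⁻¹ := by rw [hm, map_mul, map_mul, map_inv, hn0]
  -- `QL ≤ U1`
  have hQU1 : Q ≤ U1 := by
    intro q hq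
    rw [← hmU]
    have h1 := conj_mem' (D.LQ m.2) hq
    exact mem_cj.mpr (D.QU h1)
  -- diagonal
  have hdiag : ∀ c : L, cj (c : G) U = U → cj (c : G) U1 = U1 →
      ∃ t : Fˣ, π c = π k' * dg t * (π k')⁻¹ := by
    intro c hc hc1
    set d : L := k'⁻¹ * c * k' with hd
    have h1 : (π d).1 1 0 = 0 := by
      refine (D.normU d).mp ?_
      show cj (k⁻¹ * c * k) U = U
      rw [cj_mul, hkU, cj_mul, hc, hkU']
    have h2 : cj (d : G) (cj (n0 : G) U) = cj (n0 : G) U := by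
      show cj (k⁻¹ * c * k) (cj (n0 : G) U) = cj (n0 : G) U
      rw [cj_mul, cj_mul, ← hU1, hc1, hU1, cj_inv_cj]
    have h3 : (π d).1 0 1 = 0 := by
      have h4 : cj ((n0⁻¹ * d * n0 : L) : G) U = U := by
        show cj ((n0 : G)⁻¹ * d * n0) U = U
        rw [cj_mul, cj_mul, h2, cj_inv_cj]
      have h5 := (D.normU _).mp h4
      rw [map_mul, map_mul, map_inv, hn0, ww_inv] at h5
      simp only [mul_00, mul_01, mul_10, mul_11, ww_00, ww_01, ww_10, ww_11] at h5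
      simpa using h5
    obtain ⟨t, ht⟩ := eq_dg h3 h1
    refine ⟨t, ?_⟩
    rw [← ht, hd, map_mul, map_mul, map_inv]; group
  have hdiag' : ∀ (c : L) (t : Fˣ), π c = π k' * dg t * (π k')⁻¹ →
      cj (c : G) U = U ∧ cj (c : G) U1 = U1 := by
    intro c t hc
    set d : L := k'⁻¹ * c * k' with hd
    have hπd : π d = dg t := by rw [hd, map_mul, map_mul, map_inv, hc]; group
    have hcd : (c : G) = k * d * k⁻¹ := by
      show (c : G) = k * (k⁻¹ * c * k) * k⁻¹; group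
    have h1 : cj (d : G) U = U := (D.normU d).mpr (by rw [hπd]; rfl)
    have h2 : cj (d : G) (cj (n0 : G) U) = cj (n0 : G) U := by
      have h4 : cj ((n0⁻¹ * d * n0 : L) : G) U = U := by
        refine (D.normU _).mpr ?_
        rw [map_mul, map_mul, map_inv, hn0, ww_inv, hπd]
        simp only [mul_00, mul_01, mul_10, mul_11, ww_00, ww_01, ww_10, ww_11, dg_00, dg_01, dg_10,
          dg_11]
        simp
      have h5 : cj ((n0 : G)⁻¹ * d * n0) U = U := h4
      rw [cj_mul, cj_mul] at h5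
      have h6 := congrArg (cj (n0 : G)) h5
      rwa [cj_cj_inv] at h6
    constructor
    · rw [hcd, cj_mul, hkU', cj_mul, h1, hkU]
    · rw [hcd, hU1, cj_mul, cj_inv_cj, cj_mul, h2]
  -- `U ∩ N_L(U1) ≤ Q`
  have hinter : ∀ u ∈ U, cj u U1 = U1 → u ∈ Q := by
    intro u hu hu1
    obtain ⟨t, ht⟩ := hdiag ⟨u, D.UL hu⟩ (cj_eq_of_mem hu) hu1
    have h1 := D.eq_up (u := ⟨u, D.UL hu⟩) hu
    have h2 := D.eq_up (u := k') hk
    refine (D.ker ⟨u, D.UL hu⟩).mp ?_
    rw [h1, h2, up_inv] at ht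
    have h3 : up (-(π k').1 0 1) * up ((π ⟨u, D.UL hu⟩).1 0 1) * up ((π k').1 0 1) = dg t := by
      rw [ht, ← up_inv]; group
    rw [up_mul_up, up_mul_up] at h3
    have h4 := (SLTwo.ext_iff'.mp h3).2.1
    rw [up_01, dg_01] at h4
    have h5 : (π ⟨u, D.UL hu⟩).1 0 1 = 0 := by linear_combination h4
    rw [h1, h5, up_zero]
  have hborel : ∀ c : L, cj (c : G) U = U → cj (c : G) U1 = U1 → (c : G) ∈ Q ⊔ H := by
    intro c hc hc1
    have h1 := D.borel c ((D.normU c).mp hc)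
    rw [sup_comm] at h1
    obtain ⟨h, hh, u, hu, e⟩ := mem_sup_norm D.HU h1
    have h2 : cj u U1 = U1 := by
      have h3 : cj (h * u) U1 = U1 := by rw [← e]; exact hc1
      rw [cj_mul] at h3
      have h4 := congrArg (cj h⁻¹) h3
      rwa [cj_inv_cj, hHU1 h⁻¹ (inv_mem hh)] at h4
    rw [e]
    exact mul_mem (Subgroup.mem_sup_right hh) (Subgroup.mem_sup_left (hinter u hu h2))
  -- `H` normalises `Q`
  have hHQ : H ≤ Subgroup.normalizer (Q : Set G) := by
    refine le_normalizer_of fun a ha x hx => ?_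
    rw [mem_cj] at hx
    have hxU : x ∈ U := by
      have := conj_mem (D.HU ha) (D.QU hx)
      rwa [show a * (a⁻¹ * x * a) * a⁻¹ = x by group] at this
    refine hinter x hxU (cj_eq_of_mem ?_)
    have h1 := hQU1 hx
    rw [← hHU1 a ha]
    exact mem_cj.mpr h1
  -- `cj m H ≤ Q ⊔ H`
  have hmH : cj (m : G) H ≤ H ⊔ Q := by
    intro x hx
    rw [mem_cj] at hx
    set a := (m : G)⁻¹ * x * m with ha
    have hx' : x = m * a * (m : G)⁻¹ := by rw [ha]; group
    have hcL : m * a * (m : G)⁻¹ * a⁻¹ ∈ L := by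
      rw [show (m : G) * a * (m : G)⁻¹ * a⁻¹ = m * (a * (m : G)⁻¹ * a⁻¹) by group]
      exact mul_mem m.2 (conj_mem (D.HL hx) (inv_mem m.2))
    have haU : cj a U = U := mem_norm_iff.mp (D.HU hx)
    have haU' : cj a⁻¹ U = U := mem_norm_iff.mp (inv_mem (D.HU hx))
    have hmU' : cj (m : G)⁻¹ U = U1 := by rw [← hmU1, cj_inv_cj]
    have hmU1' : cj (m : G)⁻¹ U1 = U := by rw [← hmU, cj_inv_cj]
    have h1 : cj (m * a * (m : G)⁻¹ * a⁻¹) U = U := by
      rw [cj_mul, haU', cj_mul, hmU', cj_mul, hHU1 a hx, hmU1]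
    have h2 : cj (m * a * (m : G)⁻¹ * a⁻¹) U1 = U1 := by
      rw [cj_mul, hHU1 a⁻¹ (inv_mem hx), cj_mul, hmU1', cj_mul, haU, hmU]
    have h3 := hborel ⟨_, hcL⟩ h1 h2
    rw [sup_comm] at h3
    have h4 := mul_mem h3 (Subgroup.mem_sup_left (T := Q) hx)
    rw [hx']
    have e : (((⟨_, hcL⟩ : L) : G)) * a = m * a * (m : G)⁻¹ := by
      show m * a * (m : G)⁻¹ * a⁻¹ * a = m * a * (m : G)⁻¹
      group
    rwa [e] at h4
  have hQ2 : (Nat.card H).Coprime (Nat.card Q) := by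
    have : Fact (Nat.Prime 2) := ⟨Nat.prime_two⟩
    obtain ⟨k, hk⟩ := (IsPGroup.iff_card (p := 2)).mp (D.two.to_le D.QU)
    rw [hk]
    exact Nat.Coprime.pow_right k (Nat.coprime_two_right.mpr D.odd)
  have hQs : Group.IsSolvable Q := by
    have : Fact (Nat.Prime 2) := ⟨Nat.prime_two⟩
    have := (D.two.to_le D.QU).isNilpotent
    infer_instance
  obtain ⟨q, hq, hqH⟩ := Solvable.Glauberman.exists_conj_of_le_sup H Q hHQ hQ2 (Or.inr hQs)
    (cj (m : G) H) hmH (card_cj _ _)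
  have hqH' : cj q H = cj (m : G) H := hqH
  -- the element `n`
  have hqL : q ∈ L := D.QL hq
  set q' : L := ⟨q, hqL⟩ with hq'
  set n : L := q'⁻¹ * m with hn
  have hπq : π q' = 1 := (D.ker q').mpr hq
  have hπn : π n = π k' * ww * (π k')⁻¹ := by
    rw [hn, map_mul, map_inv, hπq, inv_one, one_mul, hπm]
  have hnH : cj (n : G) H = H := by
    show cj (q⁻¹ * m) H = H
    rw [cj_mul, ← hqH', cj_inv_cj]
  have hnU : cj (n : G) U = U1 := by
    show cj (q⁻¹ * m) U = U1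
    rw [cj_mul, hmU, cj_eq_of_mem (inv_mem (hQU1 hq))]
  have hnU1 : cj (n : G) U1 = U := by
    show cj (q⁻¹ * m) U1 = U
    rw [cj_mul, hmU1, cj_eq_of_mem (inv_mem (D.QU hq))]
  have hnn : (n : G) * n ∈ Q := by
    refine (D.ker (n * n)).mp ?_
    rw [map_mul, hπn, show π k' * ww * (π k')⁻¹ * (π k' * ww * (π k')⁻¹) =
      π k' * (ww * ww) * (π k')⁻¹ by group, ww_mul_ww, mul_one, mul_inv_cancel]
  have hHQ1 : ∀ x ∈ H, x ∈ Q → x = 1 := fun x hx hx' =>
    eq_one_of_odd_two D.odd (D.two.to_le D.QU) hx hx'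
  refine ⟨k', hk, n, ⟨D.UL, D.QU, D.LQ, n.2, ?_, ?_, ?_, ?_, ?_⟩, hnH, hnn, ?_, hπn, ?_, ?_, ?_, ?_⟩
  · -- transitivity
    intro g hg
    rcases D.trans0 hn0 ⟨g, hg⟩ with h | ⟨u, hu, h⟩
    · exact Or.inl h
    · right
      refine ⟨u * k⁻¹, mul_mem hu (inv_mem hk), ?_⟩
      rw [cj_mul, hnU, hU1, cj_mul u k⁻¹, cj_inv_cj, ← cj_mul]
      exact h
  · -- intersection
    rintro u ⟨hu, hu'⟩
    refine hinter u hu (cj_eq_of_mem ?_)
    rw [← hnU]; exact hu'
  · -- kernel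
    intro y hy hall
    have h1 := hall 1 (one_mem _)
    rw [cj_one] at h1
    have h2 := hall n n.2
    rw [hnU] at h2
    obtain ⟨t, ht⟩ := hdiag ⟨y, hy⟩ h1 h2
    -- conjugate by `v ∈ U` with `π v = up 1`
    obtain ⟨v, hv, hv1⟩ := D.exists_up 1
    set w : L := k' * v * k'⁻¹ with hw
    have h3 : cj y (cj ((w : G) * n) U) = cj ((w : G) * n) U := hall (w * n) (mul_mem w.2 n.2)
    have h4 : cj (w : G) U = U := cj_eq_of_mem (mul_mem (mul_mem hk hv) (inv_mem hk))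
    have hvv : (w : G) ∈ U := mul_mem (mul_mem hk hv) (inv_mem hk)
    have h5 : cj ((w : G)⁻¹ * y * w) U1 = U1 := by
      rw [cj_mul, cj_mul, ← hnU, ← cj_mul (w : G) (n : G) U, h3, cj_mul (w : G) (n : G) U,
        cj_inv_cj]
    have h6 : cj ((w : G)⁻¹ * y * w) U = U := by
      rw [cj_mul, h4, cj_mul, h1, cj_eq_of_mem (inv_mem hvv)]
    obtain ⟨s, hs⟩ := hdiag (w⁻¹ * ⟨y, hy⟩ * w) h6 h5
    have h7 : up (-1) * dg t * up 1 = dg s := by
      have e1 : π (w⁻¹ * ⟨y, hy⟩ * w) = π k' * (up (-1) * dg t * up 1) * (π k')⁻¹ := by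
        rw [map_mul, map_mul, map_inv, ht, hw, map_mul, map_mul, map_inv, hv1, ← up_inv]
        group
      rw [e1] at hs
      exact mul_left_cancel (mul_right_cancel hs)
    have h8 := (SLTwo.ext_iff'.mp h7).2.1
    simp only [mul_00, mul_01, mul_10, mul_11, up_00, up_01, up_10, up_11, dg_00, dg_01, dg_10,
      dg_11] at h8
    have h9 : (t : F) = ((t⁻¹ : Fˣ) : F) := by linear_combination h8
    have h10 : (t : F) * t = 1 := by
      nth_rewrite 2 [h9]; exact Units.mul_inv t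
    have h11 : t = 1 := by
      have h12 : ((t : F) - 1) * ((t : F) - 1) = 0 := by
        have h2' : (2 : F) = 0 := CharTwo.two_eq_zero
        linear_combination h10 + (1 - (t : F)) * h2'
      exact Units.ext (sub_eq_zero.mp (mul_self_eq_zero.mp h12))
    refine (D.ker ⟨y, hy⟩).mp ?_
    have hd1 : dg (1 : Fˣ) = 1 := by rw [SLTwo.ext_iff']; simp
    rw [ht, h11, hd1, mul_one, mul_inv_cancel]
  · -- generation
    rw [hnU]
    have hk1 : U ⊔ U1 = cj k (U ⊔ cj (n0 : G) U) := by rw [cj_sup, hkU]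
    have hQK : Q ≤ U ⊔ cj (n0 : G) U := D.QU.trans le_sup_left
    have h10 : ∀ g : L, (π g).1 1 0 ≠ 0 → (g : G) ∈ U ⊔ cj (n0 : G) U := by
      intro g hg
      have e := bruhat hg
      obtain ⟨a, ha, ha1⟩ := D.exists_up (((π g).1 0 0 - 1) / (π g).1 1 0)
      obtain ⟨b, hb, hb1⟩ := D.exists_up ((π g).1 1 0)
      obtain ⟨c, hc, hc1⟩ := D.exists_up (((π g).1 1 1 - 1) / (π g).1 1 0)
      set p : L := a * (n0 * b * n0⁻¹) * c with hp
      have hπ : π p = π g := by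
        rw [hp, map_mul, map_mul, map_mul, map_mul, map_inv, ha1, hb1, hc1, hn0, ww_inv, ww_up_ww]
        exact e.symm
      have hpK : (p : G) ∈ U ⊔ cj (n0 : G) U := by
        show (a : G) * (n0 * b * (n0 : G)⁻¹) * c ∈ _
        exact mul_mem (mul_mem (Subgroup.mem_sup_left ha)
          (Subgroup.mem_sup_right (conj_mem_cj hb))) (Subgroup.mem_sup_left hc)
      have hq : (p⁻¹ * g : L).1 ∈ Q := by
        refine (D.ker _).mp ?_
        rw [map_mul, map_inv, hπ, inv_mul_cancel]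
      have := mul_mem hpK (hQK hq)
      rwa [show (p : G) * (p⁻¹ * g : L).1 = g by
        show (p : G) * ((p : G)⁻¹ * g) = g; group] at this
    have hall : ∀ g : L, (g : G) ∈ U ⊔ cj (n0 : G) U := by
      intro g
      by_cases h : (π g).1 1 0 = 0
      · have hn0K : (n0 : G) ∈ U ⊔ cj (n0 : G) U := h10 n0 (by rw [hn0]; exact one_ne_zero)
        have h1 : (π (g * n0)).1 1 0 ≠ 0 := by
          rw [map_mul, hn0, mul_10, ww_00, ww_10, h, mul_zero, zero_add, mul_one]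
          intro h11
          have := det_eq (π g)
          rw [h, h11] at this
          simp at this
        have h2 := mul_mem (h10 _ h1) (inv_mem hn0K)
        rwa [Subgroup.coe_mul, mul_inv_cancel_right] at h2
      · exact h10 g h
    rw [hk1]
    intro g hg
    rw [mem_cj]
    exact hall (k'⁻¹ * ⟨g, hg⟩ * k')
  · -- `U/Q` abelian
    intro a ha b hb
    have h1 := D.eq_up (u := ⟨a, D.UL ha⟩) ha
    have h2 := D.eq_up (u := ⟨b, D.UL hb⟩) hb
    refine (D.ker (⟨a, D.UL ha⟩ * ⟨b, D.UL hb⟩ * ⟨a, D.UL ha⟩⁻¹ * ⟨b, D.UL hb⟩⁻¹)).mp ?_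
    rw [map_mul, map_mul, map_mul, map_inv, map_inv, h1, h2, up_inv, up_inv, up_mul_up, up_mul_up,
      up_mul_up, ← up_zero]
    congr 1
    ring
  · -- `n n` centralises `H`
    intro h hh
    have h1 : (n : G) * n * h * ((n : G) * n)⁻¹ * h⁻¹ ∈ H := by
      refine mul_mem ?_ (inv_mem hh)
      have h2 : cj ((n : G) * n) H = H := by rw [cj_mul, hnH, hnH]
      exact conj_mem (mem_norm_iff.mpr h2) hh
    have h2 : (n : G) * n * h * ((n : G) * n)⁻¹ * h⁻¹ ∈ Q := by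
      rw [show (n : G) * n * h * ((n : G) * n)⁻¹ * h⁻¹ =
        ((n : G) * n) * (h * ((n : G) * n)⁻¹ * h⁻¹) by group]
      exact mul_mem hnn (conj_mem (hHQ hh) (inv_mem hnn))
    have h3 := hHQ1 _ h1 h2
    calc (n : G) * n * h = ((n : G) * n * h * ((n : G) * n)⁻¹ * h⁻¹) * (h * ((n : G) * n)) := by
          group
      _ = h * ((n : G) * n) := by rw [h3, one_mul]
  · intro h hh
    exact hdiag h (mem_norm_iff.mp (D.HU hh)) (hHU1 _ hh)
  · -- all `t` occur
    intro t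
    obtain ⟨c, hc⟩ := D.surj (π k' * dg t * (π k')⁻¹)
    obtain ⟨h1, h2⟩ := hdiag' c t hc
    have h3 := hborel c h1 h2
    rw [sup_comm] at h3
    obtain ⟨h, hh, x, hx, e⟩ := mem_sup_norm hHQ h3
    have hhL : h ∈ L := by
      have := mul_mem c.2 (inv_mem (D.QL hx))
      rwa [e, mul_inv_cancel_right] at this
    refine ⟨⟨h, hhL⟩, hh, ?_⟩
    have e2 : c = ⟨h, hhL⟩ * ⟨x, D.QL hx⟩ := Subtype.ext e
    rw [← hc, e2, map_mul, (D.ker ⟨x, D.QL hx⟩).mpr hx, mul_one]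
  · -- inversion
    rintro h ⟨hh, hhL⟩
    obtain ⟨t, ht⟩ := hdiag ⟨h, hhL⟩ (mem_norm_iff.mp (D.HU hh)) (hHU1 _ hh)
    have h1 : (n : G) * h * (n : G)⁻¹ ∈ H := conj_mem (mem_norm_iff.mpr hnH) hh
    have h2 : (n : G) * h * (n : G)⁻¹ * h ∈ Q := by
      refine (D.ker (n * ⟨h, hhL⟩ * n⁻¹ * ⟨h, hhL⟩)).mp ?_
      rw [map_mul, map_mul, map_mul, map_inv, hπn, ht]
      have e := ww_dg_ww (F := F) t
      calc π k' * ww * (π k')⁻¹ * (π k' * dg t * (π k')⁻¹) * (π k' * ww * (π k')⁻¹)⁻¹ *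
            (π k' * dg t * (π k')⁻¹) = π k' * (ww * dg t * ww⁻¹ * dg t) * (π k')⁻¹ := by group
        _ = 1 := by rw [ww_inv, e]; group
    exact eq_inv_of_mul_eq_one_left (hHQ1 _ (mul_mem h1 hh) h2)
  · -- fixed points
    intro u hu hfix
    obtain ⟨t, ht1⟩ := h4
    obtain ⟨c, hc⟩ := D.surj (π k' * dg t * (π k')⁻¹)
    obtain ⟨h1, h2⟩ := hdiag' c t hc
    have h3 := hborel c h1 h2
    rw [sup_comm] at h3
    obtain ⟨h, hh, x, hx, e⟩ := mem_sup_norm hHQ h3
    have hhL : h ∈ L := by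
      have := mul_mem c.2 (inv_mem (D.QL hx))
      rwa [e, mul_inv_cancel_right] at this
    have e2 : c = ⟨h, hhL⟩ * ⟨x, D.QL hx⟩ := Subtype.ext e
    have hπh : π ⟨h, hhL⟩ = π k' * dg t * (π k')⁻¹ := by
      rw [← hc, e2, map_mul, (D.ker ⟨x, D.QL hx⟩).mpr hx, mul_one]
    have h5 := hfix h ⟨hh, hhL⟩
    have h6 := (D.ker (⟨h, hhL⟩ * ⟨u, D.UL hu⟩ * ⟨h, hhL⟩⁻¹ * ⟨u, D.UL hu⟩⁻¹)).mpr h5
    have h7 := D.eq_up (u := ⟨u, D.UL hu⟩) hu
    have h8 := D.eq_up (u := k') hk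
    set b := (π ⟨u, D.UL hu⟩).1 0 1 with hb
    set a := (π k').1 0 1 with ha
    rw [map_mul, map_mul, map_mul, map_inv, map_inv, hπh, h7, h8] at h6
    have h9 : up a * (dg t * up b * (dg t)⁻¹) * (up a)⁻¹ * (up b)⁻¹ = 1 := by
      rw [← h6]
      have hab : (up a)⁻¹ * up b * up a = up b := by
        rw [up_inv, up_mul_up, up_mul_up]; congr 1; ring
      calc up a * (dg t * up b * (dg t)⁻¹) * (up a)⁻¹ * (up b)⁻¹
          = up a * (dg t * ((up a)⁻¹ * up b * up a) * (dg t)⁻¹) * (up a)⁻¹ * (up b)⁻¹ := by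
            rw [hab]
        _ = _ := by group
    rw [dg_up, up_inv, up_inv, up_mul_up, up_mul_up, up_mul_up, ← up_zero] at h9
    have h10 := (SLTwo.ext_iff'.mp h9).2.1
    rw [up_01, up_01] at h10
    have h11 : ((t : F) ^ 2 - 1) * b = 0 := by linear_combination h10
    rcases mul_eq_zero.mp h11 with h12 | h12
    · exfalso
      apply ht1
      have h13 : ((t : F) - 1) * ((t : F) - 1) = 0 := by
        have h2' : (2 : F) = 0 := CharTwo.two_eq_zero
        linear_combination h12 + (1 - (t : F)) * h2'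
      exact Units.ext (sub_eq_zero.mp (mul_self_eq_zero.mp h13))
    · refine (D.ker ⟨u, D.UL hu⟩).mp ?_
      rw [h7, h12, up_zero]

end SLPar

end Cfsg.Agent.RankTwoClose

end

section


/-!
# Borel subgroups: the Hall `2'`-subgroup, Sylow statements and the choice of the basis

`SLPre L U Q π`: `π : L → SL(2, F)` onto, kernel `Q`, `U` = preimage of the upper unitriangular group.
-/

set_option autoImplicit false
set_option linter.unusedSectionVars false

namespace Cfsg.Agent.RankTwoClose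

open SLTwo UFour

variable {G : Type*} [Group G]

/-! ### Odd index -/

theorem odd_relIndex_of_pow [Finite G] {U B : Subgroup G} 
    (hB : B ≤ Subgroup.normalizer (U : Set G)) (h : ∀ b ∈ B, ∃ k : ℕ, Odd k ∧ b ^ k ∈ U) :
    Odd (U.relIndex B) := by
  have hn : (U.subgroupOf B).Normal := by
    constructor
    intro x hx g
    rw [Subgroup.mem_subgroupOf] at hx ⊢
    exact conj_mem (hB g.2) hx
  by_contra hodd
  rw [Nat.not_odd_iff_even, even_iff_two_dvd] at hodd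
  have : Fact (Nat.Prime 2) := ⟨Nat.prime_two⟩
  have h2 : 2 ∣ Nat.card (B ⧸ U.subgroupOf B) := hodd
  obtain ⟨x, hx⟩ := exists_prime_orderOf_dvd_card' 2 h2
  obtain ⟨b, rfl⟩ := QuotientGroup.mk_surjective x
  obtain ⟨k, hk, hbk⟩ := h b b.2
  have h3 : ((b : B ⧸ U.subgroupOf B)) ^ k = 1 := by
    rw [← QuotientGroup.mk_pow, QuotientGroup.eq_one_iff, Subgroup.mem_subgroupOf]
    simpa using hbk
  have h4 := orderOf_dvd_of_pow_eq_one h3
  rw [hx] at h4
  exact (Nat.not_even_iff_odd.mpr hk) (even_iff_two_dvd.mpr h4)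

theorem mul_pow_mem {B : Subgroup G} {x y : G} (hx : x ∈ Subgroup.normalizer (B : Set G))
    (hy : y ∈ B) (k : ℕ) : ∃ z ∈ B, (x * y) ^ k = x ^ k * z := by
  induction k with
  | zero => exact ⟨1, one_mem _, by simp⟩
  | succ k ih =>
    obtain ⟨z, hz, e⟩ := ih
    refine ⟨x⁻¹ * z * x * y, mul_mem (conj_mem' hx hz) hy, ?_⟩
    rw [pow_succ, e, pow_succ]
    group

theorem odd_pow_sup {U B1 B2 : Subgroup G} (hN : B2 ≤ Subgroup.normalizer (B1 : Set G))
    (h1 : ∀ b ∈ B1, ∃ k : ℕ, Odd k ∧ b ^ k ∈ U) (h2 : ∀ b ∈ B2, ∃ k : ℕ, Odd k ∧ b ^ k ∈ B1) :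
    ∀ b ∈ B2 ⊔ B1, ∃ k : ℕ, Odd k ∧ b ^ k ∈ U := by
  intro b hb
  obtain ⟨x, hx, y, hy, rfl⟩ := mem_sup_norm hN hb
  obtain ⟨k, hk, hxk⟩ := h2 x hx
  obtain ⟨z, hz, e⟩ := mul_pow_mem (hN hx) hy k
  have h3 : (x * y) ^ k ∈ B1 := by rw [e]; exact mul_mem hxk hz
  obtain ⟨l, hl, h4⟩ := h1 _ h3
  exact ⟨k * l, hk.mul hl, by rwa [pow_mul]⟩

/-- Schur–Zassenhaus in a subgroup. -/
theorem exists_hall [Finite G] {U B : Subgroup G} (hU : U ≤ B)
    (hB : B ≤ Subgroup.normalizer (U : Set G)) (h2 : IsPGroup 2 U) (hodd : Odd (U.relIndex B)) :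
    ∃ H : Subgroup G, H ≤ B ∧ Odd (Nat.card H) ∧ U ⊔ H = B := by
  have hn : (U.subgroupOf B).Normal := by
    constructor
    intro x hx g
    rw [Subgroup.mem_subgroupOf] at hx ⊢
    exact conj_mem (hB g.2) hx
  have hc : (Nat.card (U.subgroupOf B)).Coprime (U.subgroupOf B).index := by
    have : Fact (Nat.Prime 2) := ⟨Nat.prime_two⟩
    obtain ⟨k, hk⟩ := (IsPGroup.iff_card (p := 2)).mp h2
    have e : Nat.card (U.subgroupOf B) = Nat.card U :=
      Nat.card_congr (Subgroup.subgroupOfEquivOfLe hU).toEquiv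
    rw [e, hk]
    exact Nat.Coprime.pow_left k (Nat.coprime_two_left.mpr hodd)
  obtain ⟨H', hH'⟩ := Subgroup.exists_right_complement'_of_coprime hc
  refine ⟨H'.map B.subtype, Subgroup.map_subtype_le _, ?_, ?_⟩
  · have e : Nat.card (H'.map B.subtype) = Nat.card H' :=
      (Nat.card_congr (H'.equivMapOfInjective B.subtype B.subtype_injective).toEquiv).symm
    rw [e, ← hH'.symm.index_eq_card]
    exact hodd
  · have h1 := congrArg (Subgroup.map B.subtype) hH'.sup_eq_top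
    rw [Subgroup.map_sup, Subgroup.map_subgroupOf_eq_of_le hU] at h1
    rw [h1, ← MonoidHom.range_eq_map, Subgroup.range_subtype]

/-! ### `SL(2, F)` -/

variable {F : Type*} [Field F]

namespace SLTwo

theorem pow_low {g : SL F} (h : g.1 1 0 = 0) (k : ℕ) :
    (g ^ k).1 1 0 = 0 ∧ (g ^ k).1 0 0 = (g.1 0 0) ^ k := by
  induction k with
  | zero => exact ⟨rfl, by rw [pow_zero, pow_zero]; rfl⟩
  | succ k ih =>
    rw [pow_succ, mul_10, mul_00, h, ih.1, ih.2, pow_succ]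
    constructor <;> ring

theorem odd_card_units [CharP F 2] [Finite F] : Odd (Nat.card Fˣ) := by
  by_contra hodd
  rw [Nat.not_odd_iff_even, even_iff_two_dvd] at hodd
  have : Fact (Nat.Prime 2) := ⟨Nat.prime_two⟩
  obtain ⟨t, ht⟩ := exists_prime_orderOf_dvd_card' 2 hodd
  have h1 : t ^ 2 = 1 := by rw [← ht]; exact pow_orderOf_eq_one t
  have h2 : t = 1 := by
    have h3 : ((t : F)) ^ 2 = 1 := by rw [← Units.val_pow_eq_pow_val, h1]; rfl
    have h12 : ((t : F) - 1) * ((t : F) - 1) = 0 := by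
      have h2' : (2 : F) = 0 := CharTwo.two_eq_zero
      linear_combination h3 + (1 - (t : F)) * h2'
    exact Units.ext (sub_eq_zero.mp (mul_self_eq_zero.mp h12))
  rw [h2, orderOf_one] at ht
  exact absurd ht (by norm_num)

/-- An element of odd power in the upper unitriangular group. -/
theorem pow_card {g : SL F} [Finite F] (h : g.1 1 0 = 0) :
    (g ^ Nat.card Fˣ).1 0 0 = 1 ∧ (g ^ Nat.card Fˣ).1 1 0 = 0 := by
  obtain ⟨h1, h2⟩ := pow_low h (Nat.card Fˣ)
  refine ⟨?_, h1⟩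
  rw [h2]
  have hd := det_eq g
  rw [h, mul_zero, sub_zero] at hd
  have h3 : (Units.mkOfMulEqOne _ _ hd) ^ Nat.card Fˣ = 1 := pow_card_eq_one'
  have h4 := congrArg Units.val h3
  rw [Units.val_pow_eq_pow_val] at h4
  exact h4

end SLTwo

/-- `L/Q = SL(2, F)`, `U` the preimage of the upper unitriangular group. -/
structure SLPre (L U Q : Subgroup G) (π : L →* SL F) : Prop where
  surj : Function.Surjective π
  ker : ∀ x : L, π x = 1 ↔ (x : G) ∈ Q
  QL : Q ≤ L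
  UL : U ≤ L
  memU : ∀ x : L, (x : G) ∈ U ↔ (π x).1 0 0 = 1 ∧ (π x).1 1 0 = 0
  two : IsPGroup 2 U

namespace SLPre

variable {L U Q H : Subgroup G} {π : L →* SL F} [CharP F 2] (D : SLPre L U Q π)

include D in
theorem toPar (hodd : Odd (Nat.card H)) (HL : H ≤ Subgroup.normalizer (L : Set G))
    (HU : H ≤ Subgroup.normalizer (U : Set G))
    (hb : ∀ x : L, (π x).1 1 0 = 0 → (x : G) ∈ U ⊔ H) : SLPar L U Q H π :=
  { D with odd := hodd, HL := HL, HU := HU, borel := hb }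

include D

theorem QU : Q ≤ U := fun q hq => by
  have h1 := (D.ker ⟨q, D.QL hq⟩).mpr hq
  exact (D.memU ⟨q, D.QL hq⟩).mpr (by rw [h1]; exact ⟨one_00, one_10⟩)

theorem eq_up {u : L} (hu : (u : G) ∈ U) : π u = up ((π u).1 0 1) := by
  obtain ⟨h1, h2⟩ := (D.memU u).mp hu
  exact SLTwo.ext_iff'.mpr ⟨h1, rfl, h2, by
    have := det_eq (π u)
    rw [h1, h2] at this
    simpa using this⟩

theorem normU (x : L) : cj (x : G) U = U ↔ (π x).1 1 0 = 0 := by
  constructor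
  · intro h
    obtain ⟨u, hu1⟩ := D.surj (up 1)
    have hu : (u : G) ∈ U := (D.memU u).mpr (by rw [hu1]; exact ⟨rfl, rfl⟩)
    have h1 : (x : G) * u * (x : G)⁻¹ ∈ U := by
      rw [← h]; exact conj_mem_cj hu
    have h2 := ((D.memU (x * u * x⁻¹)).mp h1).2
    rw [map_mul, map_mul, map_inv, hu1] at h2
    exact lower_zero h2
  · intro h
    rw [← mem_norm_iff]
    have key : ∀ y : L, (π y).1 1 0 = 0 → ∀ u ∈ U, (y : G) * u * (y : G)⁻¹ ∈ U := by
      intro y hy u hu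
      have hd := det_eq (π y)
      rw [hy, mul_zero, sub_zero] at hd
      refine (D.memU (y * ⟨u, D.UL hu⟩ * y⁻¹)).mpr ?_
      rw [map_mul, map_mul, map_inv, D.eq_up (u := ⟨u, D.UL hu⟩) hu]
      simp only [mul_00, mul_01, mul_10, mul_11, inv_00, inv_10, up_00, up_01,
        up_10, up_11]
      rw [hy]
      constructor
      · linear_combination hd
      · ring
    rw [Subgroup.mem_normalizer_iff]
    intro g
    refine ⟨key x h g, fun hg => ?_⟩
    have h2 : (π x⁻¹).1 1 0 = 0 := by rw [map_inv, inv_10, h, neg_zero]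
    have := key x⁻¹ h2 _ hg
    rwa [show ((x⁻¹ : L) : G) * ((x : G) * g * (x : G)⁻¹) * ((x⁻¹ : L) : G)⁻¹ = g by
      rw [Subgroup.coe_inv]; group] at this

/-- Elements of `N_L(U)` have an odd power in `U`. -/
theorem odd_pow [Finite F] : ∀ b ∈ L ⊓ Subgroup.normalizer (U : Set G),
    ∃ k : ℕ, Odd k ∧ b ^ k ∈ U := by
  rintro b ⟨hb, hbU⟩
  refine ⟨Nat.card Fˣ, odd_card_units, ?_⟩
  have h1 := (D.normU ⟨b, hb⟩).mp (mem_norm_iff.mp hbU)
  obtain ⟨h2, h3⟩ := pow_card h1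
  rw [← map_pow] at h2 h3
  exact (D.memU (⟨b, hb⟩ ^ Nat.card Fˣ)).mpr ⟨h2, h3⟩

/-- `U` is a Sylow `2`-subgroup of `L`. -/
theorem sylow [Finite G] [Finite F] {R : Subgroup G} (hR : IsPGroup 2 R) (hUR : U ≤ R)
    (hRL : R ≤ L) : R ≤ U := by
  by_contra hcon
  have : Fact (Nat.Prime 2) := ⟨Nat.prime_two⟩
  have hnil := hR.isNilpotent
  have h1 : U.subgroupOf R < ⊤ := by
    rw [lt_top_iff_ne_top]
    intro h
    exact hcon (Subgroup.subgroupOf_eq_top.mp h)
  have h2 := Group.normalizerCondition_of_isNilpotent _ h1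
  obtain ⟨r, hr, hr'⟩ := SetLike.exists_of_lt h2
  rw [Subgroup.mem_subgroupOf] at hr'
  apply hr'
  have hrN : (r : G) ∈ Subgroup.normalizer (U : Set G) := by
    rw [Subgroup.mem_normalizer_iff] at hr ⊢
    intro g
    constructor
    · intro hg
      have := (hr ⟨g, hUR hg⟩).mp (Subgroup.mem_subgroupOf.mpr hg)
      exact Subgroup.mem_subgroupOf.mp this
    · intro hg
      have hgR : g ∈ R := by
        have := mul_mem (mul_mem (inv_mem r.2) (hUR hg)) r.2
        rwa [show (r : G)⁻¹ * ((r : G) * g * (r : G)⁻¹) * r = g by group] at this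
      have := (hr ⟨g, hgR⟩).mpr (Subgroup.mem_subgroupOf.mpr hg)
      exact Subgroup.mem_subgroupOf.mp this
  obtain ⟨k, hk, hkU⟩ := D.odd_pow r ⟨hRL r.2, hrN⟩
  obtain ⟨l, hl⟩ := hR r
  have hl' : (r : G) ^ 2 ^ l = 1 := by
    have := congrArg Subtype.val hl
    simpa using this
  have hco : Nat.Coprime k (2 ^ l) := Nat.Coprime.pow_right l (Nat.coprime_two_right.mpr hk)
  have e : (r : G) = ((r : G) ^ k) ^ (Nat.gcdA k (2 ^ l)) := by
    have hb := Nat.gcd_eq_gcd_ab k (2 ^ l)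
    rw [hco] at hb
    calc (r : G) = (r : G) ^ ((1 : ℕ) : ℤ) := by simp
      _ = (r : G) ^ ((k : ℤ) * Nat.gcdA k (2 ^ l) + ((2 ^ l : ℕ) : ℤ) * Nat.gcdB k (2 ^ l)) := by
        rw [hb]
      _ = _ := by
        rw [zpow_add, zpow_mul, zpow_mul, zpow_natCast, zpow_natCast, hl', one_zpow, mul_one]
  rw [e]
  exact zpow_mem hkU _

/-- `Q = O_2(L)`. -/
theorem le_Q [Finite G] [Finite F] {R : Subgroup G} (hR : IsPGroup 2 R) (hRL : R ≤ L)
    (hn : L ≤ Subgroup.normalizer (R : Set G)) : R ≤ Q := by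
  have h1 : IsPGroup 2 (U ⊔ R : Subgroup G) := IsPGroup.to_sup_of_normal_right' D.two hR
    (D.UL.trans hn)
  have h2 : R ≤ U := le_sup_right.trans (D.sylow h1 le_sup_left (sup_le D.UL hRL))
  intro r hr
  obtain ⟨n, hn0⟩ := D.surj (ww : SL F)
  have h3 : ((n * ⟨r, hRL hr⟩ * n⁻¹ : L) : G) ∈ U := h2 (conj_mem (hn n.2) hr)
  have h4 := ((D.memU _).mp h3).2
  have h5 := D.eq_up (u := ⟨r, hRL hr⟩) (h2 hr)
  rw [map_mul, map_mul, map_inv, hn0, h5, ww_inv, ww_up_ww, dn_10] at h4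
  refine (D.ker ⟨r, hRL hr⟩).mp ?_
  rw [h5, h4, up_zero]

end SLPre

/-! ### The choice of the basis -/

theorem exists_basis {v : Fin 2 → F} (hv : v ≠ 0) [CharP F 2] :
    ∃ k : SL F, k.1 0 0 = v 0 ∧ k.1 1 0 = v 1 := by
  by_cases h0 : v 0 = 0
  · have h1 : v 1 ≠ 0 := by
      intro h1
      apply hv
      funext i
      fin_cases i
      · exact h0
      · exact h1
    refine ⟨⟨!![v 0, (v 1)⁻¹; v 1, 0], ?_⟩, rfl, rfl⟩
    rw [Matrix.det_fin_two_of, mul_zero, inv_mul_cancel₀ h1, zero_sub]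
    exact CharTwo.neg_eq 1
  · refine ⟨⟨!![v 0, 0; v 1, (v 0)⁻¹], ?_⟩, rfl, rfl⟩
    rw [Matrix.det_fin_two_of, zero_mul, sub_zero, mul_inv_cancel₀ h0]

/-- For a Sylow `2`-subgroup `U` of `L` the basis can be chosen such that `U` is the preimage of the
upper unitriangular group. -/
theorem exists_pre [Finite G] [Finite F] [CharP F 2] {L U Q : Subgroup G} (π : L →* SL F)
    (hsurj : Function.Surjective π) (hker : ∀ x : L, π x = 1 ↔ (x : G) ∈ Q) (QU : Q ≤ U)
    (UL : U ≤ L) (two : IsPGroup 2 U)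
    (hsyl : ∀ R : Subgroup G, IsPGroup 2 R → U ≤ R → R ≤ L → R ≤ U) :
    ∃ g : SL F, SLPre L U Q ((MulAut.conj g).toMonoidHom.comp π) := by
  have : Fact (Nat.Prime 2) := ⟨Nat.prime_two⟩
  let act : MulAction U (Fin 2 → F) :=
    { smul := fun u v => (π ⟨u, UL u.2⟩).1.mulVec v
      one_smul := fun v => by
        show (π ⟨((1 : U) : G), UL (1 : U).2⟩).1.mulVec v = v
        have e : (⟨((1 : U) : G), UL (1 : U).2⟩ : L) = 1 := rfl
        rw [e, map_one]
        exact Matrix.one_mulVec v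
      mul_smul := fun a b v => by
        show (π ⟨((a * b : U) : G), UL (a * b).2⟩).1.mulVec v =
          (π ⟨a, UL a.2⟩).1.mulVec ((π ⟨b, UL b.2⟩).1.mulVec v)
        have e : (⟨((a * b : U) : G), UL (a * b).2⟩ : L) = ⟨a, UL a.2⟩ * ⟨b, UL b.2⟩ := rfl
        rw [e, map_mul, SLTwo.mul_val, Matrix.mulVec_mulVec] }
  have h2 : 2 ∣ Nat.card (Fin 2 → F) := by
    have h3 : 2 ∣ Nat.card F := by
      have := Fintype.ofFinite F
      rw [Nat.card_eq_fintype_card]
      exact (CharP.cast_eq_zero_iff F 2 _).mp (Nat.cast_card_eq_zero F)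
    rw [Nat.card_fun]
    exact dvd_pow h3 (by simp)
  have h0 : (0 : Fin 2 → F) ∈ @MulAction.fixedPoints U (Fin 2 → F) _ act := by
    intro u
    exact Matrix.mulVec_zero _
  obtain ⟨v, hv, hv0⟩ := @IsPGroup.exists_fixed_point_of_prime_dvd_card_of_fixed_point 2 U _ two _
    (Fin 2 → F) act _ h2 _ h0
  obtain ⟨k, hk0, hk1⟩ := exists_basis (v := v) hv0.symm
  have hfix : ∀ u : L, (u : G) ∈ U → (k⁻¹ * π u * k).1 0 0 = 1 ∧ (k⁻¹ * π u * k).1 1 0 = 0 := by
    intro u hu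
    have h3 : (π u).1.mulVec v = v := hv ⟨u, hu⟩
    have h4 : (π u).1 0 0 * v 0 + (π u).1 0 1 * v 1 = v 0 := by
      have := congrFun h3 0
      rwa [Matrix.mulVec, dotProduct, Fin.sum_univ_two] at this
    have h5 : (π u).1 1 0 * v 0 + (π u).1 1 1 * v 1 = v 1 := by
      have := congrFun h3 1
      rwa [Matrix.mulVec, dotProduct, Fin.sum_univ_two] at this
    have hd := det_eq k
    rw [← hk0, ← hk1] at h4 h5
    simp only [mul_00, mul_01, mul_10, mul_11, inv_00, inv_01, inv_10, inv_11]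
    constructor
    · linear_combination k.1 1 1 * h4 - k.1 0 1 * h5 + hd
    · linear_combination -k.1 1 0 * h4 + k.1 0 0 * h5
  have hval : ∀ x : L, ((MulAut.conj k⁻¹).toMonoidHom.comp π) x = k⁻¹ * π x * k := fun x => by
    show k⁻¹ * π x * k⁻¹⁻¹ = _
    rw [inv_inv]
  refine ⟨k⁻¹, ?_, ?_, QU.trans UL, UL, ?_, two⟩
  · exact (MulAut.conj k⁻¹).surjective.comp hsurj
  · intro x
    rw [← hker, hval]
    constructor
    · intro h
      have : π x = k * (k⁻¹ * π x * k) * k⁻¹ := by group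
      rw [this, h, mul_one, mul_inv_cancel]
    · intro h
      rw [h, mul_one, inv_mul_cancel]
  · intro x
    rw [hval]
    constructor
    · exact hfix x
    · intro hx
      -- the preimage of the unitriangular group
      let R : Subgroup G :=
        { carrier := {y | ∃ h : y ∈ L, (k⁻¹ * π ⟨y, h⟩ * k).1 0 0 = 1 ∧
            (k⁻¹ * π ⟨y, h⟩ * k).1 1 0 = 0}
          one_mem' := by
            refine ⟨one_mem _, ?_⟩
            have e : (⟨1, one_mem L⟩ : L) = 1 := rfl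
            rw [e, map_one, mul_one, inv_mul_cancel]
            exact ⟨one_00, one_10⟩
          mul_mem' := by
            rintro a b ⟨ha, ha0, ha1⟩ ⟨hb, hb0, hb1⟩
            refine ⟨mul_mem ha hb, ?_⟩
            have e : (⟨a * b, mul_mem ha hb⟩ : L) = ⟨a, ha⟩ * ⟨b, hb⟩ := rfl
            rw [e, map_mul, show k⁻¹ * (π ⟨a, ha⟩ * π ⟨b, hb⟩) * k =
              (k⁻¹ * π ⟨a, ha⟩ * k) * (k⁻¹ * π ⟨b, hb⟩ * k) by group, mul_00 (k⁻¹ * π ⟨a, ha⟩ * k),
              mul_10 (k⁻¹ * π ⟨a, ha⟩ * k), ha0, ha1, hb0, hb1]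
            constructor <;> ring
          inv_mem' := by
            rintro a ⟨ha, ha0, ha1⟩
            refine ⟨inv_mem ha, ?_⟩
            have e : (⟨a⁻¹, inv_mem ha⟩ : L) = ⟨a, ha⟩⁻¹ := rfl
            have hd := det_eq (k⁻¹ * π ⟨a, ha⟩ * k)
            rw [ha0, ha1] at hd
            rw [e, map_inv, show k⁻¹ * (π ⟨a, ha⟩)⁻¹ * k = (k⁻¹ * π ⟨a, ha⟩ * k)⁻¹ by group,
              inv_00, inv_10, ha1]
            constructor
            · linear_combination hd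
            · ring }
      have hRL : R ≤ L := fun y hy => hy.1
      have hUR : U ≤ R := fun y hy => ⟨UL hy, hfix ⟨y, UL hy⟩ hy⟩
      have hR2 : IsPGroup 2 R := by
        rintro ⟨y, hy, hy0, hy1⟩
        have e1 : k⁻¹ * π ⟨y, hy⟩ * k = up _ := eq_up hy0 hy1
        have e2 : (k⁻¹ * π ⟨y, hy⟩ * k) * (k⁻¹ * π ⟨y, hy⟩ * k) = 1 := by
          rw [e1, up_mul_up, CharTwo.add_self_eq_zero, up_zero]
        have e3 : π (⟨y, hy⟩ * ⟨y, hy⟩) = 1 := by
          have : π ⟨y, hy⟩ * π ⟨y, hy⟩ =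
            k * ((k⁻¹ * π ⟨y, hy⟩ * k) * (k⁻¹ * π ⟨y, hy⟩ * k)) * k⁻¹ := by group
          rw [map_mul, this, e2, mul_one, mul_inv_cancel]
        have e4 : y * y ∈ U := QU ((hker _).mp e3)
        obtain ⟨l, hl⟩ := two ⟨y * y, e4⟩
        have hl' : (y * y) ^ 2 ^ l = 1 := congrArg Subtype.val hl
        refine ⟨l + 1, Subtype.ext ?_⟩
        show y ^ 2 ^ (l + 1) = 1
        rw [pow_succ, mul_comm, pow_mul, pow_two]
        exact hl'
      exact hsyl R hR2 hUR hRL ⟨x.2, hx⟩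

end Cfsg.Agent.RankTwoClose

end

section


/-!
# Type `U4(q)`: the data from the two parabolics

`L1/V = SL(2, q²)` on the natural `O4^-(q)`-module `V` (`Model`), `L2/Q = SL(2, F)` (`SLPre`), with the
same Sylow `2`-subgroup `U`, each Borel subgroup normalising the other parabolic: then there are
`H ≤ L1 L2`, `A0`, `n1`, `n2` with `Data`.
-/

set_option autoImplicit false
set_option linter.unusedSectionVars false

namespace Cfsg.Agent.RankTwoClose

open SLTwo UFour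

variable {G : Type*} [Group G]

namespace SLPre

variable {F : Type*} [Field F] [CharP F 2] {L U Q H : Subgroup G} {π : L →* SL F}
  (D : SLPre L U Q π)
include D

theorem LQ : L ≤ Subgroup.normalizer (Q : Set G) := by
  refine le_normalizer_of fun g hg x hx => ?_
  rw [mem_cj] at hx
  have h1 := (D.ker ⟨_, D.QL hx⟩).mpr hx
  have hxL : x ∈ L := by
    have := mul_mem (mul_mem hg (D.QL hx)) (inv_mem hg)
    rwa [show g * (g⁻¹ * x * g) * g⁻¹ = x by group] at this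
  have e : (⟨x, hxL⟩ : L) = ⟨g, hg⟩ * ⟨_, D.QL hx⟩ * ⟨g, hg⟩⁻¹ := Subtype.ext (by
    show x = g * (g⁻¹ * x * g) * g⁻¹; group)
  refine (D.ker ⟨x, hxL⟩).mp ?_
  rw [e, map_mul, map_mul, h1, mul_one, map_inv, mul_inv_cancel]

/-- `N(L) ≤ N(Q)`. -/
theorem norm_Q [Finite G] [Finite F] {g : G} (hg : g ∈ Subgroup.normalizer (L : Set G)) :
    g ∈ Subgroup.normalizer (Q : Set G) := by
  rw [mem_norm_iff]
  refine Subgroup.eq_of_le_of_card_ge (D.le_Q (isPGroup_cj (D.two.to_le D.QU)) ?_ ?_)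
    (card_cj _ _).ge
  · have := cj_mono (g := g) D.QL
    rwa [mem_norm_iff.mp hg] at this
  · intro x hx
    refine norm_cj (D.LQ ?_)
    exact conj_mem' hg hx

/-- An element commuting with a torus element has lower entry zero. -/
theorem low_of_comm {x k : L} (hk : (k : G) ∈ U) {t : Fˣ} (ht : t ≠ 1)
    (h : π x * (π k * dg t * (π k)⁻¹) = (π k * dg t * (π k)⁻¹) * π x) : (π x).1 1 0 = 0 := by
  have ek := D.eq_up hk
  set a := (π k).1 0 1
  rw [ek, up_inv] at h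
  have h1 : up (-a) * π x * up a * dg t = dg t * (up (-a) * π x * up a) := by
    have e : up (-a) = (up a)⁻¹ := (up_inv a).symm
    rw [e] at h ⊢
    calc (up a)⁻¹ * π x * up a * dg t
        = (up a)⁻¹ * (π x * (up a * dg t * (up a)⁻¹)) * up a := by group
      _ = (up a)⁻¹ * ((up a * dg t * (up a)⁻¹) * π x) * up a := by rw [h]
      _ = _ := by group
  have h2 := (SLTwo.ext_iff'.mp h1).2.2.1
  simp only [mul_00, mul_01, mul_10, mul_11, up_00, up_01, up_10, up_11, dg_00, dg_01, dg_10,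
    dg_11] at h2
  have h3 : ((t : F) - ((t⁻¹ : Fˣ) : F)) * (π x).1 1 0 = 0 := by linear_combination h2
  rcases mul_eq_zero.mp h3 with h4 | h4
  · exfalso
    apply ht
    have h10 : (t : F) * t = 1 := by
      nth_rewrite 2 [sub_eq_zero.mp h4]; exact Units.mul_inv t
    have h12 : ((t : F) - 1) * ((t : F) - 1) = 0 := by
      have h2' : (2 : F) = 0 := CharTwo.two_eq_zero
      linear_combination h10 + (1 - (t : F)) * h2'
    exact Units.ext (sub_eq_zero.mp (mul_self_eq_zero.mp h12))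
  · exact h4

end SLPre

namespace UFour

namespace PartOne

variable {V U Z Y L1 H1 A0 : Subgroup G} {n1 : G} (P : PartOne V U Z Y L1 H1 A0 n1)
include P

theorem cent_U {u : G} (hu : u ∈ U) (h : ∀ a ∈ H1, a * u = u * a) : u = 1 := by
  have h1 : u ∈ V := P.fixU u hu fun a ha => by
    rw [h a (P.AH ha)]
    have : u * a * a⁻¹ * u⁻¹ = 1 := by group
    rw [this]; exact one_mem _
  have h2 : u ∈ Y := P.fixE u h1 fun a ha => by
    rw [h a ha]
    have : u * a * a⁻¹ * u⁻¹ = 1 := by group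
    rw [this]; exact one_mem _
  have h3 : u ∈ Z := P.fixY u h2 fun a ha => h a (P.AH ha)
  by_contra hu1
  have key : ∀ c ∈ Z, c ≠ 1 → c = u := by
    intro c hc hc1
    obtain ⟨a, ha, e⟩ := P.transZ u h3 c hc hu1 hc1
    rw [← e, h a ha]; group
  obtain ⟨a, ha, b, hb, ha1, hb1, hab⟩ := P.Zbig
  exact hab ((key a ha ha1).trans (key b hb hb1).symm)

end PartOne

theorem Model.toPre {K : Type*} [Field K] [CharP K 2] {s : K ≃+* K} {V L : Subgroup G}
    (m : Model K s V L) (h2 : IsPGroup 2 m.U) : SLPre L m.U V m.π where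
  surj := m.surj
  ker := m.ker
  QL := m.le
  UL := by
    rintro _ ⟨y, rfl, -⟩
    exact y.2
  memU x := by
    rw [Model.mem_U]
    constructor
    · rintro ⟨h1, h2, -⟩
      exact ⟨h1, h2⟩
    · rintro ⟨h1, h2⟩
      refine ⟨h1, h2, ?_⟩
      have := det_eq (m.π x)
      rw [h1, h2] at this
      show (m.π x).1 1 1 = 1
      simpa using this
  two := h2

/-- **The data of type `U4(q)` from the two parabolics**, with the first parabolic's facts. -/
theorem exists_data' [Finite G] {K F : Type*} [Field K] [Finite K] [CharP K 2] [Field F] [Finite F]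
    [CharP F 2] {s : K ≃+* K} (hs : ∀ k, s (s k) = k) (hne : s ≠ RingEquiv.refl K)
    (hK : 4 < Nat.card K) (hF : ∃ t : Fˣ, t ≠ 1) {S V L1 L2 Q : Subgroup G} (m : Model K s V L1)
    {π2 : L2 →* SL F} (D2 : SLPre L2 m.U Q π2) (twoS : IsPGroup 2 S) (US : m.U ≤ S)
    (SU : S ≤ Subgroup.normalizer (m.U : Set G)) (SL1 : S ≤ Subgroup.normalizer (L1 : Set G))
    (SL2 : S ≤ Subgroup.normalizer (L2 : Set G)) (cSV : ∀ s ∈ S, (∀ v ∈ V, s * v = v * s) → s ∈ V)
    (N1 : ∀ g ∈ L1, cj g m.U = m.U → g ∈ Subgroup.normalizer (L2 : Set G))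
    (N2 : ∀ g ∈ L2, cj g m.U = m.U → g ∈ Subgroup.normalizer (L1 : Set G))
    (ZL2 : ∀ z ∈ m.Z, ∀ x ∈ L2, z * x = x * z)
    (cQ : ∀ x ∈ L2, (∀ q ∈ Q, x * q = q * x) → x ∈ Q) (ne : Q ≠ V) {X : Subgroup G → G → Prop}
    (hX : ∀ H1 : Subgroup G, H1 ≤ L1 → H1 ≤ Subgroup.normalizer (m.U : Set G) →
      Odd (Nat.card H1) → (∀ g ∈ L1, cj g m.U = m.U → g ∈ m.U ⊔ H1) →
      ∃ n1 ∈ L1, PartOne V m.U m.Z m.Y L1 H1 (H1 ⊓ Subgroup.centralizer m.Z) n1 ∧ X H1 n1) :
    ∃ (H A0 : Subgroup G) (n1 n2 : G), H ≤ (L1 ⊓ Subgroup.normalizer (m.U : Set G)) ⊔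
      (L2 ⊓ Subgroup.normalizer (m.U : Set G)) ∧
      Data S V m.U m.Z m.Y L1 L2 Q H A0 n1 n2 ∧ PartOne V m.U m.Z m.Y L1 (H ⊓ L1) A0 n1 ∧
      X (H ⊓ L1) n1 := by
  have twoU : IsPGroup 2 m.U := twoS.to_le US
  have D1 : SLPre L1 m.U V m.π := m.toPre twoU
  set B1 := L1 ⊓ Subgroup.normalizer (m.U : Set G) with hB1
  set B2 := L2 ⊓ Subgroup.normalizer (m.U : Set G) with hB2
  have hB1L2 : B1 ≤ Subgroup.normalizer (L2 : Set G) := fun g hg => N1 g hg.1 (mem_norm_iff.mp hg.2)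
  have hB2L1 : B2 ≤ Subgroup.normalizer (L1 : Set G) := fun g hg => N2 g hg.1 (mem_norm_iff.mp hg.2)
  have hB21 : B2 ≤ Subgroup.normalizer (B1 : Set G) := fun g hg =>
    norm_inf (hB2L1 hg) (Subgroup.le_normalizer hg.2)
  have hUB1 : m.U ≤ B1 := le_inf D1.UL Subgroup.le_normalizer
  have hUB2 : m.U ≤ B2 := le_inf D2.UL Subgroup.le_normalizer
  have hBU : B2 ⊔ B1 ≤ Subgroup.normalizer (m.U : Set G) := sup_le inf_le_right inf_le_right
  have hodd : Odd (m.U.relIndex (B2 ⊔ B1)) := by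
    refine odd_relIndex_of_pow hBU (odd_pow_sup hB21 D1.odd_pow fun b hb => ?_)
    obtain ⟨k, hk, h1⟩ := D2.odd_pow b hb
    exact ⟨k, hk, hUB1 h1⟩
  obtain ⟨H, hHB, hHodd, hUH⟩ := exists_hall (hUB1.trans le_sup_right) hBU twoU hodd
  have HU : H ≤ Subgroup.normalizer (m.U : Set G) := hHB.trans hBU
  have HL1 : H ≤ Subgroup.normalizer (L1 : Set G) :=
    hHB.trans (sup_le hB2L1 (inf_le_left.trans Subgroup.le_normalizer))
  have HL2 : H ≤ Subgroup.normalizer (L2 : Set G) :=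
    hHB.trans (sup_le (inf_le_left.trans Subgroup.le_normalizer) hB1L2)
  have bor1 : ∀ g ∈ L1, cj g m.U = m.U → g ∈ m.U ⊔ H := fun g hg h => by
    rw [hUH]; exact Subgroup.mem_sup_right ⟨hg, mem_norm_iff.mpr h⟩
  have bor2 : ∀ g ∈ L2, cj g m.U = m.U → g ∈ m.U ⊔ H := fun g hg h => by
    rw [hUH]; exact Subgroup.mem_sup_left ⟨hg, mem_norm_iff.mpr h⟩
  have R1 : SLPar L1 m.U V H m.π := D1.toPar hHodd HL1 HU fun x hx =>
    bor1 x x.2 ((D1.normU x).mpr hx)
  have R2 : SLPar L2 m.U Q H π2 := D2.toPar hHodd HL2 HU fun x hx =>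
    bor2 x x.2 ((D2.normU x).mpr hx)
  have hK1 : ∃ t : Kˣ, t ≠ 1 := by
    obtain ⟨f, hf, hf0, hf1⟩ := MField.exists_fix hs hne hK
    exact ⟨Units.mk0 f hf0, fun h => hf1 (congrArg Units.val h)⟩
  obtain ⟨k, hk, n, P1', hnH, hnn, hnn', hπn, htor, hall, hinv, hfix⟩ := R1.exists_rankOne hK1
  obtain ⟨k2, hk2, n2, P2, hn2H, hn22, hn22', hπn2, htor2, hall2, hinv2, hfix2⟩ :=
    R2.exists_rankOne hF
  -- the first parabolic with `H1 = H ∩ L1`
  set H1 := H ⊓ L1 with hH1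
  have hH1odd : Odd (Nat.card H1) := hHodd.of_dvd_nat (Subgroup.card_dvd_of_le inf_le_left)
  have hcov : ∀ g ∈ L1, cj g m.U = m.U → g ∈ m.U ⊔ H1 := by
    intro g hg h
    have h1 := bor1 g hg h
    rw [sup_comm] at h1
    obtain ⟨a, ha, u, hu, rfl⟩ := mem_sup_norm HU h1
    refine mul_mem (Subgroup.mem_sup_right ⟨ha, ?_⟩) (Subgroup.mem_sup_left hu)
    have := mul_mem hg (inv_mem (D1.UL hu))
    rwa [mul_inv_cancel_right] at this
  obtain ⟨n1, hn1L, P, hXn⟩ := hX H1 inf_le_right (inf_le_left.trans HU) hH1odd hcov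
  set A0 := H1 ⊓ Subgroup.centralizer (m.Z : Set G) with hA0
  have hH1H : H1 ≤ H := inf_le_left
  -- `C_U(H) = 1`
  have hCU : ∀ u ∈ m.U, (∀ a ∈ H, a * u = u * a) → u = 1 := fun u hu h =>
    P.cent_U hu fun a ha => h a (hH1H ha)
  -- `n1 ∈ n H1`
  have hx : (n : G)⁻¹ * n1 ∈ H := by
    set x : L1 := n⁻¹ * ⟨n1, hn1L⟩ with hxdef
    have hxc : ∀ a ∈ H1, (x : G) * a = a * x := by
      intro a ha
      have h1 : (n : G) * a * (n : G)⁻¹ = a⁻¹ := hinv a ha
      have h2 : n1 * a * n1⁻¹ = a⁻¹ := P.n1inv a ha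
      show (n : G)⁻¹ * n1 * a = a * ((n : G)⁻¹ * n1)
      have h3 : n1 * a = a⁻¹ * n1 := by rw [← h2]; group
      have h4 : (n : G)⁻¹ * a⁻¹ = a * (n : G)⁻¹ := by rw [← h1]; group
      calc (n : G)⁻¹ * n1 * a = (n : G)⁻¹ * (n1 * a) := by group
        _ = (n : G)⁻¹ * a⁻¹ * n1 := by rw [h3]; group
        _ = a * ((n : G)⁻¹ * n1) := by rw [h4]; group
    obtain ⟨t, ht⟩ := hK1
    obtain ⟨a, haH, ha⟩ := hall t
    have hlow : (m.π x).1 1 0 = 0 := by
      refine D1.low_of_comm hk ht ?_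
      rw [← ha, ← map_mul, ← map_mul]
      congr 1
      exact Subtype.ext (hxc a ⟨haH, a.2⟩)
    have h5 := hcov x x.2 ((D1.normU x).mpr hlow)
    rw [sup_comm] at h5
    obtain ⟨b, hb, u, hu, e⟩ := mem_sup_norm (hH1H.trans HU) h5
    have h6 : u = 1 := P.cent_U hu fun a ha => by
      have h7 := hxc a ha
      rw [e] at h7
      have h8 := P.Hcomm a ha b hb
      have : b * (a * u) = b * (u * a) := by
        rw [← mul_assoc, ← h8, mul_assoc, ← h7, mul_assoc]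
      exact mul_left_cancel this
    rw [h6, mul_one] at e
    show (x : G) ∈ H
    rw [e]; exact hH1H hb
  have hn1H : cj n1 H = H := by
    have e : n1 = n * ((n : G)⁻¹ * n1) := by group
    rw [e, cj_mul, cj_eq_of_mem hx, hnH]
  have hZH : H ≤ Subgroup.normalizer (m.Z : Set G) := by
    have HV : H ≤ Subgroup.normalizer (V : Set G) := fun g hg => D1.norm_Q (HL1 hg)
    refine le_normalizer_of fun g hg z hz => ?_
    rw [mem_cj] at hz
    obtain ⟨h1, h2⟩ := (P.memZ _).mp hz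
    refine (P.memZ _).mpr ⟨?_, fun u hu => ?_⟩
    · have := conj_mem (HV hg) h1
      rwa [show g * (g⁻¹ * z * g) * g⁻¹ = z by group] at this
    · have h3 := h2 _ (conj_mem' (HU hg) hu)
      have h4 := congrArg (fun y => g * y * g⁻¹) h3
      simpa [mul_assoc] using h4
  refine ⟨H, A0, n1, n2, ?_, ?_, P, hXn⟩
  · rw [sup_comm]; exact hHB
  exact
    { twoS := twoS
      US := US
      SV := fun g hg => D1.norm_Q (SL1 hg)
      SU := SU
      SL1 := SL1
      SL2 := SL2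
      cSV := cSV
      P1 := P.P1
      commV := P.commV
      sqV := P.sqV
      memZ := P.memZ
      Ydef := P.Ydef
      YU := P.YU
      Zle := P.Zle
      Yup := P.Yup
      cUVZ := P.cUVZ
      cUY := P.cUY
      Vgen := P.Vgen
      Vdec := P.Vdec
      Edis := P.Edis
      Ydec := P.Ydec
      n1n1 := by rw [P.n1n1]; exact one_mem _
      borel1 := bor1
      Zbig := P.Zbig
      odd := hHodd
      HV := fun g hg => D1.norm_Q (HL1 hg)
      HU := HU
      HL1 := HL1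
      HL2 := HL2
      n1H := hn1H
      n2H := hn2H
      AH := inf_le_left.trans hH1H
      AL1 := P.AL1
      Acomm := P.Acomm
      n1A := P.n1A
      HA := fun g hg => norm_inf (norm_inf (Subgroup.le_normalizer hg) (HL1 hg)) (by
        rw [Subgroup.mem_normalizer_iff]
        intro y
        have key : ∀ a ∈ H, ∀ y, y ∈ Subgroup.centralizer (m.Z : Set G) →
            a * y * a⁻¹ ∈ Subgroup.centralizer (m.Z : Set G) := by
          intro a ha y hy
          rw [Subgroup.mem_centralizer_iff] at hy ⊢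
          intro z hz
          have h1 := hy (a⁻¹ * z * a) (conj_mem' (hZH ha) hz)
          have h2 := congrArg (fun y => a * y * a⁻¹) h1
          simpa [mul_assoc] using h2
        refine ⟨key g hg y, fun h => ?_⟩
        have := key g⁻¹ (inv_mem hg) _ h
        rwa [show g⁻¹ * (g * y * g⁻¹) * g⁻¹⁻¹ = y by group] at this)
      AZ := P.AZ
      AE := P.AE
      irrY := P.irrY
      irrU := P.irrU
      irrE := fun R h1 h2 h3 => P.irrE R h1 h2 (hH1H.trans h3)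
      fixY := P.fixY
      fixU := fun u hu h => P.fixU u hu fun a ha => h a (hH1H (P.AH ha))
      transZ := fun z hz z' hz' h1 h2 => by
        obtain ⟨h, hh, e⟩ := P.transZ z hz z' hz' h1 h2
        exact ⟨h, hH1H hh, e⟩
      P2 := P2
      ZL2 := ZL2
      Qmax := fun R h1 h2 h3 => D2.le_Q h1 h2 h3
      cQ := cQ
      ne := ne
      n2n2 := by
        rw [hCU _ (D2.QU hn22) fun a ha => (hn22' a ha).symm]; exact one_mem _
      borel2 := bor2
      H2ne := by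
        obtain ⟨t, ht⟩ := hF
        obtain ⟨h, hh, e⟩ := hall2 t
        refine ⟨h, ⟨hh, h.2⟩, fun h1 => ht ?_⟩
        have h2 : h = 1 := Subtype.ext h1
        rw [h2, map_one] at e
        have h3 : dg t = 1 := by
          calc dg t = (π2 k2)⁻¹ * (π2 k2 * dg t * (π2 k2)⁻¹) * π2 k2 := by group
            _ = 1 := by rw [← e]; group
        exact Units.ext ((SLTwo.ext_iff'.mp h3).1)
      H2inv := hinv2
      fix2 := hfix2 }

/-- **The data of type `U4(q)` from the two parabolics.** -/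
theorem exists_data [Finite G] {K F : Type*} [Field K] [Finite K] [CharP K 2] [Field F] [Finite F]
    [CharP F 2] {s : K ≃+* K} (hs : ∀ k, s (s k) = k) (hne : s ≠ RingEquiv.refl K)
    (hK : 4 < Nat.card K) (hF : ∃ t : Fˣ, t ≠ 1) {S V L1 L2 Q : Subgroup G} (m : Model K s V L1)
    {π2 : L2 →* SL F} (D2 : SLPre L2 m.U Q π2) (twoS : IsPGroup 2 S) (US : m.U ≤ S)
    (SU : S ≤ Subgroup.normalizer (m.U : Set G)) (SL1 : S ≤ Subgroup.normalizer (L1 : Set G))
    (SL2 : S ≤ Subgroup.normalizer (L2 : Set G)) (cSV : ∀ s ∈ S, (∀ v ∈ V, s * v = v * s) → s ∈ V)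
    (N1 : ∀ g ∈ L1, cj g m.U = m.U → g ∈ Subgroup.normalizer (L2 : Set G))
    (N2 : ∀ g ∈ L2, cj g m.U = m.U → g ∈ Subgroup.normalizer (L1 : Set G))
    (ZL2 : ∀ z ∈ m.Z, ∀ x ∈ L2, z * x = x * z)
    (cQ : ∀ x ∈ L2, (∀ q ∈ Q, x * q = q * x) → x ∈ Q) (ne : Q ≠ V) :
    ∃ (H A0 : Subgroup G) (n1 n2 : G), H ≤ (L1 ⊓ Subgroup.normalizer (m.U : Set G)) ⊔
      (L2 ⊓ Subgroup.normalizer (m.U : Set G)) ∧
      Data S V m.U m.Z m.Y L1 L2 Q H A0 n1 n2 := by
  have : Finite V := inferInstance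
  obtain ⟨H, A0, n1, n2, h1, h2, -⟩ := exists_data' hs hne hK hF m D2 twoS US SU SL1 SL2 cSV N1 N2
    ZL2 cQ ne (X := fun _ _ => True) (fun H1 hL hU hodd hcov => by
      obtain ⟨n1, hn1, P⟩ := m.partOne hs hne hK (H1 := H1) hL hU hodd hcov
      exact ⟨n1, hn1, P, trivial⟩)
  exact ⟨H, A0, n1, n2, h1, h2⟩

end UFour

end Cfsg.Agent.RankTwoClose

end

section


/-!
# `Φ = 0` (type `U₄(q)`): the two parabolics

* `CV_le` : `C_G(V) = V`;
* `model` : `X = ⟨Q, Q'⟩` acts on `V` as `SL(2, F)` on the hermitian matrices;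
* `LL` : the subgroup of `C_G(R)` generated by `Q` and the conjugates of `V` under `N_G(R)`; `LL/Q = SL(2, k)`.
-/

set_option autoImplicit false
set_option linter.unusedSectionVars false

open Subgroup

namespace Cfsg.Agent.Omega.NOne.SU

open RankTwoClose RankTwoClose.SLTwo RankTwoClose.UFour

variable {G : Type*} [Group G] {k F : Type*} [Field k] [Field F] [Algebra k F] [CharP k 2]
variable {T : Quad k F} {S : Sylow 2 G} {V R Q Q' : Subgroup G} {v : k → F → k → G} {p p' : G → F}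

theorem hM_add (T : Quad k F) (a : k) (b : F) (d a' : k) (b' : F) (d' : k) :
    hM T (a + a') (b + b') (d + d') = hM T a b d + hM T a' b' d' := by
  ext i j
  fin_cases i <;> fin_cases j <;> simp [hM]

theorem hM_zero (T : Quad k F) : hM T 0 0 0 = 0 := by
  ext i j
  fin_cases i <;> fin_cases j <;> simp [hM]

theorem hM_herm (T : Quad k F) (a : k) (b : F) (d : k) : (hM T a b d).transpose.map T.sg = hM T a b d := by
  ext i j
  fin_cases i <;> fin_cases j <;> simp [hM, T.sg_sg]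

section mod

variable (I : GIn T S V R Q Q' v p p')
include I

theorem GIn.exists_t (x : V) : ∃ t : k × F × k, v t.1 t.2.1 t.2.2 = (x : G) := by
  obtain ⟨a, b, d, h⟩ := I.v_surj x x.2
  exact ⟨(a, b, d), h⟩

/-- the hermitian matrix of an element of `V` -/
noncomputable def GIn.hV (x : V) : Matrix (Fin 2) (Fin 2) F :=
  hM T (I.exists_t x).choose.1 (I.exists_t x).choose.2.1 (I.exists_t x).choose.2.2

theorem GIn.hV_v {a : k} {b : F} {d : k} {x : V} (h : (x : G) = v a b d) : I.hV x = hM T a b d := by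
  have h1 := (I.exists_t x).choose_spec
  obtain ⟨h2, h3, h4⟩ := I.v_ext (h1.trans h)
  unfold GIn.hV
  rw [h2, h3, h4]

/-- the model of the action of `X` on `V`, if `C_X(V) = V` -/
noncomputable def GIn.model (E : Ext V R Q Q' p') (hC : centralizer (V : Set G) ≤ V) :
    Model F (T.sg : F ≃+* F) V (Q ⊔ Q') where
  le := I.V_X
  π := I.pi
  surj := I.pi_surj E
  ker x := by
    rw [I.pi_eq_one]
    exact ⟨fun h => hC h, fun h => I.V_CV h⟩
  norm := I.X_NV
  h := I.hV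
  mul x y := by
    obtain ⟨a, b, d, hx⟩ := I.v_surj x x.2
    obtain ⟨a', b', d', hy⟩ := I.v_surj y y.2
    rw [I.hV_v hx.symm, I.hV_v hy.symm, ← hM_add]
    apply I.hV_v
    rw [coe_mul, ← hx, ← hy, I.v_mul]
  herm x := by
    obtain ⟨a, b, d, hx⟩ := I.v_surj x x.2
    rw [I.hV_v hx.symm]
    exact hM_herm T a b d
  inj x h := by
    obtain ⟨a, b, d, hx⟩ := I.v_surj x x.2
    rw [I.hV_v hx.symm, ← hM_zero T] at h
    obtain ⟨rfl, rfl, rfl⟩ := hM_inj T h
    apply Subtype.ext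
    rw [← hx, I.v_zero]; rfl
  onto M hM' := by
    have h00 : T.sg (M 0 0) = M 0 0 := congrFun (congrFun hM' 0) 0
    have h11 : T.sg (M 1 1) = M 1 1 := congrFun (congrFun hM' 1) 1
    have h10 : T.sg (M 0 1) = M 1 0 := congrFun (congrFun hM' 1) 0
    obtain ⟨a, ha⟩ := T.fix _ h00
    obtain ⟨d, hd⟩ := T.fix _ h11
    refine ⟨⟨v a (M 0 1) d, I.v_mem _ _ _⟩, ?_⟩
    rw [I.hV_v rfl]
    ext i j
    fin_cases i <;> fin_cases j
    · exact ha
    · rfl
    · exact h10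
    · exact hd
  act x y := by
    obtain ⟨a, b, d, hy⟩ := I.v_surj y y.2
    obtain ⟨a', b', d', hxy⟩ := I.v_surj _ (conj_mem (I.X_NV x.2) y.2)
    rw [I.hV_v hy.symm, I.hV_v (a := a') (b := b') (d := d') hxy.symm]
    exact I.actV_pi x a b d a' b' d' (by rw [hy]; exact hxy.symm)

end mod

namespace Out

variable {Φ : Type*} [AddCommGroup Φ] [Module F Φ] {φ χ : G → Φ} {hm : Φ → Φ → F}
    {W : Type*} [AddCommGroup W] [Module F W] {w : G → W} {g : W → W → F} {f₀ : W}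
    {ι : Φ →ₗ[F] W} (D : Out T V R Q Q' v p φ χ hm w g f₀ ι) (I : GIn T S V R Q Q' v p p')

section cv

variable [Subsingleton Φ] (f : Fld T V R Q Q' v p φ χ)
include D I f

/-- `C_Q(V) ≤ V` -/
theorem CQV_le {y : G} (hy : y ∈ Q) (hc : y ∈ centralizer (V : Set G)) : y ∈ V := by
  obtain ⟨a, b, rfl⟩ := (f.φ_ker y hy hc).1 (Subsingleton.elim _ _)
  exact I.v_mem _ _ _

/-- **`C_G(V) ≤ V`** -/
theorem CV_le : centralizer (V : Set G) ≤ V := by
  intro c hc
  have hcR : c ∈ centralizer (R : Set G) := centralizer_le I.R_V hc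
  have hcN := I.CR_NR hcR
  have hcv : ∀ x ∈ V, c * x * c⁻¹ = x := by
    intro x hx
    rw [← mem_centralizer_iff.1 hc x hx]; group
  obtain ⟨n, hn, hnV, d, y, hy, e⟩ := D.rad c hcR (fun b => by rw [hcv _ (I.v_mem _ _ _)]) (by
      intro x hx h0
      refine ⟨0, ?_⟩
      rw [D.w_v I, zero_smul, add_zero]
      have h1 : x ∈ V := by
        apply D.CQV_le I f hx
        rw [I.mem_CV hx, D.p_eq x hx, h0]
      rw [hcv x h1]) (by
      intro x hx
      have h1 := I.nor c hcN x hx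
      rw [← D.p_eq _ h1, ← D.p_eq _ hx]
      -- `c x c⁻¹` acts on `V` as `x`
      have h2 : x⁻¹ * (c * x * c⁻¹) ∈ centralizer (V : Set G) := by
        rw [mem_centralizer_iff]
        intro z hz
        have hxz : x * z * x⁻¹ ∈ V := (mem_normalizer_iff.1 (I.Q_NV hx) _).1 hz
        have h3 : c⁻¹ * z * c = z := by
          have := hcv z hz
          calc c⁻¹ * z * c = c⁻¹ * (c * z * c⁻¹) * c := by rw [this]
            _ = z := by group
        have h4 : (c * x * c⁻¹) * z * (c * x * c⁻¹)⁻¹ = x * z * x⁻¹ := by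
          calc (c * x * c⁻¹) * z * (c * x * c⁻¹)⁻¹ = c * (x * (c⁻¹ * z * c) * x⁻¹) * c⁻¹ := by group
            _ = x * z * x⁻¹ := by rw [h3, hcv _ hxz]
        calc z * (x⁻¹ * (c * x * c⁻¹)) = x⁻¹ * (x * z * x⁻¹) * (c * x * c⁻¹) := by group
          _ = x⁻¹ * ((c * x * c⁻¹) * z * (c * x * c⁻¹)⁻¹) * (c * x * c⁻¹) := by rw [h4]
          _ = x⁻¹ * (c * x * c⁻¹) * z := by group
      have h5 := I.p_add _ hx _ (mul_mem (inv_mem hx) h1)
      rw [mul_inv_cancel_left, (I.mem_CV (mul_mem (inv_mem hx) h1)).1 h2, add_zero] at h5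
      exact h5)
  obtain ⟨b, d', rfl⟩ := f.χ_ker n hn hnV (Subsingleton.elim _ _)
  have h1 : y ∈ centralizer (V : Set G) := by
    have : y = (v 0 b d' * v 0 0 d)⁻¹ * c := by rw [e]; group
    rw [this]
    exact mul_mem (inv_mem (mul_mem (I.V_CV (I.v_mem _ _ _)) (I.V_CV (I.v_mem _ _ _)))) hc
  rw [e]
  exact mul_mem (mul_mem (I.v_mem _ _ _) (I.v_mem _ _ _)) (D.CQV_le I f hy h1)

end cv

/-! ### `SL(2, k)` -/

/-- `x` acts on `W = F e₀ + F f₀` as a matrix over `k` of determinant one. -/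
def MatAct (D : Out T V R Q Q' v p φ χ hm w g f₀ ι) (x : G) (A : SL k) : Prop :=
  x ∈ centralizer (R : Set G) ∧ ∀ m,
    g (D.rho x m) f₀ = algebraMap k F (A.1 0 0) * g m f₀ + algebraMap k F (A.1 0 1) * g m (w (v 0 1 0)) ∧
    g (D.rho x m) (w (v 0 1 0)) =
      algebraMap k F (A.1 1 0) * g m f₀ + algebraMap k F (A.1 1 1) * g m (w (v 0 1 0))

include D I

theorem matAct_one : D.MatAct 1 1 := by
  refine ⟨one_mem _, fun m => ?_⟩
  rw [D.rho_one I]
  simp

theorem matAct_mul {x y : G} {A B : SL k} (hx : D.MatAct x A) (hy : D.MatAct y B) :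
    D.MatAct (x * y) (A * B) := by
  refine ⟨mul_mem hx.1 hy.1, fun m => ?_⟩
  rw [D.rho_mul I (I.CR_NR hx.1) (I.CR_NR hy.1), (hx.2 _).1, (hx.2 _).2, (hy.2 _).1, (hy.2 _).2,
    mul_00, mul_01, mul_10, mul_11]
  simp only [map_add, map_mul]
  constructor <;> ring

theorem matAct_inv {x : G} {A : SL k} (hx : D.MatAct x A) : D.MatAct x⁻¹ A⁻¹ := by
  refine ⟨inv_mem hx.1, fun m => ?_⟩
  have h1 := hx.2 (D.rho x⁻¹ m)
  rw [D.rho_inv_right I (I.CR_NR hx.1)] at h1
  have hd : algebraMap k F (A.1 0 0) * algebraMap k F (A.1 1 1) -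
      algebraMap k F (A.1 0 1) * algebraMap k F (A.1 1 0) = 1 := by
    rw [← map_mul, ← map_mul, ← map_sub, det_eq, map_one]
  rw [inv_00, inv_01, inv_10, inv_11, map_neg, map_neg, h1.1, h1.2]
  constructor
  · linear_combination (-g (D.rho x⁻¹ m) f₀) * hd
  · linear_combination (-g (D.rho x⁻¹ m) (w (v 0 1 0))) * hd

theorem matAct_unique {x : G} {A B : SL k} (hA : D.MatAct x A) (hB : D.MatAct x B) : A = B := by
  have hi := (algebraMap k F).injective
  have h1 := (hA.2 (w (v 0 1 0))).1.symm.trans (hB.2 (w (v 0 1 0))).1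
  have h2 := (hA.2 (w (v 0 1 0))).2.symm.trans (hB.2 (w (v 0 1 0))).2
  have h3 := (hA.2 f₀).1.symm.trans (hB.2 f₀).1
  have h4 := (hA.2 f₀).2.symm.trans (hB.2 f₀).2
  rw [D.g_ef, D.g_ee, mul_one, mul_zero, add_zero, mul_one, mul_zero, add_zero] at h1 h2
  rw [D.g_ff, D.g_fe, mul_one, mul_zero, zero_add, mul_one, mul_zero, zero_add] at h3 h4
  rw [ext_iff']
  exact ⟨hi h1, hi h3, hi h2, hi h4⟩

theorem matAct_Q {y : G} (hy : y ∈ Q) : D.MatAct y 1 := by
  refine ⟨I.Q_CR hy, fun m => ?_⟩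
  rw [D.rho_Q I hy]
  simp

omit I in
theorem ext₂ [Subsingleton Φ] {m m' : W} (h1 : g m f₀ = g m' f₀)
    (h2 : g m (w (v 0 1 0)) = g m' (w (v 0 1 0))) : m = m' := by
  obtain ⟨x, hx⟩ := D.decomp m
  obtain ⟨x', hx'⟩ := D.decomp m'
  rw [hx, hx', h1, h2, Subsingleton.elim x x']

theorem mem_Q_of_matAct [Subsingleton Φ] {x : G} (h : D.MatAct x 1) : x ∈ Q := by
  apply D.mem_Q_of_rho I (I.CR_NR h.1)
  intro m
  apply D.ext₂
  · rw [(h.2 m).1]; simp
  · rw [(h.2 m).2]; simp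

/-- a transvection with an isotropic centre `x` -/
theorem matAct_tv {c : G} (hc : c ∈ centralizer (R : Set G))
    (hlin : ∀ (s : F), ∀ x ∈ Q, ∀ y ∈ Q, w y = s • w x → w (c * y * c⁻¹) = s • w (c * x * c⁻¹))
    (hiso : ∀ x ∈ Q, ∀ y ∈ Q, g (w (c * x * c⁻¹)) (w (c * y * c⁻¹)) = g (w x) (w y)) (d : k) (m : W) :
    D.rho (c * v 0 0 d * c⁻¹) m = m + (algebraMap k F d * g m (w (c * v 0 1 0 * c⁻¹))) • w (c * v 0 1 0 * c⁻¹) := by
  have hcN := I.CR_NR hc
  have hv : v 0 0 d ∈ normalizer (R : Set G) := I.CR_NR (I.V_CR (I.v_mem _ _ _))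
  rw [D.rho_mul I (mul_mem hcN hv) (inv_mem hcN), D.rho_mul I hcN hv, D.rho_tv I, D.rho_add I hcN,
    D.rho_inv_right I hcN]
  congr 1
  have hE : v 0 1 0 ∈ Q := I.E_le _ _
  obtain ⟨y, hy, hym⟩ := D.w_surj ((algebraMap k F d * g (D.rho c⁻¹ m) (w (v 0 1 0))) • w (v 0 1 0))
  rw [← hym, D.rho_w I hcN hy, hlin _ _ hE _ hy hym]
  congr 2
  obtain ⟨z, hz, rfl⟩ := D.w_surj m
  have hz' := I.nor c⁻¹ (inv_mem hcN) z hz
  rw [D.rho_w I (inv_mem hcN) hz, ← hiso _ hz' _ hE]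
  congr 2
  group

end Out

end Cfsg.Agent.Omega.NOne.SU

end

section


/-!
# `Φ = 0` (type `U₄(q)`): the second parabolic `LL`, `LL/Q = SL(2, k)`
-/

set_option autoImplicit false
set_option linter.unusedSectionVars false

open Subgroup

namespace Cfsg.Agent.Omega.NOne.SU

open RankTwoClose RankTwoClose.SLTwo RankTwoClose.UFour

variable {G : Type*} [Group G]

/-- the subgroup generated by `Q` and the conjugates of `V` under `N_G(R)` -/
def LL (V R Q : Subgroup G) : Subgroup G :=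
  closure {x | x ∈ Q ∨ ∃ c ∈ normalizer (R : Set G), ∃ a ∈ V, x = c * a * c⁻¹}

theorem Q_LL (V R Q : Subgroup G) : Q ≤ LL V R Q := fun _ hx => subset_closure (Or.inl hx)

theorem conj_LL {V R Q : Subgroup G} {c a : G} (hc : c ∈ normalizer (R : Set G)) (ha : a ∈ V) :
    c * a * c⁻¹ ∈ LL V R Q := subset_closure (Or.inr ⟨c, hc, a, ha, rfl⟩)

theorem V_LL (V R Q : Subgroup G) : V ≤ LL V R Q := by
  intro a ha
  have := conj_LL (V := V) (R := R) (Q := Q) (one_mem _) ha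
  simpa using this

/-- `N_G(R)` normalises `LL` -/
theorem NR_LL {V R Q : Subgroup G} (hQ : ∀ c ∈ normalizer (R : Set G), ∀ y ∈ Q, c * y * c⁻¹ ∈ Q) :
    normalizer (R : Set G) ≤ normalizer (LL V R Q : Set G) := by
  have key : ∀ m ∈ normalizer (R : Set G), ∀ x ∈ LL V R Q, m * x * m⁻¹ ∈ LL V R Q := by
    intro m hm
    have h1 : LL V R Q ≤ (LL V R Q).comap (MulAut.conj m).toMonoidHom := by
      unfold LL
      rw [closure_le]
      rintro x (hx | ⟨c, hc, a, ha, rfl⟩)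
      · exact subset_closure (Or.inl (hQ m hm x hx))
      · refine subset_closure (Or.inr ⟨m * c, mul_mem hm hc, a, ha, ?_⟩)
        show m * (c * a * c⁻¹) * m⁻¹ = _
        group
    exact fun x hx => h1 hx
  intro m hm
  rw [mem_normalizer_iff]
  intro x
  refine ⟨key m hm x, fun h => ?_⟩
  have := key m⁻¹ (inv_mem hm) _ h
  simpa [mul_assoc] using this

variable {k F : Type*} [Field k] [Field F] [Algebra k F] [CharP k 2]
variable {T : Quad k F} {S : Sylow 2 G} {V R Q Q' : Subgroup G} {v : k → F → k → G} {p p' : G → F}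

namespace Out

variable {Φ : Type*} [AddCommGroup Φ] [Module F Φ] {φ χ : G → Φ} {hm : Φ → Φ → F}
    {W : Type*} [AddCommGroup W] [Module F W] {w : G → W} {g : W → W → F} {f₀ : W}
    {ι : Φ →ₗ[F] W} (D : Out T V R Q Q' v p φ χ hm w g f₀ ι) (I : GIn T S V R Q Q' v p p')

/-- `c` acts `F`-linearly on `W` -/
def Lin (_D : Out T V R Q Q' v p φ χ hm w g f₀ ι) (c : G) : Prop :=
  ∀ (s : F), ∀ x ∈ Q, ∀ y ∈ Q, w y = s • w x → w (c * y * c⁻¹) = s • w (c * x * c⁻¹)

/-- `c` is an isometry of `g` -/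
def Iso (_D : Out T V R Q Q' v p φ χ hm w g f₀ ι) (c : G) : Prop :=
  ∀ x ∈ Q, ∀ y ∈ Q, g (w (c * x * c⁻¹)) (w (c * y * c⁻¹)) = g (w x) (w y)

include D I

theorem rho_smul {c : G} (hc : c ∈ normalizer (R : Set G)) (hl : D.Lin c) (s : F) (m : W) :
    D.rho c (s • m) = s • D.rho c m := by
  obtain ⟨x, hx, rfl⟩ := D.w_surj m
  obtain ⟨y, hy, hym⟩ := D.w_surj (s • w x)
  rw [← hym, D.rho_w I hc hy, D.rho_w I hc hx, hl s x hx y hy hym]

theorem rho_iso {c : G} (hc : c ∈ normalizer (R : Set G)) (hl : D.Iso c) (m m' : W) :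
    g (D.rho c m) (D.rho c m') = g m m' := by
  obtain ⟨x, hx, rfl⟩ := D.w_surj m
  obtain ⟨y, hy, rfl⟩ := D.w_surj m'
  rw [D.rho_w I hc hx, D.rho_w I hc hy, hl x hx y hy]

theorem rho_ne {c : G} (hc : c ∈ normalizer (R : Set G)) {m : W} (h : m ≠ 0) : D.rho c m ≠ 0 := by
  intro h0
  apply h
  rw [← D.rho_inv_left I hc m, h0, D.rho_zero I (inv_mem hc)]

theorem rho_e {c : G} (hc : c ∈ normalizer (R : Set G)) : D.rho c (w (v 0 1 0)) = w (c * v 0 1 0 * c⁻¹) :=
  D.rho_w I hc (I.E_le _ _)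

/-- for every isotropic `m` there is a linear isometry mapping `e₀` to a multiple of `m` -/
theorem exists_tran {m : W} (h0 : m ≠ 0) (h : g m m = 0) :
    ∃ c ∈ centralizer (R : Set G), D.Lin c ∧ D.Iso c ∧ ∃ s : F, s ≠ 0 ∧ D.rho c (w (v 0 1 0)) = s • m := by
  obtain ⟨c, hc, h1, h2, s, h3⟩ := D.tran m h0 h
  rw [← D.rho_e I (I.CR_NR hc)] at h3
  refine ⟨c, hc, h1, h2, s, ?_, h3⟩
  rintro rfl
  rw [zero_smul] at h3
  exact D.rho_ne I (I.CR_NR hc) D.e_ne h3

/-- every `c ∈ N_G(R)` is in `c' (N_G(R) ∩ N_G(V))` for a linear isometry `c'` -/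
theorem exists_lin {c : G} (hc : c ∈ normalizer (R : Set G)) :
    ∃ c' ∈ centralizer (R : Set G), D.Lin c' ∧ D.Iso c' ∧ c'⁻¹ * c ∈ normalizer (V : Set G) := by
  obtain ⟨m, h0, h1, h2⟩ := D.pt c hc
  obtain ⟨c', hc', hl, hi, s, hs, h3⟩ := D.exists_tran I h0 h1
  have hN' := I.CR_NR hc'
  refine ⟨c', hc', hl, hi, ?_⟩
  obtain ⟨t, ht⟩ := h2 1
  rw [← D.rho_e I hc] at ht
  have hcc : c'⁻¹ * c ∈ normalizer (R : Set G) := mul_mem (inv_mem hN') hc
  refine D.stab _ hcc ⟨t * s⁻¹, ?_⟩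
  rw [← D.rho_e I hcc, D.rho_mul I (inv_mem hN') hc, ht]
  have h4 : t • m = (t * s⁻¹) • D.rho c' (w (v 0 1 0)) := by
    rw [h3, smul_smul, mul_assoc, inv_mul_cancel₀ hs, mul_one]
  rw [h4, ← D.rho_smul I hN' hl, D.rho_inv_left I hN']

variable [Subsingleton Φ]

omit I in
theorem decomp₀ (m : W) : m = g m f₀ • w (v 0 1 0) + g m (w (v 0 1 0)) • f₀ := by
  obtain ⟨x, hx⟩ := D.decomp m
  rwa [Subsingleton.elim x 0, map_zero, add_zero] at hx

/-- a transvection is given by a matrix -/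
theorem exists_matAct_tv {c : G} (hc : c ∈ centralizer (R : Set G)) (hl : D.Lin c) (hi : D.Iso c) (d : k) :
    ∃ A : SL k, D.MatAct (c * v 0 0 d * c⁻¹) A ∧
      A.1 1 0 = d * T.nm (g (w (c * v 0 1 0 * c⁻¹)) (w (v 0 1 0))) ∧
      (g (w (c * v 0 1 0 * c⁻¹)) (w (v 0 1 0)) * T.sg (g (w (c * v 0 1 0 * c⁻¹)) f₀) = 0 →
        A.1 0 0 = 1 ∧ A.1 1 1 = 1) ∧ A.1 0 1 = d * T.nm (g (w (c * v 0 1 0 * c⁻¹)) f₀) := by
  set x := w (c * v 0 1 0 * c⁻¹) with hx
  set α := g x f₀ with hα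
  set β := g x (w (v 0 1 0)) with hβ
  have hE : v 0 1 0 ∈ Q := I.E_le _ _
  have hxx : g x x = 0 := by rw [hx, hi _ hE _ hE, D.g_ee]
  have hmx : ∀ m, g m x = T.sg α * g m (w (v 0 1 0)) + T.sg β * g m f₀ := by
    intro m
    rw [D.decomp₀ x, D.g_add_right, D.g_smul_right, D.g_smul_right]
  have h0 : T.sg α * β + T.sg β * α = 0 := by
    have := hmx x
    rw [hxx] at this
    exact this.symm
  have h1 : T.sg (β * T.sg α) = β * T.sg α := by
    rw [map_mul, T.sg_sg]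
    have := T.two_F (β * T.sg α)
    linear_combination h0 - this
  obtain ⟨a, ha⟩ := T.fix _ h1
  have ha' : T.sg β * α = algebraMap k F a := by
    rw [ha, ← h1, map_mul, T.sg_sg]
  have hdet : (1 + d * a) * (1 + d * a) - (d * T.nm α) * (d * T.nm β) = 1 := by
    apply T.alg_inj
    have h2 := T.two_F (algebraMap k F d * algebraMap k F a)
    simp only [map_sub, map_mul, map_add, map_one, T.nm_eq]
    have h3 : algebraMap k F a * algebraMap k F a = α * T.sg α * (β * T.sg β) := by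
      nth_rewrite 1 [ha]
      rw [← ha']; ring
    linear_combination h2 + (algebraMap k F d * algebraMap k F d) * h3
  refine ⟨⟨!![1 + d * a, d * T.nm α; d * T.nm β, 1 + d * a], by
    rw [Matrix.det_fin_two]; exact hdet⟩, ⟨?_, fun m => ?_⟩, rfl, fun hz => ?_, rfl⟩
  · exact mul_mem (mul_mem hc (I.V_CR (I.v_mem _ _ _))) (inv_mem hc)
  · rw [D.matAct_tv I hc hl hi d m, ← hx, hmx]
    show g (m + (algebraMap k F d * (T.sg α * g m (w (v 0 1 0)) + T.sg β * g m f₀)) • x) f₀ =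
        algebraMap k F (1 + d * a) * g m f₀ + algebraMap k F (d * T.nm α) * g m (w (v 0 1 0)) ∧
      g (m + (algebraMap k F d * (T.sg α * g m (w (v 0 1 0)) + T.sg β * g m f₀)) • x) (w (v 0 1 0)) =
        algebraMap k F (d * T.nm β) * g m f₀ + algebraMap k F (1 + d * a) * g m (w (v 0 1 0))
    rw [D.g_add, D.g_smul, D.g_add, D.g_smul, ← hα, ← hβ]
    simp only [map_mul, map_add, map_one, T.nm_eq]
    constructor
    · linear_combination (algebraMap k F d * g m f₀) * ha'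
    · linear_combination (-(algebraMap k F d * g m (w (v 0 1 0)))) * ha
  · have ha0 : a = 0 := by
      apply T.alg_inj
      rw [ha, hz, map_zero]
    constructor
    · show 1 + d * a = 1
      rw [ha0, mul_zero, add_zero]
    · show 1 + d * a = 1
      rw [ha0, mul_zero, add_zero]

/-- the elements acting as matrices -/
def matGrp : Subgroup G where
  carrier := {x | ∃ A, D.MatAct x A}
  mul_mem' := by
    rintro x y ⟨A, hA⟩ ⟨B, hB⟩
    exact ⟨A * B, D.matAct_mul I hA hB⟩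
  one_mem' := ⟨1, D.matAct_one I⟩
  inv_mem' := by
    rintro x ⟨A, hA⟩
    exact ⟨A⁻¹, D.matAct_inv I hA⟩

theorem LL_matGrp : LL V R Q ≤ D.matGrp I := by
  unfold LL
  rw [closure_le]
  rintro x (hx | ⟨c, hc, a, ha, rfl⟩)
  · exact ⟨1, D.matAct_Q I hx⟩
  · obtain ⟨c', hc', hl, hi, hn⟩ := D.exists_lin I hc
    obtain ⟨α, β, δ, h1⟩ := I.v_surj _ ((mem_normalizer_iff.1 hn a).1 ha)
    have h2 : c * a * c⁻¹ = (c' * v α β 0 * c'⁻¹) * (c' * v 0 0 δ * c'⁻¹) := by
      have h3 : v α β δ = v α β 0 * v 0 0 δ := by rw [I.v_mul, add_zero, add_zero, zero_add]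
      have h4 : c * a * c⁻¹ = c' * (v α β δ) * c'⁻¹ := by rw [h1]; group
      rw [h4, h3]; group
    rw [h2]
    obtain ⟨A, hA, -⟩ := D.exists_matAct_tv I hc' hl hi δ
    exact mul_mem ⟨1, D.matAct_Q I (I.nor c' (I.CR_NR hc') _ (I.E_le _ _))⟩ ⟨A, hA⟩

/-- **`LL → SL(2, k)`** -/
noncomputable def piL : (LL V R Q) →* SL k where
  toFun x := (D.LL_matGrp I x.2).choose
  map_one' := D.matAct_unique I (D.LL_matGrp I (one_mem _)).choose_spec (D.matAct_one I)
  map_mul' x y := D.matAct_unique I (D.LL_matGrp I (x * y).2).choose_spec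
    (D.matAct_mul I (D.LL_matGrp I x.2).choose_spec (D.LL_matGrp I y.2).choose_spec)

theorem matAct_piL (x : LL V R Q) : D.MatAct x (D.piL I x) := (D.LL_matGrp I x.2).choose_spec

theorem piL_eq {x : LL V R Q} {A : SL k} (h : D.MatAct x A) : D.piL I x = A :=
  D.matAct_unique I (D.matAct_piL I x) h

theorem matAct_V (a : k) (b : F) (d : k) : D.MatAct (v a b d) (up d) := by
  have h3 : v a b d = v a b 0 * v 0 0 d := by rw [I.v_mul, add_zero, add_zero, zero_add]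
  have h4 : (up d : SL k) = 1 * up d := by rw [one_mul]
  rw [h3, h4]
  refine D.matAct_mul I (D.matAct_Q I (I.E_le _ _)) ⟨I.V_CR (I.v_mem _ _ _), fun m => ?_⟩
  rw [D.rho_tv I, D.g_add, D.g_add, D.g_smul, D.g_smul, D.g_ef, D.g_ee]
  simp

theorem piL_ker (x : LL V R Q) : D.piL I x = 1 ↔ (x : G) ∈ Q := by
  constructor
  · intro h
    have := D.matAct_piL I x
    rw [h] at this
    exact D.mem_Q_of_matAct I this
  · intro h
    exact D.piL_eq I (D.matAct_Q I h)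

theorem piL_surj : Function.Surjective (D.piL I) := by
  rw [← MonoidHom.range_eq_top]
  apply eq_top_of_up_dn
  · intro d
    exact ⟨⟨v 0 0 d, V_LL V R Q (I.v_mem _ _ _)⟩, D.piL_eq I (D.matAct_V I 0 0 d)⟩
  · intro d
    obtain ⟨c, hc, hl, hi, s, hs, h⟩ := D.exists_tran I D.f_ne D.g_ff
    have hN := I.CR_NR hc
    have hsn : T.nm s ≠ 0 := by
      intro h0
      have := T.nm_eq s
      rw [h0, map_zero] at this
      rcases mul_eq_zero.1 this.symm with h1 | h1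
      · exact hs h1
      · exact hs (by simpa using h1)
    obtain ⟨A, hA, h10, h1, h01⟩ := D.exists_matAct_tv I hc hl hi (d * (T.nm s)⁻¹)
    refine ⟨⟨c * v 0 0 (d * (T.nm s)⁻¹) * c⁻¹, conj_LL hN (I.v_mem _ _ _)⟩, ?_⟩
    rw [D.piL_eq I hA]
    have hx : w (c * v 0 1 0 * c⁻¹) = s • f₀ := by rw [← D.rho_e I hN, h]
    rw [hx, D.g_smul, D.g_smul, D.g_fe, D.g_ff, mul_one, mul_zero, map_zero, mul_zero] at h1
    rw [hx, D.g_smul, D.g_fe, mul_one] at h10
    rw [hx, D.g_smul, D.g_ff, mul_zero] at h01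
    have hn0 : T.nm 0 = 0 := by
      apply T.alg_inj
      rw [T.nm_eq, zero_mul, map_zero]
    obtain ⟨h00, h11⟩ := h1 rfl
    rw [ext_iff']
    refine ⟨h00, ?_, ?_, h11⟩
    · rw [h01, hn0, mul_zero, dn_01]
    · rw [h10, mul_assoc, inv_mul_cancel₀ hsn, mul_one, dn_10]

end Out

end Cfsg.Agent.Omega.NOne.SU

end
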