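import Mathlib
import Cfsg.Agent.Mrg.RankTwoClose.Braid
import Cfsg.Agent.Mrg.Omega.BTwo.Conj

section


/-!
# Quadrangles with a central parabolic: the input without torus and field

`structure QIn`: two groups `L` (`[L, R] = 1`, `Q = O₂(L)`, `R = [Q, Q]`), `X` (`O = O₂(X)`, `V` normal in
`X`, `[V, O] = 1`) with a common Sylow subgroup `U`.  `QIn.bn2`: `⟨L, X⟩` has a split `BN`-pair of rank two.
(`U₅(q)`: `L` of type `SU₃(q)`, `X` of type `L₂(q²)`, `V` the natural module `O₄⁻(q)`.)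
-/

set_option autoImplicit false

universe u

namespace Cfsg.Agent.RankTwoClose.QInput

open Cfsg.Agent.Omega.RootLemma Cfsg.Agent.RankTwoClose.UFour

variable {G : Type u} [Group G]

/-- The input. -/
structure QIn (S : Sylow 2 G) (L X U Q O V R A : Subgroup G) (n₀ m₀ z₀ w : G) : Prop where
  aL : PanOf.Abs L U Q n₀
  aX : PanOf.Abs X U O m₀
  /-- `U` is a Sylow subgroup of `L`, `X` -/
  sL : ∀ P ≤ L, IsPGroup 2 P → U ≤ P → P ≤ U
  sX : ∀ P ≤ X, IsPGroup 2 P → U ≤ P → P ≤ U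
  US : U ≤ S
  SL : ∀ s ∈ S, ∀ l ∈ L, s * l * s⁻¹ ∈ L
  LX : ∀ g ∈ L, cj g U = U → cj g X = X
  LV : ∀ g ∈ L, cj g U = U → cj g V = V
  XL : ∀ g ∈ X, cj g U = U → cj g L = L
  RV : R ≤ V
  VU : V ≤ U
  XV : X ≤ Subgroup.normalizer (V : Set G)
  OV : ∀ x ∈ O, ∀ v ∈ V, x * v = v * x
  CO : ∀ u ∈ U, (∀ v ∈ V, u * v = v * u) → u ∈ O
  LR : ∀ l ∈ L, ∀ z ∈ R, l * z = z * l
  comm : ⁅Q, Q⁆ = R
  sq : ∀ x ∈ Q, x * x ∈ R
  irr : ∀ N ≤ Q, (∀ l ∈ L, ∀ x ∈ N, l * x * l⁻¹ ∈ N) → N ≤ R ∨ Q ≤ N ⊔ R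
  QQ : ∀ g ∈ X, cj g U ≠ U → Q ⊓ cj g Q ≤ V
  RQ : ∀ g ∈ X, cj g U ≠ U → cj g R ⊓ Q = ⊥
  VR : ∀ g ∈ X, cj g U ≠ U → V ≤ cj g R ⊔ Q
  cE : ∀ g ∈ X, cj g U ≠ U → O.relIndex U ≤ Nat.card ↥((V ⊓ Q) ⊓ cj g (V ⊓ Q))
  opp : ∀ x ∈ V ⊓ Q, (∀ y ∈ cj n₀ (V ⊓ Q), x * y = y * x) → x ∈ R
  cD : Q.relIndex U ≤ Nat.card ↥((Q ⊓ Subgroup.centralizer (V : Set G)) ⊓
    cj n₀ (Q ⊓ Subgroup.centralizer (V : Set G)))
  ruling : ∀ v ∈ V, v ∉ Q → ∃ y ∈ cj n₀ V, cj (v * y * v) (cj n₀ U) = U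
  AL : A ≤ L
  AU : A ≤ Subgroup.normalizer (U : Set G)
  Aodd : Odd (Nat.card A)
  Aab : ∀ a ∈ A, ∀ b ∈ A, a * b = b * a
  AB : ∀ g ∈ L, cj g U = U → g ∈ U ⊔ A
  wQ : w ∈ Q
  cyc : Q ≤ Subgroup.closure {x | ∃ a ∈ A, x = a * w * a⁻¹} ⊔ R
  cent : ∀ s ∈ S, (∀ a ∈ A, a * s = s * a) → s ∈ R
  z₀R : z₀ ∈ R
  z₀1 : z₀ ≠ 1
  z₀S : ∀ s ∈ S, s * z₀ = z₀ * s
  c2 : ∃ N : Subgroup G, (∀ x ∈ N, x * z₀ = z₀ * x) ∧ IsPGroup 2 N ∧
    (∀ d, d * z₀ = z₀ * d → ∀ x ∈ N, d * x * d⁻¹ ∈ N) ∧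
    (∀ d, d * z₀ = z₀ * d → (∀ x ∈ N, d * x = x * d) → d ∈ N)
  tr : ∀ z ∈ R, z ≠ 1 → ∃ h, (∀ x ∈ Q, h * x * h⁻¹ ∈ Q) ∧ h * z₀ * h⁻¹ = z
  fixR : ∀ z ∈ R, (∀ g ∈ X, cj g U = U → g * z = z * g) → z = 1
  pair : ∃ a ∈ R, ∃ b ∈ R, a ≠ 1 ∧ b ≠ 1 ∧ a ≠ b

namespace QIn

variable {S : Sylow 2 G} {L X U Q O V R A : Subgroup G} {n₀ m₀ z₀ w : G}

section basic

variable (h : QIn S L X U Q O V R A n₀ m₀ z₀ w)
include h

theorem QU : Q ≤ U := h.aL.QU

theorem OU : O ≤ U := h.aX.QU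

theorem RQ' : R ≤ Q := by
  rw [← h.comm]
  exact (Subgroup.commutator_le).2 fun x hx y hy => by
    rw [commutatorElement_def]
    exact mul_mem (mul_mem (mul_mem hx hy) (inv_mem hx)) (inv_mem hy)

/-- `2`-elements of `L` normalising `U` -/
theorem two_L {x : G} (hx : x ∈ L) (hU : cj x U = U) {n : ℕ} (h2 : x ^ 2 ^ n = 1) : x ∈ U := by
  have h1 : IsPGroup 2 ((Subgroup.zpowers x ⊔ U : Subgroup G)) :=
    IsPGroup.to_sup_of_normal_right' (isPGroup_zpowers_of_pow h2) h.aL.two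
      (by rw [Subgroup.zpowers_le]; exact mem_norm_iff.mpr hU)
  exact h.sL _ (sup_le (by rw [Subgroup.zpowers_le]; exact hx) h.aL.UL) h1 le_sup_right
    (Subgroup.mem_sup_left (Subgroup.mem_zpowers x))

theorem two_X {x : G} (hx : x ∈ X) (hU : cj x U = U) {n : ℕ} (h2 : x ^ 2 ^ n = 1) : x ∈ U := by
  have h1 : IsPGroup 2 ((Subgroup.zpowers x ⊔ U : Subgroup G)) :=
    IsPGroup.to_sup_of_normal_right' (isPGroup_zpowers_of_pow h2) h.aL.two
      (by rw [Subgroup.zpowers_le]; exact mem_norm_iff.mpr hU)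
  exact h.sX _ (sup_le (by rw [Subgroup.zpowers_le]; exact hx) h.aX.UL) h1 le_sup_right
    (Subgroup.mem_sup_left (Subgroup.mem_zpowers x))

/-- The common Borel subgroup. -/
theorem B0_norm_L : (L ⊓ Subgroup.normalizer (U : Set G)) ⊔ (X ⊓ Subgroup.normalizer (U : Set G)) ≤
    Subgroup.normalizer (L : Set G) := by
  refine sup_le (inf_le_left.trans Subgroup.le_normalizer) fun x hx => ?_
  obtain ⟨h1, h2⟩ := Subgroup.mem_inf.mp hx
  exact mem_norm_iff.mpr (h.XL x h1 (mem_norm_iff.mp h2))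

theorem B0_norm_X : (L ⊓ Subgroup.normalizer (U : Set G)) ⊔ (X ⊓ Subgroup.normalizer (U : Set G)) ≤
    Subgroup.normalizer (X : Set G) := by
  refine sup_le (fun x hx => ?_) (inf_le_left.trans Subgroup.le_normalizer)
  obtain ⟨h1, h2⟩ := Subgroup.mem_inf.mp hx
  exact mem_norm_iff.mpr (h.LX x h1 (mem_norm_iff.mp h2))

theorem B0_norm_V : (L ⊓ Subgroup.normalizer (U : Set G)) ⊔ (X ⊓ Subgroup.normalizer (U : Set G)) ≤
    Subgroup.normalizer (V : Set G) := by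
  refine sup_le (fun x hx => ?_) (inf_le_left.trans h.XV)
  obtain ⟨h1, h2⟩ := Subgroup.mem_inf.mp hx
  exact mem_norm_iff.mpr (h.LV x h1 (mem_norm_iff.mp h2))

/-- `2`-elements of the Borel subgroup -/
theorem two_B0 [Finite G] {x : G}
    (hx : x ∈ (L ⊓ Subgroup.normalizer (U : Set G)) ⊔ (X ⊓ Subgroup.normalizer (U : Set G)))
    {n : ℕ} (h2 : x ^ 2 ^ n = 1) : x ∈ U := by
  have hn : X ⊓ Subgroup.normalizer (U : Set G) ≤
      Subgroup.normalizer ((L ⊓ Subgroup.normalizer (U : Set G) : Subgroup G) : Set G) := by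
    intro y hy
    obtain ⟨h1, h3⟩ := Subgroup.mem_inf.mp hy
    exact norm_inf (mem_norm_iff.mpr (h.XL y h1 (mem_norm_iff.mp h3))) (Subgroup.le_normalizer h3)
  rw [sup_comm] at hx
  obtain ⟨b, hb, l, hl, rfl⟩ := mem_sup_norm hn hx
  obtain ⟨hbX, hbN⟩ := Subgroup.mem_inf.mp hb
  -- the odd part of the order of `b`
  obtain ⟨j, m, hm, e⟩ := Nat.exists_eq_two_pow_mul_odd (orderOf_pos b).ne'
  have hbm : (b ^ m) ^ 2 ^ j = 1 := by
    rw [← pow_mul, mul_comm, ← e, pow_orderOf_eq_one]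
  have hbU : b ^ m ∈ U := h.two_X (pow_mem hbX m) (mem_norm_iff.mp (pow_mem hbN m)) hbm
  have hbL : b ^ m ∈ L ⊓ Subgroup.normalizer (U : Set G) :=
    Subgroup.mem_inf.mpr ⟨h.aL.UL hbU, Subgroup.le_normalizer hbU⟩
  have key : ∀ i : ℕ, ∃ v ∈ L ⊓ Subgroup.normalizer (U : Set G), (b * l) ^ i = b ^ i * v := by
    intro i
    induction i with
    | zero => exact ⟨1, one_mem _, by simp⟩
    | succ i ih =>
      obtain ⟨v, hv, e2⟩ := ih
      refine ⟨b⁻¹ * v * b * l, mul_mem (conj_mem' (hn hb) hv) hl, ?_⟩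
      rw [pow_succ, e2, pow_succ]; group
  obtain ⟨v, hv, e2⟩ := key m
  have h3 : (b * l) ^ m ∈ L ⊓ Subgroup.normalizer (U : Set G) := by
    rw [e2]; exact mul_mem hbL hv
  have h4 : ((b * l) ^ m) ^ 2 ^ n = 1 := by
    rw [← pow_mul, mul_comm, pow_mul, h2, one_pow]
  obtain ⟨h5, h6⟩ := Subgroup.mem_inf.mp h3
  have h7 := h.two_L h5 (mem_norm_iff.mp h6) h4
  -- `(b l)` is a power of `(b l) ^ m`
  have h8 : Nat.Coprime m (2 ^ n) := Nat.Coprime.pow_right n (Nat.coprime_two_right.mpr hm)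
  have h9 : b * l ∈ Subgroup.zpowers ((b * l) ^ m) := by
    have hg : Nat.gcd m (2 ^ n) = 1 := h8
    have hb := Nat.gcd_eq_gcd_ab m (2 ^ n)
    rw [hg] at hb
    refine ⟨Nat.gcdA m (2 ^ n), ?_⟩
    show ((b * l) ^ m) ^ (Nat.gcdA m (2 ^ n)) = b * l
    have h10 : (b * l) ^ ((1 : ℕ) : ℤ) = b * l := by simp
    rw [← zpow_natCast, ← zpow_mul]
    conv_rhs => rw [← h10, hb, zpow_add, zpow_mul _ ((2 ^ n : ℕ) : ℤ), zpow_natCast _ (2 ^ n), h2,
      one_zpow, mul_one]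
  exact (Subgroup.zpowers_le.mpr h7) h9

end basic

section opp

variable (h : QIn S L X U Q O V R A n₀ m₀ z₀ w)
include h

theorem RU : R ≤ U := h.RV.trans h.VU

theorem VL : V ≤ L := h.VU.trans h.aL.UL

/-- `R` commutes with `V` -/
theorem R_V {r v : G} (hr : r ∈ R) (hv : v ∈ V) : v * r = r * v := h.LR v (h.VL hv) r hr

theorem cj_L_R {g : G} (hg : g ∈ L) : cj g R = R := by
  ext x
  rw [mem_cj]
  constructor
  · intro hx
    have h1 := h.LR g hg _ hx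
    have e : x = g⁻¹ * x * g := by
      have : g * (g⁻¹ * x * g) = g⁻¹ * x * g * g := h1
      have h2 : x * g = g⁻¹ * x * g * g := by rw [← this]; group
      exact mul_right_cancel h2
    rw [e]; exact hx
  · intro hx
    have h1 := h.LR g hg x hx
    have e : g⁻¹ * x * g = x := by rw [mul_assoc, ← h1]; group
    rw [e]; exact hx

theorem cj_L_Q {g : G} (hg : g ∈ L) : cj g Q = Q := mem_norm_iff.mp (h.aL.LQ hg)

/-- the commutator of two elements of `Q`, as a correction -/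
theorem Q_comm {x y : G} (hx : x ∈ Q) (hy : y ∈ Q) : x * y * x⁻¹ * y⁻¹ ∈ R := by
  rw [← h.comm, ← commutatorElement_def]
  exact Subgroup.commutator_mem_commutator hx hy

theorem U_E : U ≤ Subgroup.normalizer ((V ⊓ Q : Subgroup G) : Set G) := fun _ hu =>
  norm_inf (h.XV (h.aX.UL hu)) (h.aL.LQ (h.aL.UL hu))

theorem inv_square_mem : n₀ * n₀ ∈ L ∧ cj (n₀ * n₀) U = U :=
  ⟨mul_mem h.aL.nL h.aL.nL, by rw [cj_mul, h.aL.swap]⟩

/-- `opp`, other direction -/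
theorem opp' {y : G} (hy : y ∈ cj n₀ (V ⊓ Q)) (hc : ∀ x ∈ V ⊓ Q, x * y = y * x) : y ∈ R := by
  obtain ⟨hL, hU⟩ := h.inv_square_mem
  have hE2 : cj (n₀ * n₀) (V ⊓ Q) = V ⊓ Q := by
    rw [cj_inf, h.LV _ hL hU, h.cj_L_Q hL]
  rw [mem_cj] at hy
  have h1 : n₀⁻¹ * y * n₀ ∈ R := by
    refine h.opp _ hy fun x hx => ?_
    -- `x ∈ cj n₀ E = cj n₀⁻¹ E`
    have h2 : cj n₀ (V ⊓ Q) = cj n₀⁻¹ (V ⊓ Q) := by
      conv_rhs => rw [← hE2, cj_mul, cj_inv_cj]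
    rw [h2, mem_cj, inv_inv] at hx
    have h3 := hc _ hx
    calc n₀⁻¹ * y * n₀ * x = n₀⁻¹ * (y * (n₀ * x * n₀⁻¹)) * n₀ := by group
      _ = n₀⁻¹ * ((n₀ * x * n₀⁻¹) * y) * n₀ := by rw [h3]
      _ = x * (n₀⁻¹ * y * n₀) := by group
  have h2 : cj n₀⁻¹ R = R := h.cj_L_R (inv_mem h.aL.nL)
  rw [← h2, mem_cj, inv_inv] at h1
  rwa [show n₀ * (n₀⁻¹ * y * n₀) * n₀⁻¹ = y by group] at h1

/-- an element of `Q` whose commutators are in `R`: correcting by `q ∈ Q` -/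
theorem corr {q x : G} (hq : q ∈ Q) (hx : x ∈ Q) : ∃ r ∈ R, q * x * q⁻¹ = r * x := by
  refine ⟨_, h.Q_comm hq hx, by group⟩

variable {n k q : G} (hn : n ∈ L) (hk : k ∈ U) (hq : q ∈ Q) (e : q * n = k * n₀ * k⁻¹)
include hn hk hq e

/-- `opp` for `n = q⁻¹ k n₀ k⁻¹` -/
theorem opp_n {x : G} (hx : x ∈ V ⊓ Q) (hc : ∀ y ∈ cj n (V ⊓ Q), x * y = y * x) : x ∈ R := by
  have hEk : cj k⁻¹ (V ⊓ Q) = V ⊓ Q := mem_norm_iff.mp (inv_mem (h.U_E hk))
  have hkL : k ∈ L := h.aL.UL hk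
  have h1 : k⁻¹ * x * k ∈ R := by
    refine h.opp _ (by
      have := conj_mem' (h.U_E hk) hx
      exact this) fun y hy => ?_
    -- `k y k⁻¹ = q y₁ q⁻¹` with `y₁ ∈ cj n E`
    have h2 : q⁻¹ * (k * y * k⁻¹) * q ∈ cj n (V ⊓ Q) := by
      have e1 : cj n (V ⊓ Q) = cj q⁻¹ (cj k (cj n₀ (V ⊓ Q))) := by
        have e2 : n = q⁻¹ * (k * n₀ * k⁻¹) := by rw [← e]; group
        conv_lhs => rw [e2, cj_mul, cj_mul, cj_mul, hEk]
      rw [e1, mem_cj, mem_cj, inv_inv]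
      rwa [show k⁻¹ * (q * (q⁻¹ * (k * y * k⁻¹) * q) * q⁻¹) * k = y by group]
    have h3 := hc _ h2
    -- `q x q⁻¹ = r x`
    obtain ⟨r, hr, er⟩ := h.corr hq (Subgroup.mem_inf.mp hx).2
    have hyQ : k * y * k⁻¹ ∈ Q := by
      have : y ∈ Q := by
        have h4 := cj_mono (g := n₀) (inf_le_right : V ⊓ Q ≤ Q) hy
        rwa [h.cj_L_Q h.aL.nL] at h4
      exact conj_mem (h.aL.LQ hkL) this
    have h5 : (q * x * q⁻¹) * (k * y * k⁻¹) = (k * y * k⁻¹) * (q * x * q⁻¹) := by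
      calc (q * x * q⁻¹) * (k * y * k⁻¹) = q * (x * (q⁻¹ * (k * y * k⁻¹) * q)) * q⁻¹ := by group
        _ = q * ((q⁻¹ * (k * y * k⁻¹) * q) * x) * q⁻¹ := by rw [h3]
        _ = (k * y * k⁻¹) * (q * x * q⁻¹) := by group
    rw [er] at h5
    have hyr : (k * y * k⁻¹) * r = r * (k * y * k⁻¹) :=
      h.LR _ (h.aL.UL (h.QU hyQ)) r hr
    have h6 : x * (k * y * k⁻¹) = (k * y * k⁻¹) * x := by
      apply mul_left_cancel (a := r)
      calc r * (x * (k * y * k⁻¹)) = r * x * (k * y * k⁻¹) := by group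
        _ = (k * y * k⁻¹) * (r * x) := h5
        _ = ((k * y * k⁻¹) * r) * x := by group
        _ = r * ((k * y * k⁻¹) * x) := by rw [hyr]; group
    calc k⁻¹ * x * k * y = k⁻¹ * (x * (k * y * k⁻¹)) * k := by group
      _ = k⁻¹ * ((k * y * k⁻¹) * x) * k := by rw [h6]
      _ = y * (k⁻¹ * x * k) := by group
  have h2 : cj k⁻¹ R = R := h.cj_L_R (inv_mem hkL)
  rw [← h2, mem_cj, inv_inv] at h1
  rwa [show k * (k⁻¹ * x * k) * k⁻¹ = x by group] at h1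

/-- `opp'` for `n` -/
theorem opp_n' {y : G} (hy : y ∈ cj n (V ⊓ Q)) (hc : ∀ x ∈ V ⊓ Q, x * y = y * x) : y ∈ R := by
  have hEk : cj k⁻¹ (V ⊓ Q) = V ⊓ Q := mem_norm_iff.mp (inv_mem (h.U_E hk))
  have hkL : k ∈ L := h.aL.UL hk
  have hyQ : y ∈ Q := by
    have h4 := cj_mono (g := n) (inf_le_right : V ⊓ Q ≤ Q) hy
    rwa [h.cj_L_Q hn] at h4
  have e1 : cj n (V ⊓ Q) = cj q⁻¹ (cj k (cj n₀ (V ⊓ Q))) := by
    have e2 : n = q⁻¹ * (k * n₀ * k⁻¹) := by rw [← e]; group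
    conv_lhs => rw [e2, cj_mul, cj_mul, cj_mul, hEk]
  rw [e1, mem_cj, mem_cj, inv_inv] at hy
  obtain ⟨r, hr, er⟩ := h.corr hq hyQ
  have h1 : k⁻¹ * (q * y * q⁻¹) * k ∈ R := by
    refine h.opp' hy fun x hx => ?_
    have hx' : k * x * k⁻¹ ∈ V ⊓ Q := conj_mem (h.U_E hk) hx
    have h3 := hc _ hx'
    rw [er]
    have hxr : (k * x * k⁻¹) * r = r * (k * x * k⁻¹) :=
      h.LR _ (h.VL (Subgroup.mem_inf.mp hx').1) r hr
    calc x * (k⁻¹ * (r * y) * k) = k⁻¹ * (((k * x * k⁻¹) * r) * y) * k := by group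
      _ = k⁻¹ * (r * ((k * x * k⁻¹) * y)) * k := by rw [hxr]; group
      _ = k⁻¹ * (r * (y * (k * x * k⁻¹))) * k := by rw [h3]
      _ = k⁻¹ * (r * y) * k * x := by group
  have h2 : cj k⁻¹ R = R := h.cj_L_R (inv_mem hkL)
  rw [← h2, mem_cj, inv_inv] at h1
  have h5 : r * y ∈ R := by
    rw [er] at h1
    rwa [show k * (k⁻¹ * (r * y) * k) * k⁻¹ = r * y by group] at h1
  have h6 := mul_mem (inv_mem hr) h5
  rwa [inv_mul_cancel_left] at h6

/-- conjugates of subgroups between `R` and `Q` -/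
theorem cj_n {D : Subgroup G} (hRD : R ≤ D) (hDQ : D ≤ Q) (hUD : U ≤ Subgroup.normalizer (D : Set G)) :
    cj n D = cj k (cj n₀ D) := by
  have hkL : k ∈ L := h.aL.UL hk
  have hDk : cj k⁻¹ D = D := mem_norm_iff.mp (inv_mem (hUD hk))
  have e1 : cj q (cj n D) = cj k (cj n₀ D) := by
    rw [← cj_mul, e, cj_mul, hDk, cj_mul]
  have h1 : cj q (cj n D) = cj n D := by
    have hnD : cj n D ≤ Q := by
      have h4 := cj_mono (g := n) hDQ
      rwa [h.cj_L_Q hn] at h4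
    have hRn : R ≤ cj n D := by
      have h4 := cj_mono (g := n) hRD
      rwa [h.cj_L_R hn] at h4
    rw [← mem_norm_iff]
    have key : ∀ p ∈ Q, ∀ x ∈ cj n D, p * x * p⁻¹ ∈ cj n D := by
      intro p hp x hx
      obtain ⟨r, hr, er⟩ := h.corr hp (hnD hx)
      rw [er]
      exact mul_mem (hRn hr) hx
    rw [Subgroup.mem_normalizer_iff]
    intro x
    constructor
    · exact key q hq x
    · intro hx
      have := key q⁻¹ (inv_mem hq) _ hx
      rwa [show q⁻¹ * (q * x * q⁻¹) * q⁻¹⁻¹ = x by group] at this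
  rw [← e1, h1]

end opp

end QIn

end Cfsg.Agent.RankTwoClose.QInput

end

section


/-!
# Quadrangles with a central parabolic: the supplements `X4`, `X1`
-/

set_option autoImplicit false

universe u

namespace Cfsg.Agent.RankTwoClose.QInput

open Cfsg.Agent.Omega.RootLemma Cfsg.Agent.RankTwoClose.UFour

variable {G : Type u} [Group G]

theorem le_sup_of_card [Finite G] {F K U : Subgroup G} (hF : F ≤ U) (hK : K ≤ U) (hd : F ⊓ K = ⊥)
    (hc : K.relIndex U ≤ Nat.card F) : U ≤ F ⊔ K := by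
  have h1 : Nat.card K * K.relIndex U = Nat.card U := by
    have := Subgroup.relIndex_mul_relIndex ⊥ K U bot_le hK
    rwa [Subgroup.relIndex_bot_left, Subgroup.relIndex_bot_left] at this
  have h2 : Nat.card F * Nat.card K ≤ Nat.card ↥(F ⊔ K) := by
    rw [← Nat.card_prod]
    refine Nat.card_le_card_of_injective
      (fun x : F × K => (⟨(x.1 : G) * x.2, mul_mem (Subgroup.mem_sup_left x.1.2)
        (Subgroup.mem_sup_right x.2.2)⟩ : ↥(F ⊔ K))) ?_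
    rintro ⟨a, b⟩ ⟨c, d⟩ hab
    have e : (a : G) * b = c * d := congrArg Subtype.val hab
    have e2 : (c : G)⁻¹ * a = d * (b : G)⁻¹ := by
      calc (c : G)⁻¹ * a = (c : G)⁻¹ * (a * b) * (b : G)⁻¹ := by group
        _ = d * (b : G)⁻¹ := by rw [e]; group
    have e3 : (c : G)⁻¹ * a ∈ F ⊓ K := Subgroup.mem_inf.mpr
      ⟨mul_mem (inv_mem c.2) a.2, by rw [e2]; exact mul_mem d.2 (inv_mem b.2)⟩
    rw [hd, Subgroup.mem_bot] at e3
    have e4 : (a : G) = c := (inv_mul_eq_one.mp e3).symm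
    have e5 : (b : G) = d := by rw [e4] at e; exact mul_left_cancel e
    exact Prod.ext (Subtype.ext e4) (Subtype.ext e5)
  have h3 : Nat.card U ≤ Nat.card ↥(F ⊔ K) := by
    rw [← h1, mul_comm]
    exact (Nat.mul_le_mul_right _ hc).trans h2
  exact (Subgroup.eq_of_le_of_card_ge (sup_le hF hK) h3).ge

/-- The Borel subgroup. -/
abbrev B0 (L X U : Subgroup G) : Subgroup G :=
  (L ⊓ Subgroup.normalizer (U : Set G)) ⊔ (X ⊓ Subgroup.normalizer (U : Set G))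

/-- The torus and the reflections. -/
structure Cx (L X U Q O : Subgroup G) (n₀ : G) (H : Subgroup G) (n k q m : G) : Prop where
  cpl : Cfsg.Agent.Omega.Hex.Cpl U (B0 L X U) H
  PL : Quad.Pan L U Q H n
  PX : Quad.Pan X U O H m
  nn : cj n (cj n U) = U
  mm : cj m (cj m U) = U
  hk : k ∈ U
  hq : q ∈ Q
  e : q * n = k * n₀ * k⁻¹
  nU : cj n U = cj k (cj n₀ U)
  bor : ∀ t ∈ L, cj t U = U → cj t (cj n U) = cj n U → t ∈ Q ⊔ (H ⊓ L)

namespace QIn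

variable {S : Sylow 2 G} {L X U Q O V R A : Subgroup G} {n₀ m₀ z₀ w : G}
  (h : QIn S L X U Q O V R A n₀ m₀ z₀ w) {H : Subgroup G} {n k q m : G}
  (c : Cx L X U Q O n₀ H n k q m)
include h c

theorem cn_R : cj n R = R := h.cj_L_R c.PL.nL

theorem cn_Q : cj n Q = Q := h.cj_L_Q c.PL.nL

theorem cm_V : cj m V = V := mem_norm_iff.mp (h.XV c.PX.nL)

theorem cm_inv_ne : cj m⁻¹ U ≠ U := by
  intro h1
  apply c.PX.ne
  have := congrArg (cj m) h1
  rwa [cj_cj_inv, eq_comm] at this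

theorem X_norm_V {x : G} (hx : x ∈ X) : cj x V = V := mem_norm_iff.mp (h.XV hx)

/-- `X4` -/
theorem X4 [Finite G] : U ≤ cj n ((V ⊓ Q) ⊓ cj m (V ⊓ Q)) ⊔ O := by
  have hF : cj n ((V ⊓ Q) ⊓ cj m (V ⊓ Q)) ≤ Q := by
    refine le_trans (cj_mono (inf_le_left.trans inf_le_right)) ?_
    rw [h.cn_Q c]
  refine le_sup_of_card (hF.trans h.QU) h.OU ?_ ?_
  · rw [eq_bot_iff]
    intro x hx
    obtain ⟨hx1, hx2⟩ := Subgroup.mem_inf.mp hx
    rw [cj_inf] at hx1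
    obtain ⟨hx3, hx4⟩ := Subgroup.mem_inf.mp hx1
    have hxR : x ∈ R := h.opp_n' c.PL.nL c.hk c.hq c.e hx3 fun y hy =>
      (h.OV x hx2 y (Subgroup.mem_inf.mp hy).1).symm
    -- `x ∈ cj m Q`
    have h1 : x ∈ cj m (V ⊓ Q) := by
      rw [mem_cj] at hx4
      have : n⁻¹ * x * n = x := by
        rw [mul_assoc, ← h.LR n c.PL.nL x hxR]; group
      rwa [this] at hx4
    rw [mem_cj] at h1
    have h2 : m⁻¹ * x * m ∈ cj m⁻¹ R ⊓ Q := Subgroup.mem_inf.mpr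
      ⟨by rw [mem_cj, inv_inv]; rwa [show m * (m⁻¹ * x * m) * m⁻¹ = x by group],
        (Subgroup.mem_inf.mp h1).2⟩
    rw [h.RQ m⁻¹ (inv_mem c.PX.nL) (h.cm_inv_ne c), Subgroup.mem_bot] at h2
    rw [Subgroup.mem_bot]
    calc x = m * (m⁻¹ * x * m) * m⁻¹ := by group
      _ = 1 := by rw [h2]; group
  · rw [card_cj]
    exact h.cE m c.PX.nL c.PX.ne

theorem D_ge : R ≤ Q ⊓ Subgroup.centralizer (V : Set G) := fun r hr =>
  Subgroup.mem_inf.mpr ⟨h.RQ' hr, Subgroup.mem_centralizer_iff.mpr fun _ hv => h.R_V hr hv⟩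

theorem centralizer_norm {g : G} (hg : g ∈ Subgroup.normalizer (V : Set G)) :
    g ∈ Subgroup.normalizer ((Subgroup.centralizer (V : Set G) : Subgroup G) : Set G) := by
  have _ := c.mm
  have _ := h.RV
  have key : ∀ g ∈ Subgroup.normalizer (V : Set G), ∀ x ∈ Subgroup.centralizer (V : Set G),
      g * x * g⁻¹ ∈ Subgroup.centralizer (V : Set G) := by
    intro g hg x hx
    rw [Subgroup.mem_centralizer_iff] at hx ⊢
    intro v hv
    have h1 := hx _ (conj_mem' hg hv)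
    calc v * (g * x * g⁻¹) = g * ((g⁻¹ * v * g) * x) * g⁻¹ := by group
      _ = g * (x * (g⁻¹ * v * g)) * g⁻¹ := by rw [h1]
      _ = g * x * g⁻¹ * v := by group
  rw [Subgroup.mem_normalizer_iff]
  intro x
  constructor
  · exact key g hg x
  · intro hx
    have := key _ (inv_mem hg) _ hx
    rwa [show g⁻¹ * (g * x * g⁻¹) * g⁻¹⁻¹ = x by group] at this

theorem U_D : U ≤ Subgroup.normalizer ((Q ⊓ Subgroup.centralizer (V : Set G) : Subgroup G) : Set G) :=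
  fun _ hu => norm_inf (h.aL.LQ (h.aL.UL hu)) (h.centralizer_norm c (h.XV (h.aX.UL hu)))

theorem D_O : Q ⊓ Subgroup.centralizer (V : Set G) ≤ O := by
  have _ := c.mm
  intro d hd
  obtain ⟨h1, h2⟩ := Subgroup.mem_inf.mp hd
  exact h.CO d (h.QU h1) fun v hv => (Subgroup.mem_centralizer_iff.mp h2 v hv).symm

/-- `X1` -/
theorem X1 [Finite G] : U ≤ cj m ((Q ⊓ Subgroup.centralizer (V : Set G)) ⊓
    cj n (Q ⊓ Subgroup.centralizer (V : Set G))) ⊔ Q := by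
  have hF : cj m ((Q ⊓ Subgroup.centralizer (V : Set G)) ⊓
      cj n (Q ⊓ Subgroup.centralizer (V : Set G))) ≤ O := by
    refine le_trans (cj_mono (inf_le_left.trans (h.D_O c))) ?_
    rw [mem_norm_iff.mp (c.PX.norm c.PX.nL)]
  refine le_sup_of_card (hF.trans h.OU) h.QU ?_ ?_
  · rw [eq_bot_iff]
    intro x hx
    obtain ⟨hx1, hx2⟩ := Subgroup.mem_inf.mp hx
    rw [mem_cj] at hx1
    obtain ⟨hx3, hx4⟩ := Subgroup.mem_inf.mp hx1
    -- `x ∈ V`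
    have hxV : x ∈ V := h.QQ m c.PX.nL c.PX.ne (Subgroup.mem_inf.mpr
      ⟨hx2, by rw [mem_cj]; exact (Subgroup.mem_inf.mp hx3).1⟩)
    have hyV : m⁻¹ * x * m ∈ V := conj_mem' (h.XV c.PX.nL) hxV
    have hyR : m⁻¹ * x * m ∈ R := by
      refine h.opp_n c.PL.nL c.hk c.hq c.e (Subgroup.mem_inf.mpr
        ⟨hyV, (Subgroup.mem_inf.mp hx3).1⟩) fun y hy => ?_
      rw [mem_cj] at hx4 hy
      have h1 := Subgroup.mem_centralizer_iff.mp (Subgroup.mem_inf.mp hx4).2 _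
        (Subgroup.mem_inf.mp hy).1
      calc m⁻¹ * x * m * y = n * ((n⁻¹ * (m⁻¹ * x * m) * n) * (n⁻¹ * y * n)) * n⁻¹ := by group
        _ = n * ((n⁻¹ * y * n) * (n⁻¹ * (m⁻¹ * x * m) * n)) * n⁻¹ := by rw [h1]
        _ = y * (m⁻¹ * x * m) := by group
    have h2 : x ∈ cj m R ⊓ Q := Subgroup.mem_inf.mpr ⟨mem_cj.mpr hyR, hx2⟩
    rwa [h.RQ m c.PX.nL c.PX.ne] at h2
  · rw [card_cj, h.cj_n c.PL.nL c.hk c.hq c.e (h.D_ge c) inf_le_left (h.U_D c)]
    have h2 : ∀ D D' : Subgroup G, cj k D = D → Nat.card ↥(D ⊓ cj k D') = Nat.card ↥(D ⊓ D') := by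
      intro D D' hD
      rw [← card_cj k (D ⊓ D'), cj_inf, hD]
    rw [h2 _ _ (mem_norm_iff.mp (h.U_D c c.hk))]
    exact h.cD

end QIn

end Cfsg.Agent.RankTwoClose.QInput

end

section


/-!
# Quadrangles with a central parabolic: the torus, the central root group
-/

set_option autoImplicit false

universe u

namespace Cfsg.Agent.RankTwoClose.QInput

open Cfsg.Agent.Omega.RootLemma Cfsg.Agent.RankTwoClose.UFour

variable {G : Type u} [Group G]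

theorem exists_pow_one {P : Subgroup G} (hP : IsPGroup 2 P) {x : G} (hx : x ∈ P) :
    ∃ j, x ^ 2 ^ j = 1 := by
  obtain ⟨j, hj⟩ := hP ⟨x, hx⟩
  exact ⟨j, congrArg Subtype.val hj⟩

namespace QIn

variable {S : Sylow 2 G} {L X U Q O V R A : Subgroup G} {n₀ m₀ z₀ w : G}

section B0

variable [Finite G] (h : QIn S L X U Q O V R A n₀ m₀ z₀ w)
include h

theorem nt : Cfsg.Agent.Omega.Hex.NT U (B0 L X U) := by
  have hUB : U ≤ B0 L X U := fun x hx =>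
    Subgroup.mem_sup_left (Subgroup.mem_inf.mpr ⟨h.aL.UL hx, Subgroup.le_normalizer hx⟩)
  have hn : B0 L X U ≤ Subgroup.normalizer (U : Set G) := sup_le inf_le_right inf_le_right
  refine ⟨hUB, hn, h.aL.two, ?_⟩
  by_contra hodd
  rw [Nat.not_odd_iff_even, even_iff_two_dvd] at hodd
  have hN : (U.subgroupOf (B0 L X U)).Normal := Subgroup.normal_subgroupOf_of_le_normalizer hn
  have h2 : 2 ∣ Nat.card (↥(B0 L X U) ⧸ U.subgroupOf (B0 L X U)) := hodd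
  have : Fact (Nat.Prime 2) := ⟨Nat.prime_two⟩
  obtain ⟨t, ht⟩ := exists_prime_orderOf_dvd_card' 2 h2
  obtain ⟨b, rfl⟩ := QuotientGroup.mk_surjective t
  have hb2 : (b : G) ^ 2 ∈ U := by
    have h3 : (QuotientGroup.mk (b ^ 2) : ↥(B0 L X U) ⧸ U.subgroupOf (B0 L X U)) = 1 := by
      rw [QuotientGroup.mk_pow, ← ht, pow_orderOf_eq_one]
    rw [QuotientGroup.eq_one_iff, Subgroup.mem_subgroupOf] at h3
    exact h3
  have hbU : (b : G) ∉ U := by
    intro hb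
    have h3 : (QuotientGroup.mk b : ↥(B0 L X U) ⧸ U.subgroupOf (B0 L X U)) = 1 := by
      rw [QuotientGroup.eq_one_iff, Subgroup.mem_subgroupOf]
      exact hb
    rw [h3, orderOf_one] at ht
    omega
  obtain ⟨j, hj⟩ := exists_pow_one h.aL.two hb2
  apply hbU
  refine h.two_B0 b.2 (n := j + 1) ?_
  rw [pow_succ', pow_mul]
  exact hj

/-- **The torus and the reflections exist.** -/
theorem exists_cx : ∃ H n k q m u, Cx L X U Q O n₀ H n k q m ∧ u ∈ U ∧ cj u A = H ⊓ L := by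
  have t := h.nt
  obtain ⟨H, hH⟩ := t.exists_cpl
  have hodd : Odd (Nat.card H) := t.odd_cpl hH
  have hHU : H ≤ Subgroup.normalizer (U : Set G) := hH.HB.trans t.nU
  have hBUH : ∀ b ∈ B0 L X U, b ∈ U ⊔ H := by
    intro b hb
    obtain ⟨u, hu, x, hx, rfl⟩ := t.exists_mul hH hb
    exact mul_mem (Subgroup.mem_sup_left hu) (Subgroup.mem_sup_right hx)
  have hbL : ∀ g ∈ L, cj g U = U → g ∈ U ⊔ H := fun g hg hgU =>
    hBUH g (Subgroup.mem_sup_left (Subgroup.mem_inf.mpr ⟨hg, mem_norm_iff.mpr hgU⟩))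
  have hbX : ∀ g ∈ X, cj g U = U → g ∈ U ⊔ H := fun g hg hgU =>
    hBUH g (Subgroup.mem_sup_right (Subgroup.mem_inf.mpr ⟨hg, mem_norm_iff.mpr hgU⟩))
  obtain ⟨k, hk, n, -, PL, nU, nn, ⟨q, hq, e⟩, bor⟩ :=
    PanOf.exists_pan h.aL hodd (hH.HB.trans h.B0_norm_L) hHU hbL
  obtain ⟨-, -, m, -, PX, -, mm, -, -⟩ :=
    PanOf.exists_pan h.aX hodd (hH.HB.trans h.B0_norm_X) hHU hbX
  have hAB : A ≤ B0 L X U := fun a ha =>
    Subgroup.mem_sup_left (Subgroup.mem_inf.mpr ⟨h.AL ha, h.AU ha⟩)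
  obtain ⟨u, hu, huA⟩ := t.conj_le hH hAB h.Aodd
  have huA' : cj u A ≤ H := huA
  refine ⟨H, n, k, q, m, u, ⟨hH, PL, PX, nn, mm, hk, hq, e, nU, bor⟩, hu, ?_⟩
  have huAL : cj u A ≤ L := by
    refine (cj_mono h.AL).trans ?_
    rw [cj_eq_of_mem (h.aL.UL hu)]
  refine le_antisymm (le_inf huA' huAL) fun x hx => ?_
  obtain ⟨hxH, hxL⟩ := Subgroup.mem_inf.mp hx
  have hx1 : u⁻¹ * x * u ∈ U ⊔ A := by
    refine h.AB _ (mul_mem (mul_mem (inv_mem (h.aL.UL hu)) hxL) (h.aL.UL hu)) ?_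
    rw [cj_mul, cj_mul, cj_eq_of_mem hu, mem_norm_iff.mp (hHU hxH), cj_eq_of_mem (inv_mem hu)]
  rw [sup_comm] at hx1
  obtain ⟨a, ha, v, hv, e2⟩ := mem_sup_norm h.AU hx1
  have e3 : x = (u * a * u⁻¹) * (u * v * u⁻¹) := by
    calc x = u * (u⁻¹ * x * u) * u⁻¹ := by group
      _ = (u * a * u⁻¹) * (u * v * u⁻¹) := by rw [e2]; group
  have ha' : u * a * u⁻¹ ∈ cj u A := conj_mem_cj ha
  have h1 : u * v * u⁻¹ ∈ H := by
    have : u * v * u⁻¹ = (u * a * u⁻¹)⁻¹ * x := by rw [e3]; group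
    rw [this]
    exact mul_mem (inv_mem (huA' ha')) hxH
  have h2 : u * v * u⁻¹ = 1 :=
    eq_one_of_odd_two hodd h.aL.two h1 (mul_mem (mul_mem hu hv) (inv_mem hu))
  rw [e3, h2, mul_one]
  exact ha'

end B0

section root

variable [Finite G] (h : QIn S L X U Q O V R A n₀ m₀ z₀ w) {H : Subgroup G} {n k q m u : G}
  (c : Cx L X U Q O n₀ H n k q m) (hu : u ∈ U) (uA : cj u A = H ⊓ L)
include h c hu uA

theorem Hodd : Odd (Nat.card H) := by
  have _ := uA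
  have _ := hu
  exact h.nt.odd_cpl c.cpl

theorem H_U : H ≤ Subgroup.normalizer (U : Set G) := by
  have _ := uA
  have _ := hu
  exact c.cpl.HB.trans h.nt.nU

theorem Qmax {N : Subgroup G} (hN : N ≤ L) (h2 : IsPGroup 2 N)
    (hn : ∀ l ∈ L, ∀ x ∈ N, l * x * l⁻¹ ∈ N) : N ≤ Q := by
  have _ := uA
  have _ := hu
  have hUN : U ≤ Subgroup.normalizer (N : Set G) := fun x hx =>
    Central.mem_norm_of fun y hy => hn x (h.aL.UL hx) y hy
  have h1 : IsPGroup 2 ((U ⊔ N : Subgroup G)) := IsPGroup.to_sup_of_normal_right' h.aL.two h2 hUN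
  have h3 : N ≤ U := le_sup_right.trans (h.sL _ (sup_le h.aL.UL hN) h1 le_sup_left)
  intro x hx
  refine c.PL.inter (Subgroup.mem_inf.mpr ⟨h3 hx, ?_⟩)
  rw [mem_cj]
  refine h3 ?_
  have := hn n⁻¹ (inv_mem c.PL.nL) x hx
  rwa [inv_inv] at this

/-- **The central root group.** -/
theorem cr : Central.CRoot S L Q R (H ⊓ L) z₀ (u * w * u⁻¹) := by
  have huL : u ∈ L := h.aL.UL hu
  have hA : ∀ a ∈ H ⊓ L, ∃ b ∈ A, a = u * b * u⁻¹ := by
    intro a ha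
    rw [← uA, mem_cj] at ha
    exact ⟨_, ha, by group⟩
  refine
    { SL := h.SL
      QL := h.QU.trans h.aL.UL
      Q2 := h.aL.two.to_le h.QU
      Qn := fun l hl x hx => conj_mem (h.aL.LQ hl) hx
      Qmax := fun N hN h2 hn => h.Qmax c hu uA hN h2 hn
      ZL := h.LR
      comm := h.comm
      sq := h.sq
      irr := h.irr
      z₀Z := h.z₀R
      z₀1 := h.z₀1
      z₀S := h.z₀S
      c2 := h.c2
      tr := h.tr
      Aab := ?_
      Aodd := ?_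
      AZ := fun a ha z hz => h.LR a (Subgroup.mem_inf.mp ha).2 z hz
      AQ := fun a ha x hx => conj_mem (h.aL.LQ (Subgroup.mem_inf.mp ha).2) hx
      AL := fun a ha x hx => mul_mem (mul_mem (Subgroup.mem_inf.mp ha).2 hx)
        (inv_mem (Subgroup.mem_inf.mp ha).2)
      AS := ?_
      cent := ?_
      wQ := conj_mem (h.aL.LQ huL) h.wQ
      cyc := ?_ }
  · intro a ha b hb
    obtain ⟨a', ha', rfl⟩ := hA a ha
    obtain ⟨b', hb', rfl⟩ := hA b hb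
    calc u * a' * u⁻¹ * (u * b' * u⁻¹) = u * (a' * b') * u⁻¹ := by group
      _ = u * (b' * a') * u⁻¹ := by rw [h.Aab a' ha' b' hb']
      _ = _ := by group
  · rw [← uA, card_cj]; exact h.Aodd
  · intro a ha s hs
    have haL := (Subgroup.mem_inf.mp ha).2
    have e : a * s * a⁻¹ * s⁻¹ = a * (s * a⁻¹ * s⁻¹) := by group
    rw [e]
    exact mul_mem haL (h.SL s hs _ (inv_mem haL))
  · intro s hs hc
    have huS : u ∈ S := h.US hu
    have h1 : u⁻¹ * s * u ∈ R := by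
      refine h.cent _ (mul_mem (mul_mem (inv_mem huS) hs) huS) fun a ha => ?_
      have h2 := hc (u * a * u⁻¹) (by rw [← uA]; exact conj_mem_cj ha)
      calc a * (u⁻¹ * s * u) = u⁻¹ * ((u * a * u⁻¹) * s) * u := by group
        _ = u⁻¹ * (s * (u * a * u⁻¹)) * u := by rw [h2]
        _ = u⁻¹ * s * u * a := by group
    rw [← h.cj_L_R (inv_mem huL), mem_cj, inv_inv] at h1
    rwa [show u * (u⁻¹ * s * u) * u⁻¹ = s by group] at h1
  · have h1 := cj_mono (g := u) h.cyc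
    rw [h.cj_L_Q huL, cj_sup, h.cj_L_R huL] at h1
    refine h1.trans (sup_le_sup_right ?_ _)
    rw [cj, MonoidHom.map_closure, Subgroup.closure_le]
    rintro _ ⟨_, ⟨a, ha, rfl⟩, rfl⟩
    refine Subgroup.subset_closure ⟨u * a * u⁻¹, by rw [← uA]; exact conj_mem_cj ha, ?_⟩
    show u * (a * w * a⁻¹) * u⁻¹ = _
    group

/-- `R` is a Sylow `2`-subgroup of `C_G(H ∩ L)`. -/
theorem syl {P : Subgroup G} (hP : IsPGroup 2 P) (hPA : ∀ v ∈ P, ∀ a ∈ H ⊓ L, v * a = a * v)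
    (hRP : R ≤ P) : P ≤ R := by
  have cr := h.cr c hu uA
  have hP' : Nontrivial P :=
    ⟨⟨⟨z₀, hRP h.z₀R⟩, 1, fun e => h.z₀1 (congrArg Subtype.val e)⟩⟩
  have : Fact (Nat.Prime 2) := ⟨Nat.prime_two⟩
  haveI := hP.center_nontrivial
  obtain ⟨⟨x, hx⟩, hx1⟩ := exists_ne (1 : Subgroup.center P)
  have hx1' : (x : G) ≠ 1 := fun e => hx1 (Subtype.ext (Subtype.ext e))
  have hxc : ∀ y ∈ P, y * (x : G) = x * y := by
    intro y hy
    have := Subgroup.mem_center_iff.1 hx ⟨y, hy⟩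
    exact congrArg Subtype.val this
  obtain ⟨j, hj⟩ := exists_pow_one hP x.2
  have hxR : (x : G) ∈ R := cr.mem_Z h.z₀R h.z₀1 (hxc z₀ (hRP h.z₀R)).symm
    (fun a ha => hPA x x.2 a ha) hj
  intro y hy
  obtain ⟨j, hj⟩ := exists_pow_one hP hy
  exact cr.mem_Z hxR hx1' (hxc y hy) (fun a ha => hPA y hy a ha) hj

end root

end QIn

end Cfsg.Agent.RankTwoClose.QInput

end

section


/-!
# Quadrangles with a central parabolic: the end

`R1 = m R m⁻¹`, `R2 = n R1 n⁻¹`, `U2 = n U n⁻¹`: `K = ⟨R1, R2⟩` commutes with `m (H ∩ L) m⁻¹` and contains a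
reflection; all fields of `Quad.QData`; `QIn.exists_split`.
-/

set_option autoImplicit false

universe u

namespace Cfsg.Agent.RankTwoClose.QInput

open Cfsg.Agent.Omega.RootLemma Cfsg.Agent.RankTwoClose.UFour

variable {G : Type u} [Group G]

namespace QIn

variable {S : Sylow 2 G} {L X U Q O V R A : Subgroup G} {n₀ m₀ z₀ w : G}

section basic

variable [Finite G] (h : QIn S L X U Q O V R A n₀ m₀ z₀ w) {H : Subgroup G} {n k q m : G}
  (c : Cx L X U Q O n₀ H n k q m)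
include h c

theorem R1_V : cj m R ≤ V := by
  have := cj_mono (g := m) h.RV
  rwa [h.cm_V c] at this

theorem R1_U : cj m R ≤ U := (h.R1_V c).trans h.VU

theorem R1_L : cj m R ≤ L := (h.R1_U c).trans h.aL.UL

theorem R1_Q : cj m R ⊓ Q = ⊥ := h.RQ m c.PX.nL c.PX.ne

theorem R2_U2 : cj n (cj m R) ≤ cj n U := cj_mono (h.R1_U c)

theorem U2_L : cj n U ≤ L := by
  have := cj_mono (g := n) h.aL.UL
  rwa [cj_eq_of_mem c.PL.nL] at this

theorem R2_L : cj n (cj m R) ≤ L := (h.R2_U2 c).trans (h.U2_L c)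

theorem R2_Q : cj n (cj m R) ⊓ Q = ⊥ := by
  have h1 : cj n (cj m R ⊓ Q) = cj n (cj m R) ⊓ Q := by rw [cj_inf, h.cn_Q c]
  rw [← h1, h.R1_Q c]
  exact Subgroup.map_bot _

theorem Q_U2 : Q ≤ cj n U := by
  have := cj_mono (g := n) h.QU
  rwa [h.cn_Q c] at this

theorem U_U2 : U ⊓ cj n U ≤ Q := c.PL.inter

/-- `2`-elements normalising `U2` -/
theorem mem_U2 {x : G} (hx : x ∈ L) (hU : cj x (cj n U) = cj n U) {j : ℕ} (h2 : x ^ 2 ^ j = 1) :
    x ∈ cj n U := by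
  rw [mem_cj]
  refine h.two_L (mul_mem (mul_mem (inv_mem c.PL.nL) hx) c.PL.nL) ?_ (n := j) ?_
  · rw [cj_mul, cj_mul, hU, cj_inv_cj]
  · have e : n⁻¹ * x * n = n⁻¹ * x * n⁻¹⁻¹ := by rw [inv_inv]
    rw [e, conj_pow, h2, mul_one, mul_inv_cancel]

/-- an element of `R2` normalising `U` is trivial -/
theorem R2_one {x : G} (hx : x ∈ cj n (cj m R)) (hU : cj x U = U) : x = 1 := by
  have h2 : IsPGroup 2 (cj n U) := isPGroup_cj h.aL.two
  obtain ⟨j, hj⟩ := exists_pow_one h2 (h.R2_U2 c hx)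
  have h3 := h.two_L (h.R2_L c hx) hU hj
  have h4 := h.U_U2 c (Subgroup.mem_inf.mpr ⟨h3, h.R2_U2 c hx⟩)
  have h5 : x ∈ cj n (cj m R) ⊓ Q := Subgroup.mem_inf.mpr ⟨hx, h4⟩
  rwa [h.R2_Q c, Subgroup.mem_bot] at h5

/-- an element of `R1` normalising `U2` is trivial -/
theorem R1_one {x : G} (hx : x ∈ cj m R) (hU : cj x (cj n U) = cj n U) : x = 1 := by
  obtain ⟨j, hj⟩ := exists_pow_one h.aL.two (h.R1_U c hx)
  have h3 := h.mem_U2 c (h.R1_L c hx) hU hj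
  have h4 := h.U_U2 c (Subgroup.mem_inf.mpr ⟨h.R1_U c hx, h3⟩)
  have h5 : x ∈ cj m R ⊓ Q := Subgroup.mem_inf.mpr ⟨hx, h4⟩
  rwa [h.R1_Q c, Subgroup.mem_bot] at h5

/-- The rulings, in terms of `R1`, `R2`. -/
theorem ruling1 {r : G} (hr : r ∈ cj m R) (hr1 : r ≠ 1) :
    ∃ s ∈ cj n (cj m R), cj (r * s * r) (cj n U) = U := by
  have hkL : k ∈ L := h.aL.UL c.hk
  have hkV : k ∈ Subgroup.normalizer (V : Set G) := h.XV (h.aX.UL c.hk)
  have hrQ : r ∉ Q := fun hq => hr1 (by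
    have : r ∈ cj m R ⊓ Q := Subgroup.mem_inf.mpr ⟨hr, hq⟩
    rwa [h.R1_Q c, Subgroup.mem_bot] at this)
  have hv : k⁻¹ * r * k ∈ V := conj_mem' hkV (h.R1_V c hr)
  have hvQ : k⁻¹ * r * k ∉ Q := by
    intro h1
    apply hrQ
    have := conj_mem (h.aL.LQ hkL) h1
    rwa [show k * (k⁻¹ * r * k) * k⁻¹ = r by group] at this
  obtain ⟨y, hy, hy2⟩ := h.ruling _ hv hvQ
  -- `y' = k y k⁻¹`
  have h1 : cj k (cj n₀ V) = cj q (cj n V) := by
    have hV : cj k⁻¹ V = V := mem_norm_iff.mp (inv_mem hkV)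
    calc cj k (cj n₀ V) = cj k (cj n₀ (cj k⁻¹ V)) := by rw [hV]
      _ = cj (k * n₀ * k⁻¹) V := by rw [cj_mul, cj_mul]
      _ = cj q (cj n V) := by rw [← c.e, cj_mul]
  have h2 : k * y * k⁻¹ ∈ cj q (cj n V) := by rw [← h1]; exact conj_mem_cj hy
  rw [mem_cj, mem_cj] at h2
  have hR1Q : cj m R ≤ Subgroup.normalizer (Q : Set G) := (h.R1_L c).trans h.aL.LQ
  obtain ⟨a, ha, b, hb, e1⟩ := mem_sup_norm hR1Q (h.VR m c.PX.nL c.PX.ne h2)
  have hs : n * a * n⁻¹ ∈ cj n (cj m R) := conj_mem_cj ha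
  have hx : n * b * n⁻¹ ∈ Q := conj_mem (h.aL.LQ c.PL.nL) hb
  have e2 : k * y * k⁻¹ = q * ((n * a * n⁻¹) * (n * b * n⁻¹)) * q⁻¹ := by
    calc k * y * k⁻¹ = q * n * (n⁻¹ * (q⁻¹ * (k * y * k⁻¹) * q) * n) * n⁻¹ * q⁻¹ := by group
      _ = q * n * (a * b) * n⁻¹ * q⁻¹ := by rw [e1]
      _ = _ := by group
  have hQn : ∀ l ∈ L, ∀ x ∈ Q, l⁻¹ * x * l ∈ Q := fun l hl x hx => conj_mem' (h.aL.LQ hl) hx
  refine ⟨n * a * n⁻¹, hs, ?_⟩
  -- the correction
  set s := n * a * n⁻¹ with hs'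
  set x := n * b * n⁻¹ with hx'
  have hsL := h.R2_L c hs
  have hrL := h.R1_L c hr
  have ht : (r * s * r)⁻¹ * (r * (k * y * k⁻¹) * r) ∈ Q := by
    rw [e2]
    have e3 : (r * s * r)⁻¹ * (r * (q * (s * x) * q⁻¹) * r) =
        r⁻¹ * ((s⁻¹ * q * s) * x * q⁻¹) * r := by group
    rw [e3]
    exact hQn r hrL _ (mul_mem (mul_mem (hQn s hsL q c.hq) hx) (inv_mem c.hq))
  have h3 : cj (r * (k * y * k⁻¹) * r) (cj n U) = U := by
    rw [c.nU, ← cj_mul]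
    have e4 : r * (k * y * k⁻¹) * r * k = k * ((k⁻¹ * r * k) * y * (k⁻¹ * r * k)) := by group
    rw [e4, cj_mul, hy2, cj_eq_of_mem c.hk]
  have h4 : cj ((r * s * r)⁻¹ * (r * (k * y * k⁻¹) * r)) (cj n U) = cj n U :=
    cj_eq_of_mem (h.Q_U2 c ht)
  calc cj (r * s * r) (cj n U)
      = cj (r * s * r) (cj ((r * s * r)⁻¹ * (r * (k * y * k⁻¹) * r)) (cj n U)) := by rw [h4]
    _ = cj (r * (k * y * k⁻¹) * r) (cj n U) := by rw [← cj_mul, mul_inv_cancel_left]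
    _ = U := h3

/-- The bijection `R1 → R2`. -/
theorem exists_bij : ∃ g : ↥(cj m R) → ↥(cj n (cj m R)), Function.Bijective g ∧
    ∀ r : ↥(cj m R), (r : G) ≠ 1 → cj ((r : G) * g r * r) (cj n U) = U := by
  classical
  choose f hf hf2 using fun (r : G) (hr : r ∈ cj m R) (hr1 : r ≠ 1) => h.ruling1 c hr hr1
  let g : ↥(cj m R) → ↥(cj n (cj m R)) := fun r =>
    if hr : (r : G) = 1 then 1 else ⟨f r r.2 hr, hf r r.2 hr⟩
  have hg : ∀ r : ↥(cj m R), (r : G) ≠ 1 → cj ((r : G) * g r * r) (cj n U) = U := by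
    intro r hr
    have : (g r : G) = f r r.2 hr := by simp only [g, dif_neg hr]
    rw [this]
    exact hf2 r r.2 hr
  have hg' : ∀ r : ↥(cj m R), (r : G) ≠ 1 → cj (r : G) (cj n U) = cj (g r : G)⁻¹ U := by
    intro r hr
    have h1 := hg r hr
    have h2 : cj ((r : G) * g r)⁻¹ (cj ((r : G) * g r) (cj r (cj n U))) = cj ((r : G) * g r)⁻¹ U := by
      rw [← cj_mul ((r : G) * g r), h1]
    rw [cj_inv_cj] at h2
    rw [h2, mul_inv_rev, cj_mul, cj_eq_of_mem (inv_mem (h.R1_U c r.2))]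
  have hg1 : ∀ r : ↥(cj m R), (r : G) ≠ 1 → g r ≠ 1 := by
    intro r hr h1
    have h2 := hg' r hr
    rw [h1] at h2
    apply hr
    apply h.R1_one c r.2
    exfalso
    apply c.PL.ne
    have h3 : cj (r : G) (cj n U) = U := by rw [h2]; simp
    have h4 := congrArg (cj (r : G)⁻¹) h3
    rwa [cj_inv_cj, cj_eq_of_mem (inv_mem (h.R1_U c r.2))] at h4
  have hinj : Function.Injective g := by
    intro r r' hrr
    by_cases hr : (r : G) = 1
    · by_cases hr' : (r' : G) = 1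
      · exact Subtype.ext (hr.trans hr'.symm)
      · exfalso
        apply hg1 r' hr'
        rw [← hrr]
        simp only [g, dif_pos hr]
    · by_cases hr' : (r' : G) = 1
      · exfalso
        apply hg1 r hr
        rw [hrr]
        simp only [g, dif_pos hr']
      · have h1 := hg' r hr
        rw [hrr, ← hg' r' hr'] at h1
        have h2 : cj ((r' : G)⁻¹ * r) (cj n U) = cj n U := by
          rw [cj_mul, h1, cj_inv_cj]
        have h3 := h.R1_one c (mul_mem (inv_mem r'.2) r.2) h2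
        exact Subtype.ext (inv_mul_eq_one.mp h3).symm
  refine ⟨g, ?_, hg⟩
  rw [Nat.bijective_iff_injective_and_card]
  exact ⟨hinj, (card_cj n _).symm⟩

/-- An element which normalises `U`, `U2`, `R2` and commutes with `R1` commutes with `R2`. -/
theorem comm_of {d : G} (hU : cj d U = U) (hU2 : cj d (cj n U) = cj n U)
    (h1 : ∀ r ∈ cj m R, d * r = r * d) (h2 : ∀ s ∈ cj n (cj m R), d * s * d⁻¹ ∈ cj n (cj m R)) :
    ∀ s ∈ cj n (cj m R), d * s = s * d := by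
  obtain ⟨g, hg, hg2⟩ := h.exists_bij c
  intro s hs
  by_cases hs1 : s = 1
  · rw [hs1, mul_one, one_mul]
  obtain ⟨r, hr⟩ := hg.2 ⟨s, hs⟩
  by_cases hr1 : (r : G) = 1
  · -- some `r' ≠ 1` has `g r' = 1`?  use injectivity: `g` is a bijection, so compare with `g⁻¹ 1`
    obtain ⟨r0, hr0⟩ := hg.2 1
    by_cases hr01 : (r0 : G) = 1
    · exfalso
      apply hs1
      have e : r = r0 := Subtype.ext (hr1.trans hr01.symm)
      rw [e, hr0] at hr
      exact (congrArg Subtype.val hr).symm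
    · exfalso
      have h3 := hg2 r0 hr01
      rw [hr0] at h3
      apply c.PL.ne
      have h4 : cj ((r0 : G) * (1 : ↥(cj n (cj m R))) * r0)⁻¹ (cj ((r0 : G) *
        (1 : ↥(cj n (cj m R))) * r0) (cj n U)) = cj ((r0 : G) * (1 : ↥(cj n (cj m R))) * r0)⁻¹ U := by
        rw [h3]
      rw [cj_inv_cj] at h4
      rw [h4]
      apply cj_eq_of_mem
      apply inv_mem
      rw [Subgroup.coe_one, mul_one]
      exact mul_mem (h.R1_U c r0.2) (h.R1_U c r0.2)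
  · have h3 := hg2 r hr1
    rw [hr] at h3
    have h3' : cj ((r : G) * s * r) (cj n U) = U := h3
    have h4 : cj (r : G) (cj n U) = cj s⁻¹ U := by
      have h5 : cj ((r : G) * s)⁻¹ (cj ((r : G) * s) (cj r (cj n U))) = cj ((r : G) * s)⁻¹ U := by
        rw [← cj_mul ((r : G) * s), h3']
      rw [cj_inv_cj] at h5
      rw [h5, mul_inv_rev, cj_mul, cj_eq_of_mem (inv_mem (h.R1_U c r.2))]
    have h5 : cj d (cj s⁻¹ U) = cj s⁻¹ U := by
      rw [← h4, ← cj_mul, h1 r r.2, cj_mul, hU2]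
    have hU' : cj d⁻¹ U = U := mem_norm_iff.mp (inv_mem (mem_norm_iff.mpr hU))
    have h6 : cj (s * (d * s⁻¹ * d⁻¹)) U = U := by
      rw [cj_mul, cj_mul, hU', cj_mul, h5, cj_cj_inv]
    have h7 := h.R2_one c (mul_mem hs (h2 _ (inv_mem hs))) h6
    have h8 : s * d * s⁻¹ * d⁻¹ = 1 := by rw [← h7]; group
    have h9 : s * d = 1 * (d * s) := by rw [← h8]; group
    rw [h9, one_mul]

end basic

section fin

variable [Finite G] (h : QIn S L X U Q O V R A n₀ m₀ z₀ w) {H : Subgroup G} {n k q m u : G}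
  (c : Cx L X U Q O n₀ H n k q m) (hu : u ∈ U) (uA : cj u A = H ⊓ L)
include h c hu uA

theorem H_L : H ≤ Subgroup.normalizer (L : Set G) := by
  have _ := uA
  have _ := hu
  exact c.cpl.HB.trans h.B0_norm_L

theorem H_V : H ≤ Subgroup.normalizer (V : Set G) := by
  have _ := uA
  have _ := hu
  exact c.cpl.HB.trans h.B0_norm_V

theorem cH_U {a : G} (ha : a ∈ H) : cj a U = U := mem_norm_iff.mp (h.H_U c hu uA ha)

theorem cH_U2 {a : G} (ha : a ∈ H) : cj a (cj n U) = cj n U := by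
  have h1 : n⁻¹ * a * n ∈ H := conj_mem' (mem_norm_iff.mpr c.PL.nH) ha
  have e : a * n = n * (n⁻¹ * a * n) := by group
  rw [← cj_mul, e, cj_mul, h.cH_U c hu uA h1]

theorem cH_R {a : G} (ha : a ∈ H) : cj a R = R := by
  have _ := uA
  have _ := hu
  have h1 : cj a Q = Q := mem_norm_iff.mp (c.PL.HX ha)
  rw [← h.comm, cj_comm, h1]

theorem cH_R1 {a : G} (ha : a ∈ H) : cj a (cj m R) = cj m R := by
  have h1 : m⁻¹ * a * m ∈ H := conj_mem' (mem_norm_iff.mpr c.PX.nH) ha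
  have e : a * m = m * (m⁻¹ * a * m) := by group
  rw [← cj_mul, e, cj_mul, h.cH_R c hu uA h1]

theorem cH_R2 {a : G} (ha : a ∈ H) : cj a (cj n (cj m R)) = cj n (cj m R) := by
  have h1 : n⁻¹ * a * n ∈ H := conj_mem' (mem_norm_iff.mpr c.PL.nH) ha
  have e : a * n = n * (n⁻¹ * a * n) := by group
  rw [← cj_mul, e, cj_mul, h.cH_R1 c hu uA h1]

/-- `m (H ∩ L) m⁻¹` commutes with `R1` and `R2` -/
theorem d_R1 {a : G} (ha : a ∈ H ⊓ L) : ∀ r ∈ cj m R, (m * a * m⁻¹) * r = r * (m * a * m⁻¹) := by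
  have _ := uA
  have _ := hu
  have _ := c.mm
  intro r hr
  rw [mem_cj] at hr
  have h1 := h.LR a (Subgroup.mem_inf.mp ha).2 _ hr
  calc (m * a * m⁻¹) * r = m * (a * (m⁻¹ * r * m)) * m⁻¹ := by group
    _ = m * ((m⁻¹ * r * m) * a) * m⁻¹ := by rw [h1]
    _ = r * (m * a * m⁻¹) := by group

theorem d_R2 {a : G} (ha : a ∈ H ⊓ L) :
    ∀ s ∈ cj n (cj m R), (m * a * m⁻¹) * s = s * (m * a * m⁻¹) := by
  have h1 : m * a * m⁻¹ ∈ H :=
    conj_mem (mem_norm_iff.mpr c.PX.nH) (Subgroup.mem_inf.mp ha).1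
  refine h.comm_of c (h.cH_U c hu uA h1) (h.cH_U2 c hu uA h1) (h.d_R1 c hu uA ha) fun s hs => ?_
  rw [← h.cH_R2 c hu uA h1]
  exact conj_mem_cj hs

/-- `K = ⟨R1, R2⟩` commutes with `m (H ∩ L) m⁻¹` -/
theorem d_K {a : G} (ha : a ∈ H ⊓ L) {x : G} (hx : x ∈ cj m R ⊔ cj n (cj m R)) :
    (m * a * m⁻¹) * x = x * (m * a * m⁻¹) := by
  have h1 : cj m R ⊔ cj n (cj m R) ≤ Subgroup.centralizer {m * a * m⁻¹} := by
    refine sup_le (fun r hr => ?_) (fun s hs => ?_)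
    · rw [Subgroup.mem_centralizer_singleton_iff]
      exact (h.d_R1 c hu uA ha r hr).symm
    · rw [Subgroup.mem_centralizer_singleton_iff]
      exact (h.d_R2 c hu uA ha s hs).symm
  exact (Subgroup.mem_centralizer_singleton_iff.mp (h1 hx)).symm

/-- `K ∩ U = R1` -/
theorem K_U : (cj m R ⊔ cj n (cj m R)) ⊓ U = cj m R := by
  refine le_antisymm ?_ (le_inf le_sup_left (h.R1_U c))
  have h1 : cj m⁻¹ ((cj m R ⊔ cj n (cj m R)) ⊓ U) ≤ R := by
    refine h.syl c hu uA (isPGroup_cj (h.aL.two.to_le inf_le_right)) ?_ ?_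
    · intro v hv a ha
      rw [mem_cj, inv_inv] at hv
      have h2 := h.d_K c hu uA ha (Subgroup.mem_inf.mp hv).1
      calc v * a = m⁻¹ * ((m * v * m⁻¹) * (m * a * m⁻¹)) * m := by group
        _ = m⁻¹ * ((m * a * m⁻¹) * (m * v * m⁻¹)) * m := by rw [h2]
        _ = a * v := by group
    · have h2 := cj_mono (g := m⁻¹) (le_inf le_sup_left (h.R1_U c) :
        cj m R ≤ (cj m R ⊔ cj n (cj m R)) ⊓ U)
      rwa [cj_inv_cj] at h2
  have h2 := cj_mono (g := m) h1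
  rwa [cj_cj_inv] at h2

/-- The reflection in `K`. -/
theorem exists_l : ∃ l ∈ cj m R ⊔ cj n (cj m R), cj l U = cj n U ∧ cj l (cj n U) = U := by
  have _ := uA
  have _ := hu
  obtain ⟨g, hg, hg2⟩ := h.exists_bij c
  have key : ∀ r : ↥(cj m R), (r : G) ≠ 1 → cj (r : G) (cj n U) = cj (g r : G)⁻¹ U := by
    intro r hr
    have h1 := hg2 r hr
    have h2 : cj ((r : G) * g r)⁻¹ (cj ((r : G) * g r) (cj r (cj n U))) = cj ((r : G) * g r)⁻¹ U := by
      rw [← cj_mul ((r : G) * g r), h1]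
    rw [cj_inv_cj] at h2
    rw [h2, mul_inv_rev, cj_mul, cj_eq_of_mem (inv_mem (h.R1_U c r.2))]
  -- `r ≠ 1`
  obtain ⟨z, hz, -, -, hz1, -, -⟩ := h.pair
  have hr1 : m * z * m⁻¹ ≠ 1 := by
    intro e
    apply hz1
    calc z = m⁻¹ * (m * z * m⁻¹) * m := by group
      _ = 1 := by rw [e]; group
  let r : ↥(cj m R) := ⟨m * z * m⁻¹, conj_mem_cj hz⟩
  have hr1' : (r : G) ≠ 1 := hr1
  obtain ⟨ρ, hρ⟩ := hg.2 (g r)⁻¹
  have hρ1 : (ρ : G) ≠ 1 := by
    intro e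
    -- `g` is injective and `g r' = 1` for some `r'`
    have hne : ∀ r' : ↥(cj m R), (r' : G) ≠ 1 → g r' ≠ 1 := by
      intro r' hr' h1
      have h2 := hg2 r' hr'
      rw [h1] at h2
      apply c.PL.ne
      have h4 : cj ((r' : G) * (1 : ↥(cj n (cj m R))) * r')⁻¹ (cj ((r' : G) *
        (1 : ↥(cj n (cj m R))) * r') (cj n U)) = cj ((r' : G) * (1 : ↥(cj n (cj m R))) * r')⁻¹ U := by
        rw [h2]
      rw [cj_inv_cj] at h4
      rw [h4]
      apply cj_eq_of_mem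
      apply inv_mem
      rw [Subgroup.coe_one, mul_one]
      exact mul_mem (h.R1_U c r'.2) (h.R1_U c r'.2)
    obtain ⟨r0, hr0⟩ := hg.2 1
    have hr01 : (r0 : G) = 1 := by
      by_contra hcon
      exact hne r0 hcon hr0
    have e2 : ρ = r0 := Subtype.ext (e.trans hr01.symm)
    rw [e2, hr0] at hρ
    exact hne r hr1' (by rw [← inv_inv (g r), ← hρ, inv_one])
  have h1 := key ρ hρ1
  rw [hρ] at h1
  have h1' : cj (ρ : G) (cj n U) = cj (g r : G) U := by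
    rw [h1]; congr 1; simp
  refine ⟨(ρ : G)⁻¹ * g r * r, mul_mem (mul_mem (Subgroup.mem_sup_left (inv_mem ρ.2))
    (Subgroup.mem_sup_right (g r).2)) (Subgroup.mem_sup_left r.2), ?_, ?_⟩
  · rw [cj_mul, cj_eq_of_mem (h.R1_U c r.2), cj_mul, ← h1', cj_inv_cj]
  · have h2 := hg2 r hr1'
    have h3 : cj ((g r : G) * r) (cj n U) = cj (r : G)⁻¹ U := by
      have h4 : cj (r : G)⁻¹ (cj r (cj ((g r : G) * r) (cj n U))) = cj (r : G)⁻¹ U := by
        rw [← cj_mul (r : G), ← mul_assoc, h2]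
      rwa [cj_inv_cj] at h4
    rw [mul_assoc, cj_mul, h3, cj_eq_of_mem (inv_mem (h.R1_U c r.2)),
      cj_eq_of_mem (inv_mem (h.R1_U c ρ.2))]

/-- `K ∩ U2 = R2` -/
theorem K_U2 : (cj m R ⊔ cj n (cj m R)) ⊓ cj n U = cj n (cj m R) := by
  obtain ⟨l, hl, h1, h2⟩ := h.exists_l c hu uA
  refine (Subgroup.eq_of_le_of_card_ge (le_inf le_sup_right (h.R2_U2 c)) ?_).symm
  have h3 : cj l ((cj m R ⊔ cj n (cj m R)) ⊓ U) = (cj m R ⊔ cj n (cj m R)) ⊓ cj n U := by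
    rw [cj_inf, h1, cj_eq_of_mem hl]
  rw [← h3, h.K_U c hu uA, card_cj, card_cj, card_cj, card_cj]

theorem K_L : cj m R ⊔ cj n (cj m R) ≤ L := by
  have _ := uA
  have _ := hu
  exact sup_le (h.R1_L c) (h.R2_L c)

theorem cH_K {a : G} (ha : a ∈ H) : cj a (cj m R ⊔ cj n (cj m R)) = cj m R ⊔ cj n (cj m R) := by
  rw [cj_sup, h.cH_R1 c hu uA ha, h.cH_R2 c hu uA ha]

/-- the elements of `K` normalising `U` and `U2` lie in `H` -/
theorem T_H {t : G} (ht : t ∈ cj m R ⊔ cj n (cj m R)) (h1 : cj t U = U)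
    (h2 : cj t (cj n U) = cj n U) : t ∈ H := by
  set T : Subgroup G := (cj m R ⊔ cj n (cj m R)) ⊓ (Subgroup.normalizer (U : Set G) ⊓
    Subgroup.normalizer ((cj n U : Subgroup G) : Set G)) with hT
  have hTK : T ≤ cj m R ⊔ cj n (cj m R) := inf_le_left
  have hTU : T ≤ Subgroup.normalizer (U : Set G) := inf_le_right.trans inf_le_left
  have hTU2 : T ≤ Subgroup.normalizer ((cj n U : Subgroup G) : Set G) :=
    inf_le_right.trans inf_le_right
  have htT : t ∈ T := Subgroup.mem_inf.mpr ⟨ht, Subgroup.mem_inf.mpr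
    ⟨mem_norm_iff.mpr h1, mem_norm_iff.mpr h2⟩⟩
  -- `2`-elements of `T`
  have hT2 : ∀ y ∈ T, y * y = 1 → y = 1 := by
    intro y hy hyy
    have hyL := h.K_L c hu uA (hTK hy)
    have e : y ^ 2 ^ 1 = 1 := by rw [pow_one, pow_two, hyy]
    have h3 := h.two_L hyL (mem_norm_iff.mp (hTU hy)) e
    have h4 := h.mem_U2 c hyL (mem_norm_iff.mp (hTU2 hy)) e
    have h5 : y ∈ (cj m R ⊔ cj n (cj m R)) ⊓ U := Subgroup.mem_inf.mpr ⟨hTK hy, h3⟩
    rw [h.K_U c hu uA] at h5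
    have h6 : y ∈ cj m R ⊓ Q := Subgroup.mem_inf.mpr
      ⟨h5, h.U_U2 c (Subgroup.mem_inf.mpr ⟨h3, h4⟩)⟩
    rwa [h.R1_Q c, Subgroup.mem_bot] at h6
  -- `H` normalises `T`
  have hHT : H ≤ Subgroup.normalizer (T : Set G) := by
    intro a ha
    rw [mem_norm_iff, hT, cj_inf, cj_inf, h.cH_K c hu uA ha]
    have e1 : cj a (Subgroup.normalizer (U : Set G)) = Subgroup.normalizer (U : Set G) :=
      cj_eq_of_mem (h.H_U c hu uA ha)
    have e2 : cj a (Subgroup.normalizer ((cj n U : Subgroup G) : Set G)) =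
        Subgroup.normalizer ((cj n U : Subgroup G) : Set G) :=
      cj_eq_of_mem (mem_norm_iff.mpr (h.cH_U2 c hu uA ha))
    rw [e1, e2]
  have hodd := h.Hodd c hu uA
  -- `H T` has odd order
  have hHTodd : Odd (Nat.card ↥(H ⊔ T)) := by
    by_contra hcon
    rw [Nat.not_odd_iff_even, even_iff_two_dvd] at hcon
    have : Fact (Nat.Prime 2) := ⟨Nat.prime_two⟩
    obtain ⟨⟨y, hy⟩, hyo⟩ := exists_prime_orderOf_dvd_card' 2 hcon
    rw [Subgroup.orderOf_mk] at hyo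
    have hyy : y * y = 1 := by
      have := pow_orderOf_eq_one y
      rwa [hyo, pow_two] at this
    have hy1 : y ≠ 1 := fun e => by rw [e, orderOf_one] at hyo; omega
    apply hy1
    refine hT2 y ?_ hyy
    obtain ⟨a, ha, x, hx, rfl⟩ := mem_sup_norm hHT hy
    -- `a² ∈ T`
    have h3 : a * a ∈ T := by
      have h4 : (a * a) * ((a⁻¹ * x * a) * x) = 1 := by rw [← hyy]; group
      rw [eq_inv_of_mul_eq_one_left h4]
      exact inv_mem (mul_mem (conj_mem' (hHT ha) hx) hx)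
    have h5 : a ∈ T := by
      obtain ⟨j, hj⟩ := hodd
      have h6 : a ^ Nat.card H = 1 := by
        have := pow_card_eq_one' (x := (⟨a, ha⟩ : H))
        exact congrArg Subtype.val this
      have h7 : a = ((a * a) ^ j)⁻¹ := by
        rw [hj, pow_succ, pow_mul, pow_two] at h6
        exact eq_inv_of_mul_eq_one_right h6
      rw [h7]
      exact inv_mem (pow_mem h3 j)
    exact mul_mem h5 hx
  have hB : H ⊔ T ≤ B0 L X U := by
    refine sup_le c.cpl.HB fun y hy => Subgroup.mem_sup_left (Subgroup.mem_inf.mpr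
      ⟨h.K_L c hu uA (hTK hy), hTU hy⟩)
  exact h.nt.le_of_le c.cpl hB le_sup_left hHTodd (Subgroup.mem_sup_right htT)

/-- `refl` -/
theorem refl : ∃ l ∈ cj m R ⊔ cj n (cj m R), n⁻¹ * l ∈ H := by
  obtain ⟨l, hl, h1, h2⟩ := h.exists_l c hu uA
  refine ⟨l, hl, ?_⟩
  have hl1 : cj l⁻¹ U = cj n U := by
    have := congrArg (cj l⁻¹) h2
    rw [cj_inv_cj] at this
    exact this.symm
  have hl2 : cj l⁻¹ (cj n U) = U := by rw [← h1, cj_inv_cj]
  have hlL := h.K_L c hu uA hl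
  -- `l` normalises `H`
  have hlH : ∀ a ∈ H, l * a * l⁻¹ ∈ H := by
    intro a ha
    have hK : a * l⁻¹ * a⁻¹ ∈ cj m R ⊔ cj n (cj m R) := by
      have h3 : a * l⁻¹ * a⁻¹ ∈ cj a (cj m R ⊔ cj n (cj m R)) := conj_mem_cj (inv_mem hl)
      rwa [h.cH_K c hu uA ha] at h3
    have hai := h.cH_U c hu uA (inv_mem ha)
    have hai2 := h.cH_U2 c hu uA (inv_mem ha)
    have h3 : l * (a * l⁻¹ * a⁻¹) ∈ H := by
      refine h.T_H c hu uA (mul_mem hl hK) ?_ ?_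
      · rw [cj_mul, cj_mul, hai, cj_mul, hl1, h.cH_U2 c hu uA ha, h2]
      · rw [cj_mul, cj_mul, hai2, cj_mul, hl2, h.cH_U c hu uA ha, h1]
    have e : l * a * l⁻¹ = l * (a * l⁻¹ * a⁻¹) * a := by group
    rw [e]
    exact mul_mem h3 ha
  have hlN : l ∈ Subgroup.normalizer (H : Set G) := Central.mem_norm_of hlH
  have hnN : n ∈ Subgroup.normalizer (H : Set G) := mem_norm_iff.mpr c.PL.nH
  have hn1 : cj n⁻¹ (cj n U) = U := cj_inv_cj _ _
  have hn2 : cj n⁻¹ U = cj n U := by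
    have := congrArg (cj n⁻¹) c.nn
    rw [cj_inv_cj] at this
    exact this.symm
  have h3 : n⁻¹ * l ∈ Q ⊔ (H ⊓ L) := by
    refine c.bor _ (mul_mem (inv_mem c.PL.nL) hlL) ?_ ?_
    · rw [cj_mul, h1, hn1]
    · rw [cj_mul, h2, hn2]
  have hHQ : H ⊓ L ≤ Subgroup.normalizer (Q : Set G) := inf_le_left.trans c.PL.HX
  rw [sup_comm] at h3
  obtain ⟨a, ha, x, hx, e⟩ := mem_sup_norm hHQ h3
  have haH := (Subgroup.mem_inf.mp ha).1
  have hxN : x ∈ Subgroup.normalizer (H : Set G) := by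
    have : x = a⁻¹ * (n⁻¹ * l) := by rw [e]; group
    rw [this]
    exact mul_mem (inv_mem (Subgroup.le_normalizer haH)) (mul_mem (inv_mem hnN) hlN)
  have hQ2 : IsPGroup 2 Q := h.aL.two.to_le h.QU
  have hxc : ∀ b ∈ H, b * x = x * b := by
    intro b hb
    have h4 : x * b * x⁻¹ * b⁻¹ ∈ H := mul_mem (conj_mem hxN hb) (inv_mem hb)
    have h5 : x * b * x⁻¹ * b⁻¹ ∈ Q := by
      have e2 : x * b * x⁻¹ * b⁻¹ = x * (b * x⁻¹ * b⁻¹) := by group
      rw [e2]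
      exact mul_mem hx (conj_mem (c.PL.HX hb) (inv_mem hx))
    have h6 := eq_one_of_odd_two (h.Hodd c hu uA) hQ2 h4 h5
    have h7 : x * b = 1 * (b * x) := by rw [← h6]; group
    rw [h7, one_mul]
  have hxR : x ∈ R := (h.cr c hu uA).cent x (h.US (h.QU hx)) fun b hb =>
    hxc b (Subgroup.mem_inf.mp hb).1
  have hx1 : x = 1 := by
    refine h.fixR x hxR fun g hg hgU => ?_
    obtain ⟨v, hv, b, hb, rfl⟩ := h.nt.exists_mul c.cpl (b := g)
      (Subgroup.mem_sup_right (Subgroup.mem_inf.mpr ⟨hg, mem_norm_iff.mpr hgU⟩))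
    rw [mul_assoc, hxc b hb, ← mul_assoc, h.LR v (h.aL.UL hv) x hxR, mul_assoc]
  rw [e, hx1, mul_one]
  exact haH

end fin

section assembly

variable [Finite G] (h : QIn S L X U Q O V R A n₀ m₀ z₀ w)
include h

/-- **All the fields of `Quad.QData`.** -/
theorem exists_qdata : ∃ H A' n m w', H ≤ B0 L X U ∧
    Quad.QData S L X U Q O R (V ⊓ Q) (Q ⊓ Subgroup.centralizer (V : Set G)) H A' n m z₀ w' := by
  obtain ⟨H, n, k, q, m, u, c, hu, uA⟩ := h.exists_cx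
  refine ⟨H, H ⊓ L, n, m, u * w * u⁻¹, c.cpl.HB, ?_⟩
  have hUV : U ≤ Subgroup.normalizer (V : Set G) := h.aX.UL.trans h.XV
  refine
    { two := ⟨h.aL.two, h.Hodd c hu uA, h.H_U c hu uA, c.PL, c.PX, ?_⟩
      cr := h.cr c hu uA
      n1A := ?_
      n2A := ?_
      EU := h.R1_U c
      EQ1 := ?_
      comm := ?_
      refl := h.refl c hu uA
      pair := h.pair
      YQ1 := inf_le_right
      YQ2 := ?_
      DQ1 := inf_le_left
      DQ2 := h.D_O c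
      YB := ?_
      DB := ?_
      X4 := h.X4 c
      X1 := h.X1 c }
  · -- `n ∉ X H`
    intro hn
    have h1 : X ⊔ H ≤ Subgroup.normalizer (V : Set G) := sup_le h.XV (h.H_V c hu uA)
    have h2 : cj n V = V := mem_norm_iff.mp (h1 hn)
    obtain ⟨z, hz, -, -, hz1, -, -⟩ := h.pair
    apply hz1
    have h3 : n * (m * z * m⁻¹) * n⁻¹ ∈ cj n (cj m R) := conj_mem_cj (conj_mem_cj hz)
    have h4 : n * (m * z * m⁻¹) * n⁻¹ ∈ V := by
      rw [← h2]; exact conj_mem_cj (h.R1_V c (conj_mem_cj hz))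
    have h5 := h.R2_one c h3 (cj_eq_of_mem (h.VU h4))
    calc z = m⁻¹ * (n⁻¹ * (n * (m * z * m⁻¹) * n⁻¹) * n) * m := by group
      _ = 1 := by rw [h5]; group
  · intro a ha
    obtain ⟨h1, h2⟩ := Subgroup.mem_inf.mp ha
    exact Subgroup.mem_inf.mpr ⟨conj_mem' (mem_norm_iff.mpr c.PL.nH) h1,
      mul_mem (mul_mem (inv_mem c.PL.nL) h2) c.PL.nL⟩
  · intro a ha
    obtain ⟨h1, h2⟩ := Subgroup.mem_inf.mp ha
    have h3 : cj (m * m) L = L := h.XL _ (mul_mem c.PX.nL c.PX.nL) (by rw [cj_mul, c.mm])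
    have h4 : m * m ∈ Subgroup.normalizer (H : Set G) :=
      mul_mem (mem_norm_iff.mpr c.PX.nH) (mem_norm_iff.mpr c.PX.nH)
    exact Subgroup.mem_inf.mpr ⟨conj_mem' h4 h1, conj_mem' (mem_norm_iff.mpr h3) h2⟩
  · intro hle
    apply h.z₀1
    have h1 : m * z₀ * m⁻¹ ∈ cj m R ⊓ Q :=
      Subgroup.mem_inf.mpr ⟨conj_mem_cj h.z₀R, hle (conj_mem_cj h.z₀R)⟩
    rw [h.R1_Q c, Subgroup.mem_bot] at h1
    calc z₀ = m⁻¹ * (m * z₀ * m⁻¹) * m := by group
      _ = 1 := by rw [h1]; group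
  · intro a ha z hz
    exact (h.d_R2 c hu uA ha _ (conj_mem_cj (conj_mem_cj hz))).symm
  · intro x hx
    obtain ⟨h1, -⟩ := Subgroup.mem_inf.mp hx
    refine c.PX.inter (Subgroup.mem_inf.mpr ⟨h.VU h1, ?_⟩)
    rw [mem_cj]
    exact h.VU (conj_mem' (h.XV c.PX.nL) h1)
  · refine sup_le h.U_E fun a ha => norm_inf (h.H_V c hu uA ha) (c.PL.HX ha)
  · refine sup_le (h.U_D c) fun a ha => norm_inf (c.PL.HX ha)
      (h.centralizer_norm c (h.H_V c hu uA ha))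

/-- **The closing theorem.** `⟨L, X⟩` has a split `BN`-pair of rank two. -/
theorem exists_split (hB : Bender.{u}) : ∃ P : Cfsg.BNPair ↥(L ⊔ X), P.rank = 2 ∧ P.IsSplit := by
  obtain ⟨H, A', n, m, w', hHB, d⟩ := h.exists_qdata
  have hH : H ≤ L ⊔ X := hHB.trans (sup_le_sup inf_le_left inf_le_left)
  have hX : (L ⊔ H) ⊔ (X ⊔ H) = L ⊔ X := by
    refine le_antisymm (sup_le (sup_le le_sup_left hH) (sup_le le_sup_right hH)) ?_
    exact sup_le_sup le_sup_left le_sup_left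
  obtain ⟨P, h1, h2, -⟩ := d.exists_split hB hX
  exact ⟨P, h1, h2⟩

end assembly

end QIn

end Cfsg.Agent.RankTwoClose.QInput

end
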